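import Cfsg.Agent.H40.E8FKit

/-! A power of `ad v` is `ad` of the torus part of `v`. -/

set_option autoImplicit false

namespace H73.E8Pow
open Cfsg.Lie H63 H64 H65 H46 H14.E8 Matrix Module H40.E8F

variable {D : ChevalleyDatum} [RS D] {k : Type} [Field k]

/-- the height of a basis vector -/
def hI : D.Idx → ℤ := Sum.elim (fun _ => 0) ht

theorem br_ht {r : Rt D} (hr : Pos r) (j l : D.Idx) (h : hI l ≤ hI j) :
    vec D k (br D r (enc D j)) l = 0 := by
  have p := pos_iff_ht.1 hr
  have b : ∀ (u : Rt D) (a : k), hI j < ht u → (a • bv D k u) l = 0 := fun u a hu => by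
    rw [Pi.smul_apply, bv, if_neg, smul_zero]
    intro e
    rw [enc_injective D (e.trans (enc_inr D u).symm)] at h
    exact absurd hu (not_lt.2 h)
  rcases j with i | s
  · rw [enc_inl, br_root_h r.2, vec_cons, vec_nil, add_zero]
    exact b r _ p
  · rw [enc_inr]
    by_cases e : s = negR r
    · rw [e, negR_val, br_root_neg r.2]
      rcases l with i | u
      · rw [e] at h
        have : (0 : ℤ) ≤ ht (negR r) := h
        rw [ht_negR] at this; omega
      · exact vec_coL_inr ..
    · rw [br_root_root r.2 s.2 fun a => e (Fin.ext a)]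
      rcases c : D.chainEntry r s with _ | ⟨⟨u, M⟩, L⟩
      · rfl
      · obtain ⟨hu, a⟩ := chain_head_rt c
        rw [List.take_succ_cons, List.take_zero, vec_cons, vec_nil, add_zero]
        refine b ⟨u, hu⟩ _ ?_
        rw [ht_of_add a]
        show ht s < _
        omega

theorem step {n w : D.Idx → k} (h1 : NoH n) (h2 : InB n) {m : ℤ} (hw : ∀ l, hI l < m → w l = 0) :
    ∀ l, hI l < m + 1 → B D k n w l = 0 := fun l hl => by
  rw [B_eq_sum, Finset.sum_apply]
  refine Finset.sum_eq_zero fun i _ => ?_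
  rw [Finset.sum_apply]
  refine Finset.sum_eq_zero fun j _ => ?_
  rw [Pi.smul_apply, smul_eq_mul]
  rcases i with i | r
  · rw [h1, zero_mul, zero_mul]
  by_cases p : Pos r
  · by_cases q : hI j < m
    · rw [hw j q, mul_zero, zero_mul]
    · rw [enc_inr, br_ht p j l (by omega), mul_zero]
  · rw [h2 r p, zero_mul, zero_mul]

theorem nilp {n : D.Idx → k} (h1 : NoH n) (h2 : InB n) :
    ∃ t : ℕ, (B D k n : End k (D.Idx → k)) ^ t = 0 := by
  obtain ⟨a, ha⟩ := (Set.finite_range (hI (D := D))).bddBelow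
  obtain ⟨b, hb⟩ := (Set.finite_range (hI (D := D))).bddAbove
  have k1 : ∀ (t : ℕ) (w : D.Idx → k) l, hI l < a + t → ((B D k n : End k (D.Idx → k)) ^ t) w l = 0 := by
    intro t w
    induction t with
    | zero => exact fun l hl => absurd (ha ⟨l, rfl⟩) (by omega)
    | succ t ih => exact fun l hl => by rw [pow_succ']; exact step h1 h2 ih l (by omega)
  exact ⟨(b + 1 - a).toNat, LinearMap.ext fun w => funext fun l => k1 _ w l (by
    have := hb ⟨l, rfl⟩
    omega)⟩

omit [RS D] in
theorem hp_sum (v : D.Idx → k) : hp v = ∑ i : Fin D.rank, v (Sum.inl i) • bv D k (D.nroots + i) := by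
  funext j
  rcases j with i | u
  · simp [bv_inl, Fin.val_inj, hp]
  · have (i : Fin D.rank) : ¬ (u : ℕ) = D.nroots + i := by have := u.2; omega
    simp [bv_inr, this, hp]

theorem diag (v w : D.Idx → k) (l : D.Idx) :
    B D k (hp v) w l = Sum.elim (fun _ => 0) (fun r : Rt D => rv v r) l * w l := by
  rw [hp_sum, map_sum, LinearMap.sum_apply, Finset.sum_apply]
  simp only [map_smul, LinearMap.smul_apply, Pi.smul_apply, B_h_apply (Fin.is_lt _), smul_eq_mul]
  rcases l with i | r
  · simp [wtv]
  · rw [Sum.elim_inr, rv, Finset.sum_mul]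
    exact Finset.sum_congr rfl fun i _ => by rw [enc_inr, wtv, if_pos r.2]; ring

theorem jobPow : JobPow := by
  intro D _ _ v h1 h2
  let d : D.Idx → K3 := Sum.elim (fun _ => 0) fun r : Rt D => rv v r
  have n1 : NoH (v - hp v) := fun i => sub_self _
  have n2 : InB (v - hp v) := fun r hr => by rw [Pi.sub_apply, h1 r hr, hp_inr, sub_zero]
  obtain ⟨t, ht⟩ := nilp n1 n2
  have c : Commute (B D K3 (hp v) : End K3 (D.Idx → K3)) (B D K3 (v - hp v)) := by
    rw [Commute, SemiconjBy, ← sub_eq_zero, ← B_B, show B D K3 (hp v) (v - hp v) = 0 from funext fun l => ?_,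
      map_zero]
    rw [diag]
    rcases l with i | r
    · exact zero_mul _
    · by_cases e : v (Sum.inr r) = 0
      · rw [Pi.sub_apply, e, hp_inr, sub_zero, mul_zero]; rfl
      · rw [Sum.elim_inr, h2 r e, zero_mul]; rfl
  let K := IntermediateField.adjoin (ZMod 3) (Set.range d)
  have : FiniteDimensional (ZMod 3) K :=
    IntermediateField.finiteDimensional_adjoin fun x _ => Algebra.IsIntegral.isIntegral x
  have : Finite K := Module.finite_of_finite (ZMod 3)
  have := Fintype.ofFinite K
  obtain ⟨n, -, hn⟩ := FiniteField.card K 3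
  have e : ∀ l, d l ^ 3 ^ (n * t) = d l := fun l => by
    have := FiniteField.pow_card_pow t (⟨d l, IntermediateField.subset_adjoin _ _ ⟨l, rfl⟩⟩ : K)
    rw [hn, ← pow_mul] at this
    exact congrArg Subtype.val this
  have p : ∀ (s : ℕ) (w : D.Idx → K3) l, ((B D K3 (hp v) : End K3 (D.Idx → K3)) ^ s) w l = d l ^ s * w l := by
    intro s w l
    induction s with
    | zero => simp
    | succ s ih => rw [pow_succ', End.mul_apply, diag, ih, pow_succ', mul_assoc]
  obtain ⟨z, hz⟩ := c.exists_add_pow_prime_pow_eq Nat.prime_three (n * t)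
  have h3 : ((3 : ℕ) : End K3 (D.Idx → K3)) = 0 := by
    rw [← map_natCast (algebraMap K3 _), CharP.cast_eq_zero K3 3, map_zero]
  refine ⟨n * t, ?_⟩
  rw [← map_add, add_sub_cancel, h3, pow_eq_zero_of_le ((Nat.le_mul_of_pos_left t n.pos).trans
    (Nat.lt_pow_self (by norm_num : 1 < 3)).le) ht] at hz
  rw [hz]
  simp only [zero_mul, add_zero]
  exact LinearMap.ext fun w => funext fun l => by rw [p, e, diag]

end H73.E8Pow
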