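import Cfsg.Agent.H32.CliffordCorr
import Cfsg.Agent.H30.Vanish
import Cfsg.Agent.H28.Degree
import Cfsg.Agent.H46.Prod
import Cfsg.Agent.H98.Sylow
import Cfsg.Agent.H2.MinNormal
import Cfsg.Agent.H4.HallBasic
import Cfsg.Agent.H5.FrobCompl
import Cfsg.Agent.H18.Misc

/-! Solvable groups with few `p`-singular vanishing elements. -/

set_option autoImplicit false
set_option maxHeartbeats 400000

namespace H73.RD
open Cfsg H28 Subgroup
open scoped commutatorElement

universe u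

/-- An abelian group acting faithfully and coprimely on an abelian group has a regular orbit. -/
theorem regOrb {W : Type*} [CommGroup W] [Finite W] (A : Subgroup (MulAut W))
    (hA : ∀ a ∈ A, ∀ b ∈ A, a * b = b * a) (hc : ∀ a ∈ A, (orderOf a).Coprime (Nat.card W)) :
    ∃ w : W, ∀ a ∈ A, a w = w → a = 1 := by
  classical
  haveI : Finite (MulAut W) := Finite.of_injective _ DFunLike.coe_injective
  obtain ⟨_, ⟨w, rfl⟩, hmin⟩ := H2.exists_minimal_subgroup
    (fun S : Subgroup (MulAut W) => ∃ w : W, S = A ⊓ MulAction.stabilizer (MulAut W) w) ⟨_, 1, rfl⟩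
  refine ⟨w, fun s hs hsw => ?_⟩
  ext μ0
  let T := zpowers s
  have := Fintype.ofFinite T
  have hTA : T ≤ A := zpowers_le.2 hs
  let Nm : W →* W := ∏ t : T, (t : MulAut W).toMonoidHom
  have hNm : ∀ v, Nm v = ∏ t : T, (t : MulAut W) v := fun v => by
    simp only [Nm, MonoidHom.finset_prod_apply]; rfl
  have h1 : ∀ a ∈ A, ∀ v, Nm (a v) = a (Nm v) := fun a ha v => by
    rw [hNm, hNm, map_prod]
    exact Finset.prod_congr rfl fun t _ => DFunLike.congr_fun (hA t (hTA t.2) a ha) v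
  have h2 : ∀ v, s (Nm v) = Nm v := fun v => by
    rw [hNm, map_prod]
    exact Equiv.prod_comp (Equiv.mulLeft (⟨s, mem_zpowers s⟩ : T)) (fun t => (t : MulAut W) v)
  have h3 : ∀ v, s v = v → Nm v = v ^ orderOf s := fun v hv => by
    have : T ≤ MulAction.stabilizer (MulAut W) v := zpowers_le.2 hv
    have e : ∀ t : T, (t : MulAut W) v = v := fun t => this t.2
    simp only [hNm, e]
    rw [Finset.prod_const, Finset.card_univ, ← Nat.card_eq_fintype_card, Nat.card_zpowers]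
  have h4 : ∀ v : W, v ^ orderOf s = 1 → v = 1 := fun v hv => by
    have := Nat.dvd_gcd (orderOf_dvd_of_pow_eq_one hv) (orderOf_dvd_natCard v)
    rwa [(hc s hs).gcd_eq_one, Nat.dvd_one, orderOf_eq_one_iff] at this
  set μ := μ0 ^ orderOf s / Nm μ0 with hμ
  have h5 : Nm μ = 1 := by rw [hμ, map_div, map_pow, h3 _ (h2 μ0), div_self']
  have h6 : ∀ a ∈ A, a (w * μ) = w * μ → a w = w := fun a ha e => by
    rw [map_mul] at e
    have e1 : a w / w = μ / a μ := by
      rw [div_eq_div_iff_mul_eq_mul, e, mul_comm]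
    have e2 : s (a w / w) = a w / w := by
      rw [map_div, hsw]
      congr 1
      change (s * a) w = a w
      rw [hA s hs a ha]
      change a (s w) = a w
      rw [hsw]
    refine div_eq_one.1 (h4 _ ?_)
    rw [← h3 _ e2, e1, map_div, h1 a ha, h5, map_one, div_one]
  have h7 := hmin _ ⟨w * μ, rfl⟩ fun a ha => ⟨ha.1, h6 a ha.1 ha.2⟩
  have h8 : s (w * μ) = w * μ := (h7.ge ⟨hs, hsw⟩).2
  rw [map_mul, hsw, mul_right_inj] at h8
  have h9 : μ0 ^ orderOf s = Nm μ0 := div_eq_one.1 (h4 μ (by rw [← h3 μ h8, h5]))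
  refine div_eq_one.1 (h4 _ ?_)
  change (s μ0 / μ0) ^ orderOf s = 1
  rw [div_pow, ← map_pow, h9, h2, div_self']

variable {G : Type u} [Group G]

/-- vanishing element -/
def Van (g : G) : Prop := ∃ χ : G → ℂ, IsIrrCharacter G χ ∧ χ g = 0

theorem Van.of_map {H : Type*} [Group H] (f : G →* H) (hf : Function.Surjective f) {g : G}
    (h : Van (f g)) : Van g :=
  let ⟨χ, h1, h2⟩ := h; ⟨fun x => χ (f x), h1.comp_surjective f hf, h2⟩

/-- the working hypothesis -/
def WH (p : ℕ) (G : Type u) [Group G] : Prop :=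
  ∀ (x : G) (k : ℕ), Van x → Van (x ^ k) → p ∣ orderOf (x ^ k) → x ∈ zpowers (x ^ k)

theorem WH.quot {p : ℕ} (h : WH p G) (N : Subgroup G) [N.Normal] : WH p (G ⧸ N) := by
  intro x k h1 h2 h3
  obtain ⟨x, rfl⟩ := QuotientGroup.mk'_surjective N x
  rw [← map_pow] at h2 h3 ⊢
  obtain ⟨m, hm⟩ := h x k (h1.of_map _ (QuotientGroup.mk'_surjective N))
    (h2.of_map _ (QuotientGroup.mk'_surjective N)) (h3.trans (orderOf_map_dvd _ _))
  exact ⟨m, by simp only at hm ⊢; rw [← map_zpow, hm]⟩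

variable [Finite G]

theorem van_of_inertia {N : Subgroup G} [N.Normal] {θ : N → ℂ} (hθ : IsIrrCharacter N θ) {g : G}
    (hg : ∀ c : G, c * g * c⁻¹ ∉ H32.inertia θ) : Van g := by
  have := Fintype.ofFinite G
  have := Fintype.ofFinite N
  set T := H32.inertia θ with hT
  have := Fintype.ofFinite T
  have hNT : N ≤ T := H32.le_inertia hθ.isClassFunction
  have := Fintype.ofFinite (N.subgroupOf T)
  obtain ⟨ψ, hψ, h⟩ := H32.exists_irr_over (H32.isIrrCharacter_subgroupOf hNT hθ)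
  rw [H32.classInner_res_subgroupOf hNT] at h
  refine ⟨_, (H32.cliffordCorr_irr hθ hT hNT hψ h).1, H33.indFun_eq_zero_of _ _ _ fun y hy => ?_⟩
  obtain ⟨c, hc⟩ := isConj_iff.1 hy
  exact absurd (hc ▸ y.2) (hg c)

theorem van_of_conj {Z : Subgroup G} [Z.Normal] (hZ : Z ≠ ⊥) {b : G}
    (h : ∀ n ∈ Z, IsConj b (n * b)) : Van b := by
  have := Fintype.ofFinite Z
  obtain ⟨z, hz, hz1⟩ := H46.exists_ne_one_of_ne_bot hZ
  obtain ⟨χ, hχ, h1⟩ := exists_irr_not_mem_charKer hz1
  have h2 := H30.sum_coset_eq_zero hχ Z (fun h => h1 (h hz)) b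
  rw [Finset.sum_congr rfl (g := fun _ => χ b) (fun (n : Z) _ =>
    (H33.IsClassFunction.eq_of_isConj hχ.isClassFunction (h n n.2)).symm), Finset.sum_const,
    Finset.card_univ, nsmul_eq_mul, mul_eq_zero, Nat.cast_eq_zero] at h2
  exact ⟨χ, hχ, h2.resolve_left Fintype.card_ne_zero⟩

omit [Finite G] in
/-- the action on linear characters -/
def dualAct (N : Subgroup G) [N.Normal] : G →* MulAut (N →* ℂˣ) where
  toFun g :=
    { toFun := fun l => l.comp (MulAut.conjNormal g⁻¹).toMonoidHom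
      invFun := fun l => l.comp (MulAut.conjNormal g).toMonoidHom
      left_inv := fun l => by ext n; simp
      right_inv := fun l => by ext n; simp
      map_mul' := fun a b => rfl }
  map_one' := by ext l n; simp
  map_mul' a b := by ext l n; simp

variable {p : ℕ} [hp : Fact p.Prime]

theorem mem_of_cent (hO : pCore p G = ⊥) {N : Subgroup G} [N.Normal]
    {Z : Subgroup (G ⧸ N)} [Z.Normal] (hZ : IsPGroup p Z) (hN : ¬ p ∣ Nat.card N) {z : G}
    (hz : (z : G ⧸ N) ∈ Z) (hc : z ∈ centralizer (N : Set G)) : z ∈ N := by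
  let C : Subgroup G := Z.comap (QuotientGroup.mk' N) ⊓ centralizer (N : Set G)
  haveI := hZ.isNilpotent
  let f : C →* Z := ((QuotientGroup.mk' N).comp C.subtype).codRestrict Z fun c => c.2.1
  haveI : Group.IsNilpotent C := Subgroup.isNilpotent_of_ker_le_center f fun c hc' => by
    have h1 : (c : G) ∈ N := (QuotientGroup.eq_one_iff _).1 (congrArg Subtype.val hc')
    exact mem_center_iff.2 fun g => Subtype.ext (g.2.2 c h1).symm
  obtain ⟨k, hk⟩ := hZ ⟨z, hz⟩
  have h1 : z ^ p ^ k ∈ N := (QuotientGroup.eq_one_iff _).1 (congrArg Subtype.val hk)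
  have h2 : ((⟨z, hz, hc⟩ : C) ^ Nat.card N) ^ p ^ k = 1 := Subtype.ext (by
    change (z ^ Nat.card N) ^ p ^ k = 1
    rw [← pow_mul, mul_comm, pow_mul]
    exact congrArg Subtype.val (pow_card_eq_one' (x := (⟨_, h1⟩ : N))))
  have h3 := H2.map_pCore_subtype_le (p := p) C (mem_map_of_mem C.subtype
    (H2.le_pCore_of_isNilpotent (isPGroup_zpowers_of_pow h2) (mem_zpowers _)))
  rw [hO, mem_bot] at h3
  have h4 : orderOf (z : G ⧸ N) ∣ Nat.gcd (p ^ k) (Nat.card N) := Nat.dvd_gcd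
    (orderOf_dvd_of_pow_eq_one (congrArg Subtype.val hk))
    (orderOf_dvd_of_pow_eq_one (by rw [← QuotientGroup.mk_pow]; exact congrArg _ h3))
  rwa [(((Nat.Prime.coprime_iff_not_dvd hp.out).2 hN).pow_left k).gcd_eq_one, Nat.dvd_one,
    orderOf_eq_one_iff, QuotientGroup.eq_one_iff] at h4

theorem van_of_abelian (hO : pCore p G = ⊥) {N : Subgroup G} [hNn : N.Normal]
    (hab : IsMulCommutative N) {Z : Subgroup (G ⧸ N)} [hZn : Z.Normal] (hZ : IsPGroup p Z)
    (hZc : IsMulCommutative Z) (hN : ¬ p ∣ Nat.card N) {g : G} (hg : (g : G ⧸ N) ∈ Z)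
    (hgN : g ∉ N) : Van g := by
  have hW : Nat.card (N →* ℂˣ) = (commutator N).index := card_hom_units
  haveI : Finite (N →* ℂˣ) := Nat.finite_of_card_ne_zero (hW ▸ index_ne_zero_of_finite)
  have hker : ∀ n ∈ N, dualAct N n = 1 := fun n hn => by
    ext l m
    have : MulAut.conjNormal n⁻¹ m = m := Subtype.ext (by
      rw [MulAut.conjNormal_apply, mul_inv_eq_iff_eq_mul]
      exact congrArg Subtype.val (hab.is_comm.comm ⟨_, inv_mem hn⟩ m))
    change ((l (MulAut.conjNormal n⁻¹ m) : ℂˣ) : ℂ) = l m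
    rw [this]
  let A : Subgroup (MulAut (N →* ℂˣ)) := (Z.comap (QuotientGroup.mk' N)).map (dualAct N)
  obtain ⟨l, hl⟩ := regOrb (W := N →* ℂˣ) A (by
      rintro _ ⟨a, ha, rfl⟩ _ ⟨b, hb, rfl⟩
      rw [← commutatorElement_eq_one_iff_mul_comm, ← map_commutatorElement (dualAct N)]
      refine hker _ ((QuotientGroup.eq_one_iff _).1 ?_)
      rw [← QuotientGroup.mk'_apply, map_commutatorElement, commutatorElement_eq_one_iff_mul_comm]
      exact congrArg Subtype.val (hZc.is_comm.comm ⟨_, ha⟩ ⟨_, hb⟩)) (by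
      rintro _ ⟨a, ha, rfl⟩
      obtain ⟨k, hk⟩ := hZ ⟨_, ha⟩
      have h1 : a ^ p ^ k ∈ N := (QuotientGroup.eq_one_iff _).1 (congrArg Subtype.val hk)
      have h2 : orderOf (dualAct N a) ∣ p ^ k :=
        orderOf_dvd_of_pow_eq_one (by rw [← map_pow, hker _ h1])
      rw [hW]
      exact ((((Nat.Prime.coprime_iff_not_dvd hp.out).2 hN).pow_left k).coprime_dvd_left
        h2).coprime_dvd_right (index_dvd_card _))
  refine van_of_inertia (isIrrCharacter_of_hom l) fun c hc => hgN ?_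
  have h1 : ((c * g * c⁻¹)⁻¹ : G) ∈ Z.comap (QuotientGroup.mk' N) :=
    inv_mem ((inferInstance : (Z.comap (QuotientGroup.mk' N)).Normal).conj_mem g hg c)
  have h2 := hl _ (mem_map_of_mem _ h1) (by
    ext n
    change ((l (MulAut.conjNormal (c * g * c⁻¹)⁻¹⁻¹ n) : ℂˣ) : ℂ) = l n
    rw [inv_inv]
    exact H32.mem_inertia_iff.1 hc n)
  have h3 : (c * g * c⁻¹)⁻¹ ∈ N := mem_of_cent hO hZ hN h1 fun n hn => by
    have : MulAut.conjNormal (c * g * c⁻¹)⁻¹⁻¹ ⟨n, hn⟩ * (⟨n, hn⟩ : N)⁻¹ = 1 :=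
      eq_one_of_forall_irr fun χ hχ => by
        obtain ⟨f, rfl⟩ := hχ.isCharacter.exists_hom (hχ.apply_one_of_comm hab.is_comm.comm)
        have e : f (MulAut.conjNormal (c * g * c⁻¹)⁻¹⁻¹ ⟨n, hn⟩) = f ⟨n, hn⟩ :=
          DFunLike.congr_fun (DFunLike.congr_fun h2 f) ⟨n, hn⟩
        simp only [map_mul f, map_inv f, e, mul_inv_cancel, map_one]
    have e := congrArg Subtype.val (mul_inv_eq_one.1 this)
    rw [MulAut.conjNormal_apply, inv_inv] at e
    change (c * g * c⁻¹) * n * (c * g * c⁻¹)⁻¹ = n at e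
    calc n * (c * g * c⁻¹)⁻¹ = (c * g * c⁻¹)⁻¹ * ((c * g * c⁻¹) * n * (c * g * c⁻¹)⁻¹) := by group
      _ = _ := by rw [e]
  simpa [mul_assoc] using hNn.conj_mem' _ (inv_mem h3) c

theorem card_le (hW : WH p G) {N : Subgroup G} [hNn : N.Normal] (hN1 : N ≠ ⊥)
    (hN : ¬ p ∣ Nat.card N) {B : Subgroup (G ⧸ N)} (hB : IsPGroup p B) (hBc : IsMulCommutative B)
    (hv : ∀ g : G, (g : G ⧸ N) ∈ B → g ∉ N → Van g) : Nat.card B ≤ p := by
  obtain ⟨A, hA⟩ := H98.exists_isSyl p (B.comap (QuotientGroup.mk' N))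
  have h1 : A.map (QuotientGroup.mk' N) = B := by
    have := hA.map (QuotientGroup.mk' N)
    rw [map_comap_eq_self_of_surjective (QuotientGroup.mk'_surjective N)] at this
    exact this.eq_of_isPGroup hB
  have hd : A ⊓ N = ⊥ := (H2.disjoint_of_isPGroup_of_coprime hA.isPGroup
    ((Nat.Prime.coprime_iff_not_dvd hp.out).2 hN).symm).eq_bot
  have hAN : ∀ a ∈ A, a ≠ 1 → a ∉ N := fun a ha h1 h => h1 (by
    have : a ∈ A ⊓ N := ⟨ha, h⟩
    rwa [hd] at this)
  have hord : ∀ a ∈ A, a ≠ 1 → p ∣ orderOf a := fun a ha h1 => by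
    obtain ⟨k, hk⟩ := IsPGroup.iff_orderOf.1 hA.isPGroup ⟨a, ha⟩
    rw [orderOf_mk] at hk
    rw [hk]
    exact dvd_pow_self p fun e => h1 (orderOf_eq_one_iff.1 (by rw [hk, e, pow_zero]))
  haveI hAc : IsMulCommutative A := by
    rw [H46.comm_iff_le_cent, ← H46.commutator_eq_bot_iff, eq_bot_iff, ← hd]
    refine le_inf (H46.commutator_le_left' H46.le_nrm_self) (commutator_le.2 fun a ha b hb => ?_)
    rw [← QuotientGroup.eq_one_iff, ← QuotientGroup.mk'_apply, map_commutatorElement,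
      commutatorElement_eq_one_iff_mul_comm]
    exact congrArg Subtype.val (hBc.is_comm.comm ⟨_, hA.le ha⟩ ⟨_, hA.le hb⟩)
  have hexp : ∀ a ∈ A, a ^ p = 1 := fun a ha => by
    by_contra h
    have h1 : a ≠ 1 := fun e => h (by rw [e, one_pow])
    have h2 := hW a p (hv a (hA.le ha) (hAN a ha h1))
      (hv _ (hA.le (pow_mem ha p)) (hAN _ (pow_mem ha p) h)) (hord _ (pow_mem ha p) h)
    have h3 := orderOf_dvd_of_mem_zpowers h2
    rw [orderOf_pow_of_dvd hp.out.ne_zero (hord a ha h1)] at h3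
    exact (Nat.div_lt_self (orderOf_pos a) hp.out.one_lt).not_ge (Nat.le_of_dvd
      (Nat.div_pos (Nat.le_of_dvd (orderOf_pos a) (hord a ha h1)) hp.out.pos) h3)
  have hcyc : IsCyclic A := H5.isCyclic_of_fpf_of_comm hN1 (by rw [normalizer_eq_top]; exact le_top)
    fun a ha h1 => eq_bot_iff.2 fun f hf => by
      have hc : Commute f a := mem_centralizer_singleton_iff.1 hf.2
      have hfN : f ^ Nat.card N = 1 := congrArg Subtype.val (pow_card_eq_one' (x := (⟨f, hf.1⟩ : N)))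
      have e : (f * a) ^ Nat.card N = a ^ Nat.card N := by rw [hc.mul_pow, hfN, one_mul]
      have h2 : a ^ Nat.card N ≠ 1 := fun h => hN ((hord a ha h1).trans (orderOf_dvd_of_pow_eq_one h))
      have hm := pow_mem ha (Nat.card N)
      have h3 := hW (f * a) (Nat.card N)
        (hv _ ((B.comap (QuotientGroup.mk' N)).mul_mem (by
          rw [mem_comap, QuotientGroup.mk'_apply, (QuotientGroup.eq_one_iff f).2 hf.1]; exact one_mem _)
          (hA.le ha)) fun h => hAN a ha h1 ((N.mul_mem_cancel_left hf.1).1 h))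
        (e ▸ hv _ (hA.le hm) (hAN _ hm h2)) (e ▸ hord _ hm h2)
      rw [e] at h3
      rw [← hd]
      exact ⟨(A.mul_mem_cancel_right ha).1 (zpowers_le.2 hm h3), hf.1⟩
  obtain ⟨a, rfl⟩ := H46.cyclic_iff_exists_zpowers.1 hcyc
  rw [← h1]
  refine (Nat.le_of_dvd Nat.card_pos (card_map_dvd _ _)).trans ?_
  rw [Nat.card_zpowers]
  exact Nat.le_of_dvd hp.out.pos (orderOf_dvd_of_pow_eq_one (hexp a (mem_zpowers a)))

theorem card_eq_of_le {R : Subgroup G} (hR : IsPGroup p R) (h1 : R ≠ ⊥) (h : Nat.card R < p ^ 2) :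
    Nat.card R = p := by
  obtain ⟨k, hk⟩ := IsPGroup.iff_card.1 hR
  have h2 : k < 2 := (Nat.pow_lt_pow_iff_right hp.out.one_lt).1 (hk ▸ h)
  interval_cases k
  · exact absurd (card_eq_one.1 (by simpa using hk)) h1
  · simpa using hk

theorem exists_min [Group.IsSolvable G] (hO : pCore p G = ⊥) (hG : p ∣ Nat.card G) :
    ∃ N : Subgroup G, N.Normal ∧ N ≠ ⊥ ∧ IsMulCommutative N ∧ ¬ p ∣ Nat.card N := by
  have h1 : (⊤ : Subgroup G) ≠ ⊥ := fun e => by
    rw [← card_top, e, card_bot] at hG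
    exact hp.out.ne_one (Nat.dvd_one.1 hG)
  obtain ⟨N, q, hN, hN1, -, hq, hab, hexp, -⟩ := H4.exists_minimal_normal_elemab ⊤ h1
  refine ⟨N, hN, hN1, hab, fun hd => hN1 (le_bot_iff.1 (hO ▸ H2.le_pCore fun x => ⟨1, ?_⟩))⟩
  obtain ⟨y, hy, hy1⟩ := H46.cauchy hp.out hd
  have : p = q := (Nat.prime_dvd_prime_iff_eq hp.out hq).1
    (hy1 ▸ orderOf_dvd_of_pow_eq_one (hexp y hy))
  rw [pow_one, this]
  exact Subtype.ext (hexp x x.2)

omit [Finite G] in
theorem dvd_card_quot {N : Subgroup G} [N.Normal] (hN : ¬ p ∣ Nat.card N) {k : ℕ} :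
    p ^ k ∣ Nat.card (G ⧸ N) ↔ p ^ k ∣ Nat.card G := by
  rw [card_eq_card_quotient_mul_card_subgroup N]
  exact ⟨fun h => h.mul_right _, fun h =>
    (((Nat.Prime.coprime_iff_not_dvd hp.out).2 hN).pow_left k).dvd_of_dvd_mul_right h⟩

theorem van_of_order_p : ∀ (G : Type u) [Group G] [Finite G], Group.IsSolvable G →
    pCore p G = ⊥ → ¬ p ^ 2 ∣ Nat.card G → ∀ x : G, x ≠ 1 → (∃ k, x ^ p ^ k = 1) → Van x := by
  refine @H18.induction_card _ ?_
  intro G _ _ ih hs hO h2 x hx ⟨k, hk⟩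
  have hpx : p ∣ orderOf x := by
    obtain ⟨j, -, hj⟩ := (Nat.dvd_prime_pow hp.out).1 (orderOf_dvd_of_pow_eq_one hk)
    rw [hj]
    exact dvd_pow_self p fun e => hx (orderOf_eq_one_iff.1 (by rw [hj, e, pow_zero]))
  obtain ⟨N, hN, hN1, hab, hNp⟩ := exists_min hO (hpx.trans (orderOf_dvd_natCard x))
  have hxN : x ∉ N := fun h => hNp (hpx.trans (H46.orderOf_dvd_card h))
  have hk' : (x : G ⧸ N) ^ p ^ k = 1 := by rw [← QuotientGroup.mk_pow, hk, QuotientGroup.mk_one]
  have h3 : ¬ p ^ 2 ∣ Nat.card (G ⧸ N) := fun h => h2 ((dvd_card_quot hNp).1 h)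
  by_cases hR : pCore p (G ⧸ N) = ⊥
  · exact (ih (G ⧸ N) (H18.card_quotient_lt hN1) inferInstance hR h3 x
      (fun e => hxN ((QuotientGroup.eq_one_iff x).1 e)) ⟨k, hk'⟩).of_map (QuotientGroup.mk' N)
      (QuotientGroup.mk'_surjective N)
  · have hRp := H2.pCore_isPGroup p (G ⧸ N)
    have hc : Nat.card (pCore p (G ⧸ N)) = p := by
      obtain ⟨j, hj⟩ := IsPGroup.iff_card.1 hRp
      refine card_eq_of_le hRp hR (hj ▸ Nat.pow_lt_pow_right hp.out.one_lt ?_)
      by_contra! hle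
      exact h3 ((pow_dvd_pow p hle).trans (hj ▸ card_subgroup_dvd_card _))
    refine van_of_abelian hO hab hRp (H46.cyclic_of_card_prime (hc.symm ▸ hp.out)).isMulCommutative
      hNp ?_ hxN
    obtain ⟨S, hS⟩ := (isPGroup_zpowers_of_pow hk').exists_le_sylow
    rw [← H2.sylow_eq_pCore_of_not_dvd_index (fun hd => h3 ?_) S]
    · exact hS (mem_zpowers _)
    · rw [← (pCore p (G ⧸ N)).card_mul_index, hc, sq]
      exact Nat.mul_dvd_mul_left p hd

theorem card_pCore_le (hW : WH p G) (hO : pCore p G = ⊥) {N : Subgroup G} [hNn : N.Normal]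
    (hN1 : N ≠ ⊥) (hab : IsMulCommutative N) (hN : ¬ p ∣ Nat.card N) (hR : pCore p (G ⧸ N) ≠ ⊥) :
    Nat.card (pCore p (G ⧸ N)) = p := by
  set R := pCore p (G ⧸ N)
  have hRp : IsPGroup p R := H2.pCore_isPGroup p (G ⧸ N)
  haveI := hRp.isNilpotent
  have hp2 : p < p ^ 2 := by have := hp.out.one_lt; nlinarith
  set Z := R ⊓ centralizer (R : Set (G ⧸ N))
  have hZp : IsPGroup p Z := hRp.to_le inf_le_left
  have hZc : IsMulCommutative Z := H46.comm_zc R
  have hZv := fun g => van_of_abelian hO hab hZp hZc hN (g := g)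
  have hZ1 : Z ≠ ⊥ := H2.inf_centralizer_ne_bot_of_isNilpotent R R hR
  have hZ : Nat.card Z = p :=
    card_eq_of_le hZp hZ1 ((card_le hW hN1 hN hZp hZc hZv).trans_lt hp2)
  by_contra hne
  have hR1 : R.map (QuotientGroup.mk' Z) ≠ ⊥ := fun e => by
    rw [Subgroup.map_eq_bot_iff, QuotientGroup.ker_mk'] at e
    exact hne ((le_antisymm e inf_le_left : R = Z) ▸ hZ)
  haveI := H2.isNilpotent_map R (QuotientGroup.mk' Z)
  obtain ⟨_, ⟨⟨x, hx, rfl⟩, hxc⟩, hx1⟩ := H46.exists_ne_one_of_ne_bot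
    (H2.inf_centralizer_ne_bot_of_isNilpotent _ (R.map (QuotientGroup.mk' Z)) hR1)
  have hxZ : x ∉ Z := fun h => hx1 ((QuotientGroup.eq_one_iff x).2 h)
  have hBR : Z ⊔ zpowers x ≤ R := sup_le inf_le_left (zpowers_le.2 hx)
  have hBY : Z ⊔ zpowers x ≤ (centralizer ((R.map (QuotientGroup.mk' Z) : Subgroup _) : Set _)).comap
      (QuotientGroup.mk' Z) := sup_le (fun z hz => by
    rw [mem_comap, QuotientGroup.mk'_apply, (QuotientGroup.eq_one_iff z).2 hz]; exact one_mem _)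
    (zpowers_le.2 hxc)
  have h1 := card_le hW hN1 hN (B := Z ⊔ zpowers x) (hRp.to_le hBR)
    (H46.comm_sup hZc inferInstance (H46.le_cent_symm
      (inf_le_right.trans (H46.cent_anti (zpowers_le.2 hx))))) fun g hg hgN => by
      by_cases hgZ : (g : G ⧸ N) ∈ Z
      · exact hZv g hgZ hgN
      refine Van.of_map (QuotientGroup.mk' N) (QuotientGroup.mk'_surjective N) (van_of_conj hZ1 ?_)
      change ∀ n ∈ Z, IsConj (g : G ⧸ N) (n * g)
      set b : G ⧸ N := (g : G ⧸ N)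
      obtain ⟨y, hy, hyb⟩ : ∃ y ∈ R, y * b ≠ b * y := by
        by_contra! h; exact hgZ ⟨hBR hg, h⟩
      have hc : ⁅y, b⁆ ∈ Z := by
        rw [← QuotientGroup.eq_one_iff, ← QuotientGroup.mk'_apply, map_commutatorElement,
          commutatorElement_eq_one_iff_mul_comm]
        exact hBY hg _ (mem_map_of_mem _ hy)
      have hi : ∀ i : ℕ, y ^ i * b * (y ^ i)⁻¹ = ⁅y, b⁆ ^ i * b := fun i => by
        induction i with
        | zero => simp
        | succ i ih =>
          have e : y * ⁅y, b⁆ ^ i = ⁅y, b⁆ ^ i * y := (pow_mem hc i).2 y hy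
          calc y ^ (i + 1) * b * (y ^ (i + 1))⁻¹ = y * (y ^ i * b * (y ^ i)⁻¹) * y⁻¹ := by group
            _ = (y * ⁅y, b⁆ ^ i) * b * y⁻¹ := by rw [ih]; group
            _ = ⁅y, b⁆ ^ (i + 1) * b := by rw [e, pow_succ, commutatorElement_def]; group
      intro n hn
      rw [← H46.eq_zpowers_of_card_prime (hZ.symm ▸ hp.out) hc
        (fun e => hyb (commutatorElement_eq_one_iff_mul_comm.1 e)), ← mem_powers_iff_mem_zpowers] at hn
      obtain ⟨i, rfl⟩ := hn
      exact isConj_iff.2 ⟨_, hi i⟩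
  have h2 : Z < Z ⊔ zpowers x :=
    lt_of_le_of_ne le_sup_left fun e => hxZ (e ▸ (le_sup_right : zpowers x ≤ _) (mem_zpowers x))
  have := H46.card_lt_of_lt h2
  omega

theorem main : ∀ (G : Type u) [Group G] [Finite G], Group.IsSolvable G → WH p G →
    ¬ p ^ 2 ∣ (pCore p G).index := by
  refine @H18.induction_card _ ?_
  intro G _ _ ih hs hW h2
  by_cases hO : pCore p G = ⊥
  swap
  · have := ih _ (H18.card_quotient_lt hO) inferInstance (hW.quot _)
    rw [H2.pCore_quotient_pCore, index_bot] at this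
    exact this h2
  rw [hO, index_bot] at h2
  obtain ⟨N, hN, hN1, hab, hNp⟩ := exists_min hO ((dvd_pow_self p two_ne_zero).trans h2)
  have h3 := ih _ (H18.card_quotient_lt hN1) inferInstance (hW.quot N)
  have h4 := (dvd_card_quot hNp).2 h2
  have hR : pCore p (G ⧸ N) ≠ ⊥ := fun e => h3 (by rw [e, index_bot]; exact h4)
  have hc := card_pCore_le hW hO hN1 hab hNp hR
  obtain ⟨K, hK⟩ := Sylow.exists_subgroup_card_pow_prime p h4
  have hKp : IsPGroup p K := IsPGroup.of_card hK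
  have h5 := card_le hW hN1 hNp hKp (IsPGroup.isMulCommutative_of_card_eq_prime_sq hK)
    fun g hg hgN => by
      by_cases h : (g : G ⧸ N) ∈ pCore p (G ⧸ N)
      · exact van_of_abelian hO hab (H2.pCore_isPGroup p _)
          (H46.cyclic_of_card_prime (hc.symm ▸ hp.out)).isMulCommutative hNp h hgN
      · refine Van.of_map (QuotientGroup.mk' N) (QuotientGroup.mk'_surjective N)
          (Van.of_map (QuotientGroup.mk' (pCore p (G ⧸ N))) (QuotientGroup.mk'_surjective _) ?_)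
        refine van_of_order_p _ inferInstance (H2.pCore_quotient_pCore p _) h3 _
          (fun e => h ((QuotientGroup.eq_one_iff _).1 e)) ?_
        obtain ⟨k, hk⟩ := hKp ⟨_, hg⟩
        refine ⟨k, ?_⟩
        rw [← map_pow]
        exact (congrArg (QuotientGroup.mk' (pCore p (G ⧸ N))) (congrArg Subtype.val hk)).trans
          (map_one _)
  have := hp.out.one_lt
  rw [hK] at h5
  nlinarith

theorem relIndex_dvd [Group.IsSolvable G] (hW : WH p G) (P : Sylow p G) :
    (pCore p G).relIndex P ∣ p := by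
  obtain ⟨k, hk⟩ := P.isPGroup'.index ((pCore p G).subgroupOf P)
  rw [relIndex, hk]
  have h1 : p ^ k ∣ (pCore p G).index := by
    rw [← hk]; exact relIndex_dvd_index_of_le (H2.pCore_le_sylow P)
  have h2 : k ≤ 1 := by
    by_contra! h
    exact main G inferInstance hW ((pow_dvd_pow p h).trans h1)
  simpa using pow_dvd_pow p h2

theorem wh_of_order (h : ∀ x y : G, Van x → Van y → p ∣ orderOf x → p ∣ orderOf y →
    orderOf x = orderOf y) : WH p G := fun x k h1 h2 h3 => by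
  have h4 := h x _ h1 h2 (h3.trans (orderOf_pow_dvd k)) h3
  have : zpowers (x ^ k) = zpowers x := eq_of_le_of_card_ge (zpowers_le.2 (pow_mem (mem_zpowers x) k))
    (by rw [Nat.card_zpowers, Nat.card_zpowers, h4])
  rw [this]; exact mem_zpowers x

end H73.RD
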