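import Cfsg.Agent.H73.D8W0
import Cfsg.Agent.S0483
import Cfsg.Agent.S2116
import Cfsg.Agent.S0813
import Cfsg.Agent.S0814
import Cfsg.Agent.S0815
import Cfsg.Agent.S2075
import Cfsg.Agent.S0243
import Cfsg.Agent.S0245
import Cfsg.Agent.S0280
import Cfsg.Agent.H56.OutGrp
import Cfsg.Agent.H71.He
import Cfsg.Agent.H77.Simple
import Cfsg.Agent.H21.Multiplier
import Cfsg.Agent.H88.Moebius
import Cfsg.Agent.H57.SLCard
import Cfsg.Agent.H48.Omega

/-! D8-W60: the row S3160 from the jobs. -/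

set_option autoImplicit false
set_option linter.unusedSectionVars false

namespace H73.D8W

open Subgroup Cfsg H98 H1.Gold H85.FZ H49.D8 Matrix

universe u

section Orders
variable {F : Type} [Field F] [Fintype F]

theorem card_sp44 (h : Fintype.card F = 4) : Nat.card (PSp 2 F) ∣ 979200 := by
  have := Cfsg.Agent.S0245.result h 2
  simp only [Finset.prod_range_succ, Finset.prod_range_zero] at this
  exact (card_quotient_dvd_card _).trans (dvd_of_eq this)

theorem card_l52 (h : Fintype.card F = 2) :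
    Nat.card (ProjectiveSpecialLinearGroup (Fin 5) F) = 9999360 := by
  simpa [Fin.prod_univ_five] using Cfsg.Agent.S0243.result h 5 (by norm_num)

theorem card_u52 (h : Fintype.card F = 4) : Nat.card (PSU 5 F 2) = 13685760 := by
  have := Cfsg.Agent.S0280.result (q := 2) h 5 (by norm_num)
  simp only [Finset.prod_range_succ, Finset.prod_range_zero] at this
  norm_num [Nat.even_iff] at this
  omega

theorem aut_sp44 (h : Fintype.card F = 4) :
    Nat.card (MulAut (PSp 2 F)) = 4 * Nat.card (PSp 2 F) := by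
  simpa using Cfsg.Agent.S0814.result 2 2 (by norm_num) h 2 le_rfl (by norm_num)

theorem aut_u52 (h : Fintype.card F = 4) :
    Nat.card (MulAut (PSU 5 F 2)) = 2 * Nat.card (PSU 5 F 2) := by
  simpa using Cfsg.Agent.S0815.result 2 1 le_rfl (q := 2) rfl h 5 (by norm_num) (by norm_num)

theorem aut_l52 (h : Fintype.card F = 2) : Nat.card (MulAut (ProjectiveSpecialLinearGroup (Fin 5) F))
    = 2 * Nat.card (ProjectiveSpecialLinearGroup (Fin 5) F) := by
  have h1 := H57.card_units_mul_card_pgl (ι := Fin 5) (F := F)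
  rw [card_GL_field, Nat.card_units, Nat.card_eq_fintype_card (α := F), h] at h1
  rw [Cfsg.Agent.S0813.result 2 1 le_rfl h 5 (by norm_num) (by norm_num), card_l52 h]
  simp [Fin.prod_univ_five] at h1
  simp [h1]

end Orders

variable {G : Type u} [Group G] [Finite G] {t : G} {A X : Subgroup G}

theorem exists_aut [X.Normal] (hc : cen X = ⊥) {Y : Type*} [Group Y] (e : X ≃* Y) {m : ℕ}
    (h : Nat.card (MulAut Y) = m * Nat.card Y) :
    X.index ∣ m ∧ (X.index = m → Nonempty (G ≃* MulAut Y)) := by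
  let ψ : G →* MulAut Y := (MulAut.congr e).toMonoidHom.comp MulAut.conjNormal
  have hψ : Function.Injective ψ := (MulAut.congr e).injective.comp
    ((injective_iff_map_eq_one _).2 fun g hg => mem_bot.1 (hc.le fun x hx => by
      have := congrArg Subtype.val (DFunLike.congr_fun hg ⟨x, hx⟩)
      exact (mul_inv_eq_iff_eq_mul.1 this).symm))
  have h1 := X.index_mul_card
  rw [Nat.card_congr e.toEquiv] at h1
  haveI := Finite.of_equiv _ e.toEquiv
  exact ⟨Nat.dvd_of_mul_dvd_mul_right Nat.card_pos (h1 ▸ h ▸ card_dvd_of_injective ψ hψ), fun k =>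
    ⟨MulEquiv.ofBijective ψ ((Nat.bijective_iff_injective_and_card ψ).2 ⟨hψ, by rw [h, ← k, h1]⟩)⟩⟩

theorem comm_eq [X.Normal] (h1 : IsSimpleGroup X) (h2 : ¬ IsMulCommutative X) (h : X.index ∣ 4) :
    X = commutator G := by
  obtain ⟨k, -, hk⟩ := (Nat.dvd_prime_pow Nat.prime_two (m := 2)).1 h
  refine le_antisymm ((H14.quasi_sub_perfect (H14.quasi_of_simple h2)).ge.trans
    (commutator_mono le_top le_top)) (Normal.quotient_commutative_iff_commutator_le.1
      (H48.isMulCommutative_of_card_le_sq (IsPGroup.of_card hk) (Nat.le_of_dvd (by norm_num) h)))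

theorem iso_aut [X.Normal] (h1 : IsSimpleGroup X) (h2 : ¬ IsMulCommutative X) (hc : cen X = ⊥)
    (ht : t ∉ X) {Y : Type*} [Group Y] (e : X ≃* Y) (h : Nat.card (MulAut Y) = 2 * Nat.card Y) :
    X = commutator G ∧ Nonempty (G ≃* MulAut Y) :=
  have k := exists_aut hc e h
  ⟨comm_eq h1 h2 (k.1.trans (by norm_num)), k.2 (((Nat.dvd_prime Nat.prime_two).1 k.1).resolve_left
    fun m => ht (index_eq_one.1 m ▸ mem_top t))⟩

theorem ty_of {Y : Type u} [Group Y] [Finite Y] (hq : IsQuasisimple Y)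
    (hZ : Odd (Nat.card (center Y))) (S : Sylow 2 Y)
    (hS : Nonempty ((S : Subgroup Y) ≃* DihedralGroup 4)) : Ty (Y ⧸ center Y) := by
  haveI := hq.1
  have h8 : Nat.card (S : Subgroup Y) = 8 := by
    obtain ⟨e⟩ := hS
    rw [Nat.card_congr e.toEquiv, DihedralGroup.nat_card]
  have hc := (S : Subgroup Y).card_mul_index
  obtain ⟨m, hm⟩ : Odd (S : Subgroup Y).index :=
    Nat.odd_iff.2 (Nat.two_dvd_ne_zero.1 S.not_dvd_index)
  rw [h8, hm] at hc
  have hO : oddCore Y = center Y := le_antisymm ((H14.quasi_normal hq _).resolve_left fun k => by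
    have := H2.odd_card_oddCore Y
    rw [k, card_top, ← hc, Nat.odd_iff] at this
    omega) (H2.le_oddCore hZ)
  have e0 := QuotientGroup.quotientMulEquivOfEq hO.symm
  rcases Cfsg.Agent.S0483.result S 4 (by norm_num) hS with ⟨F, _, _, h1, h3, ⟨e⟩⟩ | ⟨⟨e⟩⟩
  swap
  · exact Or.inr ⟨e0.trans e⟩
  refine Or.inl ⟨F, inferInstance, inferInstance, ?_, ⟨e0.trans e⟩⟩
  have h2 := H88.two_mul_card_psl_two h1
  rw [← Nat.card_congr (e0.trans e).toEquiv] at h2
  rw [card_eq_card_quotient_mul_card_subgroup (center Y)] at hc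
  obtain ⟨j, hj⟩ : ∃ j, Nat.card (Y ⧸ center Y) = 8 * (2 * j + 1) := by
    obtain ⟨j, hj⟩ := ((Nat.coprime_two_left.2 hZ).pow_left 3).dvd_of_dvd_mul_right ⟨_, hc.symm⟩
    rw [hj, mul_assoc] at hc
    have : Odd (j * Nat.card (center Y)) := ⟨m, by omega⟩
    obtain ⟨i, rfl⟩ := (Nat.odd_mul.1 this).1
    exact ⟨i, hj⟩
  rw [hj] at h2
  generalize Fintype.card F = q at *
  have h4 : ∀ x : ZMod 32, x * (x ^ 2 - 1) = 16 → x.val % 2 = 1 →
    x.val % 16 = 7 ∨ x.val % 16 = 9 := by decide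
  have h5 := h4 q (by
    have h6 := congrArg (Nat.cast : ℕ → ZMod 32) h2
    rw [Nat.cast_mul q, Nat.cast_sub (Nat.one_le_pow _ _ (by omega))] at h6
    push_cast at h6
    rw [← h6, show (2 : ZMod 32) * (8 * (2 * j + 1)) = 32 * j + 16 by ring,
      show (32 : ZMod 32) = 0 from rfl, zero_mul, zero_add])
    (by rw [ZMod.val_natCast]; have := Nat.odd_iff.1 h1; omega)
  rw [ZMod.val_natCast] at h5
  omega

theorem center_dvd {Y : Type u} [Group Y] [Finite Y] (hp : Group.IsPerfect Y)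
    (hZ : Odd (Nat.card (center Y))) {n : ℕ} (h : n = 6 ∨ n = 7)
    (e : Y ⧸ center Y ≃* alternatingGroup (Fin n)) :
    Nat.card (center Y) = 1 ∨ Nat.card (center Y) = 3 := by
  have hk : (e.toMonoidHom.comp (QuotientGroup.mk' (center Y))).ker = center Y := by
    ext g; simp
  have := H21.card_ker_dvd_of_stem (Cfsg.Agent.S2116.result n h)
    (e.toMonoidHom.comp (QuotientGroup.mk' (center Y)))
    ⟨e.surjective.comp (QuotientGroup.mk'_surjective _), hk.le,
      by rw [hp.commutator_eq_top]; exact le_top⟩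
  rw [hk] at this
  exact (Nat.dvd_prime Nat.prime_three).1 ((Nat.coprime_two_right.2 hZ).dvd_of_dvd_mul_left
    (by simpa using this))

theorem Rd.tyq (h : Rd X t A) {n : ℕ} (k : TyQ A (cen A ⊓ cen1 t) n) :
    Nonempty (A ⧸ center A ≃* alternatingGroup (Fin n)) := by
  obtain ⟨f, h1, h2⟩ := k
  refine ⟨(QuotientGroup.quotientMulEquivOfEq (Subgroup.ext fun a => ?_)).trans
    (QuotientGroup.quotientKerEquivOfSurjective f h1)⟩
  rw [MonoidHom.mem_ker, h2, mem_inf, mem_center_sub,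
    and_iff_left (H31.S2.le_cen1_iff.2 h.tK a.2)]

theorem Rd.types (h : Rd X t A) (LF : JobLF.{u}) (r4 : R4.{u}) (co : Core.{u}) (i0 : JobI0.{u})
    (iL : JobIL.{u}) (iU : JobIU.{u}) (iH : JobIH) (iHe : JobIHe.{u})
    (hZ : Odd (Nat.card (center A))) (hY : Ty (A ⧸ center A)) : SectionalPRankLE 2 4 X ∨
      (t ∉ X ∧ Nonempty (A ≃* alternatingGroup (Fin 6)) ∧ (Sp44 X ∨ L52 X ∨ U52 X)) ∨
      (t ∉ X ∧ Nat.card (center A) = 3 ∧ Nonempty (A ⧸ center A ≃* alternatingGroup (Fin 7)) ∧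
        Spor.IsoHe X) ∨ (Nonempty (A ≃* alternatingGroup (Fin 6)) ∧ Spor.IsoHS X) := by
  rcases h.core LF r4 co hZ hY with k | ⟨ct, big, k | out⟩
  · exact Or.inl k
  · exact Or.inl k
  refine Or.inr ?_
  have ty : ∀ {m}, Nat.card X ∣ m → 2 * m ∣ 2 ^ 11 * 3 ^ 5 * 5 ^ 3 * 7 ^ 3 * 11 * 17 * 31 →
      TyQ A (cen A ⊓ cen1 t) 6 ∨ TyQ A (cen A ⊓ cen1 t) 7 := fun h1 h2 =>
    i0 G t A _ ct big ((X.index_mul_card ▸ mul_dvd_mul (index_dvd h.as h.o) h1).trans h2)
  have cA := card_eq_card_quotient_mul_card_subgroup (center A)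
  have AX := card_dvd_of_le h.AX
  have seven : TyQ A (cen A ⊓ cen1 t) 7 → 7 ∣ Nat.card A := fun k => by
    obtain ⟨e⟩ := h.tyq k
    rw [cA, Nat.card_congr e.toEquiv, nat_card_alternatingGroup]
    exact Dvd.dvd.mul_right (by simp [Nat.factorial]) _
  have six : TyQ A (cen A ⊓ cen1 t) 6 → Nonempty (A ≃* alternatingGroup (Fin 6)) ∨
      Nat.card (center A) = 3 ∧ Nat.card A = 1080 := fun k => by
    obtain ⟨e⟩ := h.tyq k
    refine (center_dvd h.std.1.1 hZ (Or.inl rfl) e).imp (fun m => ⟨(QuotientGroup.quotientBot.symm.trans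
      (QuotientGroup.quotientMulEquivOfEq (card_eq_one.1 m).symm)).trans e⟩) fun m => ⟨m, ?_⟩
    rw [cA, Nat.card_congr e.toEquiv, nat_card_alternatingGroup, m]
    simp [Nat.factorial]
  have six' : ∀ {m}, Nat.card X ∣ m → ¬ 1080 ∣ m → TyQ A (cen A ⊓ cen1 t) 6 →
      Nonempty (A ≃* alternatingGroup (Fin 6)) := fun h1 h2 k =>
    (six k).resolve_right fun m => h2 (m.2 ▸ AX.trans h1)
  have At : A ≤ cen1 t := H31.S2.le_cen1_iff.2 h.tK
  rcases out with ⟨n, k | k | k | k⟩ | ⟨n, k⟩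
  · obtain ⟨F, _, _, c, ⟨e⟩⟩ := id k
    have := Nat.card_congr e.toEquiv ▸ card_sp44 c
    exact Or.inl ⟨n, six' this (by norm_num) ((ty this (by norm_num)).resolve_right fun m =>
      absurd ((seven m).trans (AX.trans this)) (by norm_num)), Or.inl k⟩
  · obtain ⟨F, _, _, c, ⟨e⟩⟩ := id k
    have := dvd_of_eq ((Nat.card_congr e.toEquiv).trans (card_l52 c))
    exact Or.inl ⟨n, six' this (by norm_num) ((ty this (by norm_num)).resolve_right fun m =>
      iL G X t h.as h.o n k ((seven m).trans (card_dvd_of_le At))), Or.inr (Or.inl k)⟩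
  · obtain ⟨F, _, _, c, ⟨e⟩⟩ := id k
    have := dvd_of_eq ((Nat.card_congr e.toEquiv).trans (card_u52 c))
    refine Or.inl ⟨n, (six ((ty this (by norm_num)).resolve_right fun m =>
      absurd ((seven m).trans (AX.trans this)) (by norm_num))).resolve_right fun m => ?_,
        Or.inr (Or.inr k)⟩
    haveI : Fact (Nat.Prime 5) := ⟨by norm_num⟩
    haveI : Fact (Nat.Prime 3) := ⟨by norm_num⟩
    obtain ⟨a, ha⟩ := exists_prime_orderOf_dvd_card' (G := A) 5 (by rw [m.2]; norm_num)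
    obtain ⟨b, hb⟩ := exists_prime_orderOf_dvd_card' (G := center A) 3 (by rw [m.1])
    rw [← orderOf_coe] at hb
    refine iU G X t h.as h.o n k (a * b : A) (mem_cen1.1 (At (a * b : A).2)) ?_
    rw [orderOf_coe, Commute.orderOf_mul_eq_mul_orderOf_of_coprime (mem_center_iff.1 b.2 a)
      (by rw [ha, hb]; norm_num), ha, hb]
  · obtain ⟨e⟩ := id k
    have := dvd_of_eq ((Nat.card_congr e.toEquiv).trans H71.He.card)
    obtain ⟨h1, h2⟩ := iHe G X t A _ h.as ct big n k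
    have h3 := (ty this (by norm_num)).resolve_left h1
    obtain ⟨e'⟩ := h.tyq h3
    refine Or.inr (Or.inl ⟨n, (center_dvd h.std.1.1 hZ (Or.inr rfl) e').resolve_left fun m =>
      h2 h3 (le_bot_iff.1 ?_), ⟨e'⟩, k⟩)
    rw [← card_inf_cen, card_eq_one] at m
    exact m ▸ inf_le_inf_left _ inf_le_left
  · obtain ⟨e⟩ := id k
    have := dvd_of_eq ((Nat.card_congr e.toEquiv).trans H77.card_HS)
    refine Or.inr (Or.inr ⟨six' this (by norm_num) ((ty this (by norm_num)).resolve_right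
      fun m => ?_), k⟩)
    haveI : Fact (Nat.Prime 7) := ⟨by norm_num⟩
    obtain ⟨a, ha⟩ := exists_prime_orderOf_dvd_card' (G := A) 7 (seven m)
    rw [← orderOf_coe] at ha
    refine iH.1 (e ⟨a * t, mul_mem (h.AX a.2) n⟩) ?_
    rw [e.orderOf_eq, ← orderOf_coe, Commute.orderOf_mul_eq_mul_orderOf_of_coprime
      (mem_cen1.1 (At a.2)) (by rw [ha, h.o]; norm_num), ha, h.o]

theorem s3160_of (LF : JobLF.{u}) (r4 : R4.{u}) (co : Core.{u}) (i0 : JobI0.{u})
    (iL : JobIL.{u}) (iU : JobIU.{u}) (iH : JobIH) (iHe : JobIHe.{u})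
    {G : Type u} [Group G] [Finite G] (hO : Cfsg.oddCore G = ⊥) (A : Subgroup G) (hA : Cfsg.IsStandardSubgroup A)
    (hZ : Odd (Nat.card ↥(Subgroup.center ↥A))) (hD : ∀ S : Sylow 2 ↥A, Nonempty (↥(S : Subgroup ↥A) ≃* DihedralGroup 4)) :
    (A.Normal ∧ Subgroup.center ↥A = ⊥) ∨
      (Subgroup.normalClosure (A : Set G) = Cfsg.generalizedFittingSubgroup G ∧ Nonempty (↥(Subgroup.normalClosure (A : Set G)) ≃* ↥A × ↥A) ∧ Subgroup.center ↥A = ⊥) ∨
      (∃ n : ℕ, (n = 6 ∨ n = 7) ∧ Nonempty (↥A ≃* ↥(alternatingGroup (Fin n))) ∧ Nonempty (↥(Subgroup.normalClosure (A : Set G)) ≃* ↥(alternatingGroup (Fin (n + 4))))) ∨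
      (Subgroup.normalClosure (A : Set G) = Cfsg.generalizedFittingSubgroup G ∧ IsSimpleGroup ↥(Subgroup.normalClosure (A : Set G)) ∧ ¬ IsMulCommutative ↥(Subgroup.normalClosure (A : Set G)) ∧ Cfsg.SectionalPRankLE 2 4 ↥(Subgroup.normalClosure (A : Set G))) ∨
      (Nat.card ↥(Subgroup.center ↥A) = 3 ∧ Nonempty ((↥A ⧸ Subgroup.center ↥A) ≃* ↥(alternatingGroup (Fin 7))) ∧
        Subgroup.normalClosure (A : Set G) = commutator G ∧ Nonempty (G ≃* MulAut Cfsg.Spor.He)) ∨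
      (Nonempty (↥A ≃* ↥(alternatingGroup (Fin 6))) ∧ Subgroup.normalClosure (A : Set G) = commutator G ∧
        ((∃ (F : Type) (_ : Field F) (_ : Fintype F), Fintype.card F = 4 ∧
            ((Nonempty (↥(commutator G) ≃* Cfsg.PSp 2 F) ∧ Subgroup.centralizer ((commutator G : Subgroup G) : Set G) = ⊥) ∨ Nonempty (G ≃* MulAut (Cfsg.PSU 5 F 2)))) ∨
          (∃ (F : Type) (_ : Field F) (_ : Fintype F), Fintype.card F = 2 ∧ Nonempty (G ≃* MulAut (Matrix.ProjectiveSpecialLinearGroup (Fin 5) F))))) ∨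
      (Nonempty (↥A ≃* ↥(alternatingGroup (Fin 6))) ∧ Subgroup.normalClosure (A : Set G) = Cfsg.generalizedFittingSubgroup G ∧ Cfsg.Spor.IsoHS ↥(Subgroup.normalClosure (A : Set G))) := by
  by_cases nn : A.Normal
  · refine Or.inl ⟨nn, card_eq_one.1 ?_⟩
    rw [← card_inf_cen] at hZ ⊢
    exact card_eq_one.2 (le_bot_iff.1 (hO ▸ H2.le_oddCore hZ))
  refine Or.inr ?_
  rcases std_red hO hA nn with ⟨k1, k2, k3⟩ | hG
  · exact Or.inl ⟨k1.trans (fstar_eq hO hA nn).symm, k1 ▸ k2, k3⟩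
  refine Or.inr (Or.inr ?_)
  obtain ⟨t, -, -, h⟩ := exists_rd hG hA
  have le := H88.AS.std_le hG hA
  have hc := hG.cen_eq
  obtain ⟨h1, h2⟩ := id hG
  rw [H88.AS.closure_eq hG hA]
  have hN : (generalizedFittingSubgroup G).Normal := inferInstance
  generalize generalizedFittingSubgroup G = X at *
  have eA := subgroupOfEquivOfLe (le.trans (le_sup_left (b := zpowers t)))
  have eX := (subgroupOfEquivOfLe (le_sup_left (a := X) (b := zpowers t))).symm
  obtain ⟨S⟩ : Nonempty (Sylow 2 A) := inferInstance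
  have hY : Ty (↥(A.subgroupOf (X ⊔ zpowers t)) ⧸ center _) := by
    rcases ty_of hA.1 hZ S (hD S) with ⟨F, _, _, c, ⟨e⟩⟩ | ⟨⟨e⟩⟩
    exacts [Or.inl ⟨F, _, _, c, ⟨(cq eA).trans e⟩⟩, Or.inr ⟨(cq eA).trans e⟩]
  rcases h.types LF r4 co i0 iL iU iH iHe (card_center eA ▸ hZ) hY with k | ⟨n, ⟨e⟩, k⟩ |
    ⟨n, k, ⟨e⟩, ⟨e'⟩⟩ | ⟨⟨e⟩, ⟨e'⟩⟩
  · exact Or.inl ⟨rfl, h1, h2, H3.sectionalPRankLE_of_injective k eX.toMonoidHom eX.injective⟩
  · refine Or.inr (Or.inr (Or.inl ⟨⟨eA.symm.trans e⟩, ?_⟩))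
    rcases k with ⟨F, _, _, c, ⟨e'⟩⟩ | ⟨F, _, _, c, ⟨e'⟩⟩ | ⟨F, _, _, c, ⟨e'⟩⟩
    · have := comm_eq h1 h2 (exists_aut hc (eX.trans e') (aut_sp44 c)).1
      exact ⟨this, Or.inl ⟨F, _, _, c, Or.inl (by
        rw [← this]; exact ⟨⟨eX.trans e'⟩, hc⟩)⟩⟩
    · have := iso_aut (t := t) h1 h2 hc n (eX.trans e') (aut_l52 c)
      exact ⟨this.1, Or.inr ⟨F, _, _, c, this.2⟩⟩
    · have := iso_aut (t := t) h1 h2 hc n (eX.trans e') (aut_u52 c)
      exact ⟨this.1, Or.inl ⟨F, _, _, c, Or.inr this.2⟩⟩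
  · refine Or.inr (Or.inl ⟨card_center eA ▸ k, ⟨(cq eA).symm.trans e⟩,
      iso_aut (t := t) h1 h2 hc n (eX.trans e') ?_⟩)
    rw [H56.card_mulAut_eq _ (by
      rw [← H59.map_center_mulEquiv (eX.trans e'), center_eq_bot h2, Subgroup.map_bot]),
      Cfsg.Agent.S2075.result]
  · exact Or.inr (Or.inr (Or.inr ⟨⟨eA.symm.trans e⟩, rfl, ⟨eX.trans e'⟩⟩))

end H73.D8W
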