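import Cfsg.Agent.H73.D8Red1
import Cfsg.Agent.H49.D8Kit

/-! D8-Red: from the frame to the data of the tower. -/

set_option autoImplicit false
set_option linter.unusedSectionVars false

namespace H73.D8R

open Subgroup Cfsg H98 H1.Gold H85.FZ H49.D8

universe u

variable {G : Type u} [Group G] [Finite G] {v s z t x y c d a b u σ : G} {A K T M S : Subgroup G}

theorem sec_of_32 (h : Nat.card G ∣ 32) (hx : x * x ≠ 1) : SectionalPRankLE 2 4 G := by
  refine H9.Sec.sec_of fun H K sq => ?_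
  by_contra! lt
  have h1 := (K.subgroupOf H).card_mul_index
  have h2 := H.card_mul_index
  change _ * K.relIndex H = _ at h1
  have h3 : K.relIndex H ∣ 32 := ((Dvd.intro_left _ h1).trans (Dvd.intro _ h2)).trans h
  have h5 : K.relIndex H = 32 := by
    have := Nat.le_of_dvd (by norm_num) h3
    generalize K.relIndex H = r at *
    interval_cases r <;> omega
  have h6 := Nat.le_of_dvd (by norm_num) h
  have p1 : 0 < Nat.card (K.subgroupOf H) := Nat.card_pos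
  have p2 : 0 < H.index := Nat.pos_of_ne_zero index_ne_zero_of_finite
  rw [h5] at h1
  have e1 : H = ⊤ := index_eq_one.1 (by nlinarith)
  have e2 : K.subgroupOf H = ⊥ := card_eq_one.1 (by nlinarith)
  subst e1
  have : (⟨x * x, trivial⟩ : (⊤ : Subgroup G)) ∈ K.subgroupOf ⊤ := mem_subgroupOf.2 (sq x trivial)
  rw [e2, mem_bot, Subtype.ext_iff] at this
  exact hx this

/-- letters `z 0, t 1, c 2, v 3, s 4` -/
def tbC (b : Bool) : Tb := .of 5 [(4, 3, [3, 0])] [(2, ow b [1])]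

structure Fd (t : G) (A K T : Subgroup G) (v s z : G) : Prop where
  ct : Ct t A K
  fr : Fr (cen1 t) A K T v s z

namespace Fd
variable (h : Fd t A K T v s z)
include h

theorem dh : DH v s z := h.fr.toDH

theorem swap : Fd t A K T s v z := ⟨h.ct, h.fr.swap h.ct.nA⟩

theorem tt : t * t = 1 := by rw [← sq, ← h.ct.o, pow_orderOf_eq_one]

theorem t1 : t ≠ 1 := fun e => by simpa [e] using h.ct.o

theorem ct' (hx : x ∈ T) : x * t = t * x := mem_cen1.1 (h.fr.syl.le hx)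

theorem tT : t ∈ T := zpowers_le.1 (h.fr.syl.le_of_le_normalizer
  (H31.S2.isPGroup_zpowers_of_order h.ct.o) (zpowers_le.2 (mem_cen1.2 rfl))
    (le_normalizer_of_le_centralizer (h.fr.syl.le.trans (cen1_eq t).le)))

theorem TK (hx : x ∈ T) (hK : x ∈ K) : x = 1 ∨ x = t := by
  obtain ⟨k, rfl⟩ := h.ct.two (T ⊓ K) inf_le_right (h.fr.syl.isPGroup.to_le inf_le_left) ⟨hx, hK⟩
  have : t ^ (2 : ℤ) = 1 := by rw [zpow_two, h.tt]
  rcases Int.emod_two_eq_zero_or_one k with e | e <;> simp [zpow_eq_zpow_emod k this, e]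

theorem tA : t ∉ A := fun e => not_two_dvd_of_odd h.ct.odd
  (h.ct.o ▸ orderOf_dvd_natCard (A ⊓ K) ⟨e, h.ct.tK⟩)

theorem nD : T ≤ nor (cl [v, s]) := h.fr.nD h.ct.nA

theorem zT : z ∈ T := h.fr.D_le (zD h.dh)

theorem tC : t ∈ cen (cl [v, s]) := fun _ hy => h.ct' (h.fr.D_le hy)

theorem zt_le : cl [z, t] ≤ T ⊓ cen T := cl2_le.2
  ⟨⟨h.zT, fun _ hy => h.dh.fixz (h.nD hy)⟩, h.tT, fun _ hy => h.ct' hy⟩

theorem of_in (hc : c ∈ T) (e : In K z c) : c ∈ cl [z, t] := by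
  have k : ∀ {x}, x ∈ T → x ∈ K → x ∈ cl [z, t] := fun h1 h2 => by
    rcases h.TK h1 h2 with rfl | rfl
    exacts [one_mem _, m2 _ _]
  exact e.elim (k hc) fun e => (mul_mem_cancel_right (m1 z t)).1 (k (mul_mem hc h.zT) e)

theorem pres (hc : c ∈ T ⊓ cen (cl [v, s])) {b : Bool} (e : c * c = bif b then t else 1) :
    Pres (tbC b) (val [z, t, c, v, s]) := by
  have k := fun {x} (hx : x ∈ cl [v, s]) => mcen.1 h.tC x hx
  have k' := fun {x} (hx : x ∈ cl [v, s]) => mcen.1 hc.2 x hx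
  refine ⟨fun i hi j hj => ?_, fun i hi => ?_⟩ <;> change i < 5 at hi
  · interval_cases i <;> interval_cases j <;> simp only [tbC] <;> wsimp
    exacts [h.ct' h.zT, k' (zD h.dh), (h.ct' hc.1).symm, h.dh.vz.symm, (k (m1 _ _)).symm,
      (k' (m1 _ _)).symm, h.dh.sz.symm, (k (m2 _ _)).symm, (k' (m2 _ _)).symm, h.dh.vs]
  · interval_cases i <;> simp only [tbC] <;> wsimp
    exacts [h.dh.zz, h.tt, by cases b <;> simpa [ow] using e, h.dh.vv, h.dh.ss]

theorem pres1 : Pres (tbC false) (val [z, t, 1, v, s]) := h.pres (one_mem _) (mul_one 1)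

theorem mem_zt (hc : c ∈ cl [z, t]) : c = 1 ∨ c = z ∨ c = t ∨ c = t * z := by
  obtain ⟨w, hw, rfl⟩ := h.pres1.mem_cl rfl 2 (by decide) hc
  simp only [subs, List.map, List.cons_append, List.nil_append, List.mem_cons, List.not_mem_nil,
    or_false] at hw
  rcases hw with rfl | rfl | rfl | rfl <;> simp

theorem in_of (hc : c ∈ cl [z, t]) : In K z c := by
  rcases h.mem_zt hc with e | e | e | e <;> rw [e]
  exacts [Or.inl (one_mem _), Or.inr (h.dh.zz ▸ one_mem _), Or.inl h.ct.tK,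
    Or.inr (by rw [mul_assoc, h.dh.zz, mul_one]; exact h.ct.tK)]

theorem sq_zt (hc : c ∈ cl [z, t]) : c * c = 1 := by
  rcases h.mem_zt hc with e | e | e | e <;> rw [e]
  exacts [mul_one 1, h.dh.zz, h.tt, by
    rw [mul_assoc, ← mul_assoc z, h.ct' h.zT, mul_assoc, h.dh.zz, mul_one, h.tt]]

theorem ind (hc : c ∈ T ⊓ cen (cl [v, s])) (n : ¬ In K z c) : Ind (val [z, t, c, v, s]) 5 := by
  have k := fun {x} (hx : x ∈ cl [v, s]) => mem_cen1.2 (mcen.1 h.tC x hx).symm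
  have k' := fun {x} (hx : x ∈ cl [v, s]) => mem_cen1.2 (mcen.1 hc.2 x hx).symm
  intro i hi
  rw [H_val]
  interval_cases i
  · exact fun e => h.dh.z1 (mem_bot.1 (cl_le.2 (by simp) e))
  · exact fun e => h.tA (cl_le.2 (by simpa using h.fr.D_leA (zD h.dh)) e)
  · exact fun e => n (h.in_of e)
  · exact fun e => nvs h.dh (mem_cen1.1 (cl_le.2 (by
      simpa using ⟨mem_cen1.2 h.dh.sz.symm, k (m2 _ _), k' (m2 _ _)⟩) e))
  · exact fun e => nvs h.dh (mem_cen1.1 (cl_le.2 (by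
      simpa using ⟨mem_cen1.2 h.dh.vz.symm, k (m1 _ _), k' (m1 _ _), mem_cen1.2 rfl⟩) e)).symm

theorem dec (hx : x ∈ T ⊓ PP v s) : ∃ d ∈ cl [v, s], ∃ c ∈ T ⊓ cen (cl [v, s]), x = d * c := by
  obtain ⟨d, hd, c, hc, rfl⟩ := mem_PP.1 hx.2
  exact ⟨d, hd, c, ⟨(mul_mem_cancel_left (h.fr.D_le hd)).1 hx.1, hc⟩, rfl⟩

theorem C0 (hc : c ∈ T ⊓ cen (cl [v, s])) (n : ¬ In K z c) (hx : x ∈ T ⊓ cen (cl [v, s])) :
    x ∈ cl [z, t] ∨ c * x ∈ cl [z, t] :=
  ((h.fr.idx c hc x hx).resolve_left n).imp (h.of_in hx.1) (h.of_in (mul_mem hc.1 hx.1))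

theorem T0 (hc : c ∈ T ⊓ cen (cl [v, s])) (n : ¬ In K z c) :
    T ⊓ PP v s = cl [z, t, c, v, s] := by
  refine le_antisymm (fun x hx => ?_) (cl_le.2 ?_)
  · obtain ⟨d, hd, e, he, rfl⟩ := h.dec hx
    refine mul_mem (cl_mono (by simp) hd) ((h.C0 hc n he).elim (fun k => cl_mono (by simp) k)
      fun k => (mul_mem_cancel_left (mem_cl (y := c) (by simp))).1 (cl_mono (by simp) k))
  · simp only [List.mem_cons, List.not_mem_nil, or_false, forall_eq_or_imp, forall_eq]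
    exact ⟨⟨h.zT, mem_sup_left (zD h.dh)⟩, ⟨h.tT, mem_sup_right h.tC⟩, ⟨hc.1, mem_sup_right hc.2⟩,
      ⟨h.fr.D_le (m1 _ _), mem_sup_left (m1 _ _)⟩, h.fr.D_le (m2 _ _), mem_sup_left (m2 _ _)⟩

theorem ST (hS : IsSyl 2 S ⊤) (hT : T ≤ S) : S ⊓ cen1 t = T :=
  h.fr.syl.eq_of_le (hS.isPGroup.to_le inf_le_left) (le_inf hT h.fr.syl.le) inf_le_right

theorem case1 (k : ∀ c ∈ T ⊓ cen (cl [v, s]), In K z c) : SectionalPRankLE 2 4 G := by
  obtain ⟨S, hS, hT⟩ := exists_isSyl_le h.fr.syl.isPGroup le_top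
  have vT := h.fr.D_le (m1 v s)
  have P : Pres (.of 3 []) (val [z, t, v]) := h.pres1.derive' _ [(2, [3])]
    (fun i hi => by change i < 3 at hi; interval_cases i <;> wsimp) rfl (by decide +kernel)
  have I : Ind (val [z, t, v]) 3 := fun i hi => by
    rw [H_val]
    interval_cases i
    · exact fun e => h.dh.z1 (mem_bot.1 (cl_le.2 (by simp) e))
    · exact fun e => h.tA (cl_le.2 (by simpa using h.fr.D_leA (zD h.dh)) e)
    · exact fun e => nvs h.dh ((h.zt_le e).2 s (h.fr.D_le (m2 _ _))).symm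
  refine sce8 (E := cl [z, t, v]) hS (le_trans (cl_le.2 (by simp [h.zT, h.tT, vT])) hT)
    (fun e he => ?_) (by simpa [H_val] using P.card rfl (k := 3) le_rfl I) fun x hx => ?_
  · obtain ⟨w, hw, rfl⟩ := P.mem_cl rfl 3 le_rfl he
    rw [← W_append]
    exact P.W_eq (w' := []) ((by decide +kernel :
      ∀ w ∈ subs 3, (Tb.of 3 []).same (w ++ w) [] = true) w hw)
  · have h1 : x ∈ T := h.ST hS hT ▸ ⟨hx.1, cen_le_cen1 (mem_cl (by simp)) hx.2⟩
    have h2 : v * x = x * v := hx.2 v (mem_cl (by simp))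
    obtain ⟨d, hd, c, hc, rfl⟩ := h.dec ⟨h1, memP h.dh (h.nD h1) (by
      rw [← h2, mul_inv_cancel_right]; exact m1 _ _)⟩
    refine mul_mem (cl_mono (by simp) (memV h.dh hd ?_)) (cl_mono (by simp) (h.of_in hc.1 (k c hc)))
    rw [mul_assoc, ← mcen.1 hc.2 v (m1 _ _), ← mul_assoc, ← mul_assoc] at h2
    exact (mul_right_cancel h2).symm

theorem sq_C0 (hc : c ∈ T ⊓ cen (cl [v, s])) (n : ¬ In K z c) (e : c * c = t)
    (hx : x ∈ T ⊓ cen (cl [v, s])) : x ∈ cl [z, t] ∨ x * x = t := by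
  refine (h.C0 hc n hx).imp_right fun k => ?_
  have h1 := (h.zt_le k).2 c hc.1
  have h2 : x * c = c * x := mul_left_cancel (a := c) (by rw [h1, mul_assoc])
  have h3 := h.sq_zt k
  rw [mul_assoc, ← mul_assoc x, h2, mul_assoc, ← mul_assoc, e, mul_eq_one_iff_inv_eq,
    inv_eq_of_mul_eq_one_right h.tt] at h3
  exact h3.symm

theorem case2a (hc : c ∈ T ⊓ cen (cl [v, s])) (n : ¬ In K z c) (e : c * c = t) (k : T ≤ PP v s) :
    SectionalPRankLE 2 4 G := by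
  have h1 : T = cl [z, t, c, v, s] := by rw [← h.T0 hc n, inf_eq_left.2 k]
  have h2 : c ∈ cen T := H31.S2.le_cen1_iff.1 (h1.le.trans (cl_le.2 (by
    simpa using ⟨mem_cen1.2 (hc.2 z (zD h.dh)), mem_cen1.2 (h.ct' hc.1).symm, mem_cen1.2 rfl,
      mem_cen1.2 (hc.2 v (m1 _ _)), mem_cen1.2 (hc.2 s (m2 _ _))⟩)))
  have h3 : IsSyl 2 T ⊤ := isSyl_of_isSyl_normalizer (h.fr.syl.of_le
    (le_inf le_top le_normalizer) fun g hg => mem_cen1.2 (mul_inv_eq_iff_eq_mul.1 ?_))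
  · refine sec_of_isSyl h3 (sec_of_32 (x := ⟨c, hc.1⟩) ?_ fun k => h.t1 (e ▸ congrArg Subtype.val k))
    have := (h.pres hc (b := true) e).card_dvd rfl (k := 5) le_rfl
    rwa [H_val, show List.take 5 [z, t, c, v, s] = [z, t, c, v, s] from rfl, ← h1] at this
  · have h4 : g * c * g⁻¹ * (g * c * g⁻¹) = g * t * g⁻¹ := by rw [conj_mul, e]
    refine (h.sq_C0 hc n e ⟨conj_mem_of_mem_normalizer hg.2 hc.1, centralizer_anti h.fr.D_le
      (conj_mem_of_mem_normalizer (normalizer_le_normalizer_centralizer _ hg.2) h2)⟩).elim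
        (fun k => absurd ?_ h.t1) fun k => h4 ▸ k
    simpa [h4] using h.sq_zt k

theorem case2b (hc : c ∈ T ⊓ cen (cl [v, s])) (n : ¬ In K z c) (e : c * c = t) (hd : d ∈ T)
    (k : d ∉ PP v s) : SectionalPRankLE 2 4 G := by
  obtain ⟨S, hS, hT⟩ := exists_isSyl_le h.fr.syl.isPGroup le_top
  refine ne8 hS (hT h.tT) h.tt fun E h1 h2 h3 _ => ?_
  rw [h.ST hS hT] at h1 h2
  have cm := H9.Sec.comm_of_sq h3
  refine (card_le_of_le (K := cl [z, t]) fun x hx => ?_).trans (Nat.le_of_dvd (by norm_num) (by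
    simpa [H_val] using h.pres1.card_dvd rfl (k := 2) (by decide)))
  have h4 := cm _ hx _ (conj_mem_of_mem_normalizer (h2 (h.fr.D_le (m1 v s))) hx)
  have h5 := cm _ hx _ (conj_mem_of_mem_normalizer (h2 hd) hx)
  have h6 := h3 x hx
  have xi := inv_eq_of_mul_eq_one_right h6
  obtain ⟨y, hy, b, hb, rfl⟩ := h.dec ⟨h1 hx, memP h.dh (h.nD (h1 hx)) (memV h.dh
    (conj_mem_of_mem_normalizer (h.nD (h1 hx)) (m1 _ _)) (by
      rw [inv_eq_of_mul_eq_one_right h.dh.vv] at h4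
      rw [xi]; simpa only [mul_assoc] using h4))⟩
  have h7 : y * y * (b * b) = 1 := by
    rw [← h6, mul_assoc, ← mul_assoc y b b, mul_assoc y b (y * b), ← mul_assoc b y b,
      mcen.1 hb.2 y hy]
  have h8 : b ∈ cl [z, t] := (h.sq_C0 hc n e hb).resolve_right fun k => h.tA (by
    rw [← k, ← inv_eq_of_mul_eq_one_right h7]
    exact h.fr.D_leA (inv_mem (mul_mem hy hy)))
  rw [h.sq_zt h8, mul_one] at h7
  have h9 : y * (d * y * d⁻¹) = d * y * d⁻¹ * y := by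
    have c1 := fun {x} (hx : x ∈ T) => (h.zt_le h8).2 x hx
    have c2 := h.fr.D_le (conj_mem_of_mem_normalizer (h.nD hd) hy)
    have : d * (y * b) * d⁻¹ = d * y * d⁻¹ * b := by rw [c1 c2, c1 (h.fr.D_le hy), ← mul_assoc, c1 hd]; group
    rw [this, mul_assoc y, ← mul_assoc b, ← c1 c2, mul_assoc _ b (y * b), ← mul_assoc b y,
      ← c1 (h.fr.D_le hy)] at h5
    exact mul_right_cancel (b := b * b) (by simpa only [mul_assoc] using h5)
  have sw := (dich h.dh (h.nD hd)).resolve_left k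
  have h10 : (y = 1 ∨ y = z) ∨ d * y * d⁻¹ = 1 ∨ d * y * d⁻¹ = z :=
    (invD h.dh hy h7).elim (fun m => noncomm h.dh m (sw.1 (conj_mem_cj m)) h9)
      fun m => (noncomm h.dh (sw.2 (conj_mem_cj m)) m h9.symm).symm
  refine mul_mem ?_ h8
  rcases h10 with (rfl | rfl) | m | m
  · exact one_mem _
  · exact m1 _ _
  · rw [show y = 1 by simpa using m]; exact one_mem _
  · rw [show y = z by simpa using m.trans (conj_z h.dh (h.nD hd)).symm]; exact m1 _ _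

theorem sylM (hM : M ≤ cen1 t) (h1 : T ⊓ PP v s ≤ M) (h2 : M ⊓ nor (cl [v, s]) ≤ PP v s) :
    IsSyl 2 (T ⊓ PP v s) M := by
  refine ⟨h1, h.fr.syl.isPGroup.to_le inf_le_left, fun Q hQ k1 k2 => ?_⟩
  obtain ⟨g, hg, k3⟩ := h.fr.syl.exists_cj_le hQ (k2.trans hM)
  have k4 : g ∈ nor (cl [v, s]) := mem_normalizer_of_cj_le (le_of_le_of_eq (le_inf
    ((cj_mono g ((le_inf h.fr.D_le le_sup_left).trans k1)).trans k3)
      (cj_le_of_le h.fr.D_leA (h.ct.nA hg))) h.fr.D)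
  have k5 : Q ≤ nor (cl [v, s]) := by
    rw [← cj_le_cj_iff (g := g), cj_eq_self_of_mem k4]; exact k3.trans h.nD
  exact (eq_of_le_of_card_ge k1 (card_cj g Q ▸ card_le_of_le (le_inf k3
    (cj_le_of_le ((le_inf k2 k5).trans h2) (nor_PP k4))))).symm

theorem hd : Hd t (T ⊓ PP v s) := by
  by_cases k : T ≤ PP v s
  · exact Or.inl (by rw [inf_eq_left.2 k]; exact h.fr.syl)
  obtain ⟨d, hd, k⟩ := SetLike.not_le_iff_exists.1 k
  have sD := h.fr.sylA h.ct.AN h.ct.nA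
  let M := cen1 t ⊓ PP v s ⊔ A
  have hM : M ≤ cen1 t := sup_le inf_le_left h.ct.AN
  have h2 : M ⊓ nor (cl [v, s]) ≤ PP v s := fun x hx => by
    obtain ⟨a, ha, y, hy, rfl⟩ := (mem_sup_left_norm (inf_le_left.trans h.ct.nA)).1 hx.1
    exact mul_mem ha.2 (norA h.dh sD ⟨hy, (mul_mem_cancel_left (PP_le ha.2)).1 hx.2⟩)
  obtain ⟨ψ, hψ⟩ := H8.exists_sign_hom (M.subgroupOf (cen1 t))
    (index_eq_two_iff_exists_notMem_and'.2 ⟨⟨d, h.fr.syl.le hd⟩, fun e => k (h2 ⟨e, h.nD hd⟩),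
      fun b => by
        obtain ⟨a, ha, y, hy, e⟩ := sD.frattini_mem (h.ct.nA b.2)
        have h3 : a ∈ cen1 t := (mul_mem_cancel_right (h.ct.AN hy)).1 (e ▸ b.2)
        rw [mem_subgroupOf, mem_subgroupOf, coe_mul, e, ← mul_assoc]
        by_cases h4 : a ∈ PP v s
        · exact Or.inr (mul_mem (mem_sup_left ⟨h3, h4⟩) (mem_sup_right hy))
        · exact Or.inl (mul_mem (mem_sup_left ⟨mul_mem (h.fr.syl.le hd) h3,
            mulP h.dh (h.nD hd) ha k h4⟩) (mem_sup_right hy))⟩)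
  refine Or.inr ⟨ψ, ?_⟩
  rw [show ψ.ker = M.subgroupOf (cen1 t) from ext fun x => (hψ x).1, subgroupOf_map_subtype,
    inf_eq_left.2 hM]
  exact h.sylM hM ((inf_le_inf_right _ h.fr.syl.le).trans le_sup_left) h2

theorem half (r : Tr t v s u a) (hz : u * a = z) (e : T ⊓ PP v s = cl [a, u, v, t, s]) (hσ : σ ∈ A)
    (k : Tri σ z v) (hu : σ * u = u * σ) : Half' t v s u a σ := by
  have nV : ∀ g, g * t = t * g → g ∈ nor (cl [a, u, v, t]) → g ∈ nor (cl [v, z]) := fun g h1 h2 => by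
    have : cl [a, u, v, t] ⊓ A = cl [v, z] := le_antisymm (fun x hx => memV h.dh
      (h.fr.D ▸ ⟨(e.ge (cl_mono (by simp) hx.1)).1, hx.2⟩) (r.A_comm hx.1 (mem_cl (by simp))))
      (le_inf (cl2_le.2 ⟨mem_cl (by simp), hz ▸ mul_mem (mem_cl (by simp)) (mem_cl (by simp))⟩)
        ((VD h.dh).trans h.fr.D_leA))
    exact this ▸ inf_normalizer_le_normalizer_inf ⟨h2, h.ct.nA (mem_cen1.2 h1)⟩
  refine ⟨mul_inv_eq_iff_eq_mul.2 (mem_cen1.1 (h.ct.AN hσ)), mul_inv_eq_iff_eq_mul.2 hu, ?_,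
    hz ▸ k.2, e ▸ h.sylM inf_le_left (le_inf (inf_le_left.trans h.fr.syl.le) (e ▸ r.le_norA))
      fun g hg => memP h.dh hg.2 (conj_mem_of_mem_normalizer (nV g (mem_cen1.1 hg.1.1) hg.1.2)
        (m1 _ _)), hz ▸ nV⟩
  rw [show a = u * z by rw [← hz, ← mul_assoc, r.uu, one_mul], ← mul_assoc, hu, ← r.uv, ← k.1]
  group

end Fd

theorem jobRed : JobRed.{u} := by
  intro G _ _ t A K T v s z ct fr
  have h : Fd t A K T v s z := ⟨ct, fr⟩
  by_cases k : ∀ c ∈ T ⊓ cen (cl [v, s]), In K z c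
  · exact Or.inl (h.case1 k)
  push Not at k
  obtain ⟨c, hc, n⟩ := k
  obtain ⟨h1, w, hw, ⟨σ, hσ, k1, k2⟩, ρ, hρ, k3, k4⟩ := fr.out c hc n
  rcases h.TK (mul_mem hc.1 hc.1) h1 with e | e
  swap
  · by_cases k : T ≤ PP v s
    · exact Or.inl (h.case2a hc n e k)
    · obtain ⟨d, hd, k⟩ := SetLike.not_le_iff_exists.1 k
      exact Or.inl (h.case2b hc n e hd k)
  have zc : z ∈ T ⊓ cen (cl [v, s]) := ⟨h.zT, z_cen h.dh⟩
  have sq : ∀ x ∈ cen (cl [v, s]), x * x = 1 → x * z * (x * z) = 1 := fun x hx e => by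
    rw [mul_assoc, ← mul_assoc z, mcen.1 hx z (zD h.dh), mul_assoc, h.dh.zz, mul_one, e]
  obtain ⟨w1, w2, w3⟩ : w ∈ T ⊓ cen (cl [v, s]) ∧ ¬ In K z w ∧ w * w = 1 := by
    rcases hw with rfl | rfl
    exacts [⟨hc, n, e⟩, ⟨mul_mem hc zc, (In.mul_z h.dh).not.2 n, sq c hc.2 e⟩]
  have a1 := mul_mem w1 zc
  have hz : w * (w * z) = z := by rw [← mul_assoc, w3, one_mul]
  have hz' : w * z * w = z := by rw [mul_assoc, mcen.1 w1.2 z (zD h.dh), hz]
  have e0 : T ⊓ PP v s = cl [w * z, w, v, t, s] := by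
    rw [h.T0 w1 w2]
    refine le_antisymm (cl_le.2 ?_) (cl_le.2 ?_) <;>
      simp only [List.mem_cons, List.not_mem_nil, or_false, forall_eq_or_imp, forall_eq]
    · exact ⟨(mul_mem_cancel_left (mem_cl (y := w) (by simp))).1 (mem_cl (by simp)),
        mem_cl (by simp), mem_cl (by simp), mem_cl (by simp), mem_cl (by simp)⟩
    · exact ⟨mul_mem (mem_cl (by simp)) (mem_cl (by simp)),
        mem_cl (by simp), mem_cl (by simp), mem_cl (by simp), mem_cl (by simp)⟩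
  have r : Tr t v s w (w * z) := ⟨h.tt, h.dh.vv, h.dh.ss, w3, sq w w1.2 w3, hz'.trans hz.symm,
    (mcen.1 a1.2 v (m1 _ _)).symm, h.ct' a1.1, (mcen.1 a1.2 s (m2 _ _)).symm,
    (mcen.1 w1.2 v (m1 _ _)).symm, h.ct' w1.1, (mcen.1 w1.2 s (m2 _ _)).symm,
    h.ct' (fr.D_le (m1 _ _)), h.ct' (fr.D_le (m2 _ _)), hz.symm ▸ h.dh.vs, by
      have := (h.pres w1 (b := false) w3).card rfl (k := 5) le_rfl (h.ind w1 w2)
      rw [← e0, h.T0 w1 w2]
      rwa [H_val] at this⟩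
  exact Or.inr ⟨⟨T, v, s, z, fr, c, hc, n⟩, w, w * z, σ, ρ, ⟨r, h.half r hz e0 hσ k1 k2,
    h.swap.half r.swap hz' (by rw [cl_swap, ← e0, PP, cl_two s v]) hρ k3 k4⟩, e0 ▸ h.hd⟩

end H73.D8R
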