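/- A generating set of pairwise good involutions of the third Conway group. -/
import Cfsg.Agent.H25.SQBase
import Cfsg.Agent.H80.KFCo3Sa

set_option autoImplicit false
set_option maxRecDepth 100000

namespace H73.SQG

open H71 H88 H80.KFCo3 H64.SG H25.SQ Cfsg.Spor H79.RepCo3

theorem mem (l : ℕ) : vL LS l ∈ ρ.range := by
  by_cases h : l < LS.length
  · exact (hLS.nthD h).2.1
  · rw [vL, H81.nthD_eq, List.getD_eq_default _ _ (not_lt.1 h)]
    exact one_mem _

/-- The value of a letter. -/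
noncomputable def val (l : ℕ) : Co3 := (mem l).choose
/-- The value of a word. -/
noncomputable abbrev V (w : List ℕ) : Co3 := evw val w

theorem ρV (w : List ℕ) : ρ (V w) = evw (vL LS) w := by
  rw [map_evw]; exact congrArg (evw · w) (funext fun l => (mem l).choose_spec)

/-- The words have the same value. -/
noncomputable def eqW (s t : List ℕ) : Bool := eqI LS [8,10,6,4,2,0] s t
/-- The words have different values. -/
noncomputable def neW (s t : List ℕ) : Bool := [8,10,6,4,2,0].any (mvI 640 LS s t)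

theorem of_eq {s t : List ℕ} (h : eqW s t = true) : V s = V t :=
  inj (by rw [ρV, ρV]; exact of_eqI base hLS h)

theorem of_ne {s t : List ℕ} (h : neW s t = true) : V s ≠ V t := fun e => by
  obtain ⟨p, -, k⟩ := List.any_eq_true.1 h
  exact of_mvI hLS k (by rw [← ρV, ← ρV, e])

theorem V1 (l : ℕ) : ρ (V [l]) = vL LS l := (ρV _).trans (mul_one _)

theorem Iz : I (V [32]) := by
  refine ⟨⟨?_, of_ne (t := []) (by decide +kernel)⟩, ?_⟩
  · rw [← evw_append]; exact of_eq (t := []) (by decide +kernel)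
  · obtain ⟨c, t, h1, h2⟩ := cca
    obtain rfl : t = V [32] := inj (h1.trans (V1 32).symm)
    have k := (Cz (V [32])).index_mul_card
    rw [card_of_map inj h2, c, card] at k
    have e : (Cz (V [32])).index = 170775 :=
      Nat.eq_of_mul_eq_mul_right (by norm_num : 0 < 2903040) (k.trans (by norm_num))
    rw [e]
    exact ⟨85387, by norm_num⟩

/-- `w` is conjugate to the letter `32` by `g`. -/
noncomputable def iB (w g : List ℕ) : Bool := eqW (w ++ g) (g ++ [32])

theorem Iw {w : List ℕ} (g : List ℕ) (h : iB w g = true) : I (V w) := by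
  have := of_eq h
  rw [V, V, evw_append, evw_append, ← eq_mul_inv_iff_mul_eq] at this
  have e : V w = V g * V [32] * (V g)⁻¹ := this
  rw [e]
  exact Iz.conj _

/-- The words commute and differ. -/
noncomputable def lcB (s t : List ℕ) : Bool := eqW (s ++ t) (t ++ s) && neW t s

theorem lc {s t : List ℕ} (hs : I (V s)) (ht : I (V t)) (h : lcB s t = true) : Lc (V s) (V t) := by
  rw [lcB, Bool.and_eq_true] at h
  exact ⟨hs, ht, of_ne h.2, by simpa only [V, evw_append] using of_eq h.1⟩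

/-- The configuration of the lemma. -/
noncomputable def lgB (d u r c g1 g2 g3 g4 g5 g6 g7 : List ℕ) : Bool :=
  (iB r g1 && iB c g2 && iB (r ++ d) g3 && iB (u ++ c) g4 && iB (r ++ u) g5 && iB (u ++ d ++ u ++ c) g6 &&
    iB (u ++ d ++ u) g7) && (lcB r u && lcB r d && lcB u c && lcB (r ++ d) (u ++ c) &&
      lcB (r ++ u) (u ++ d ++ u ++ c) && lcB (u ++ d ++ u) c)

theorem lg {d u : List ℕ} (hd : I (V d)) (hu : I (V u)) (r c g1 g2 g3 g4 g5 g6 g7 : List ℕ)
    (h : lgB d u r c g1 g2 g3 g4 g5 g6 g7 = true) : LG (V d) (V u) := by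
  simp only [lgB, Bool.and_eq_true] at h
  obtain ⟨⟨⟨⟨⟨⟨⟨i1, i2⟩, i3⟩, i4⟩, i5⟩, i6⟩, i7⟩, ⟨⟨⟨⟨l1, l2⟩, l3⟩, l4⟩, l5⟩, l6⟩ := h
  have k4 := lc (Iw _ i3) (Iw _ i4) l4
  have k5 := lc (Iw _ i5) (Iw _ i6) l5
  have k6 := lc (Iw _ i7) (Iw _ i2) l6
  simp only [V, evw_append] at k4 k5 k6
  exact ⟨V r, V c, lc (Iw _ i1) hu l1, lc (Iw _ i1) hd l2, lc hu (Iw _ i2) l3, k4,
    by rwa [inv_eq_of_mul_eq_one_right hu.sq], by rwa [inv_eq_of_mul_eq_one_right hu.sq]⟩

/-- a generator -/
def d0 : List ℕ := [32]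
theorem I0 : I (V d0) := Iw [] (by decide +kernel)
/-- a generator -/
def d1 : List ℕ := [55,32,92,91,32,91,92,32,55]
theorem I1 : I (V d1) := Iw [55,32,92,91] (by decide +kernel)
/-- a generator -/
def d2 : List ℕ := [91,9,55,9,32,9,55,9,91]
theorem I2 : I (V d2) := Iw [91,9,55,9] (by decide +kernel)
/-- a generator -/
def d3 : List ℕ := [9,105,79,40,9,32,9,40,79,105,9]
theorem I3 : I (V d3) := Iw [9,105,79,40,9] (by decide +kernel)
theorem g01 : LG (V d0) (V d1) := lg I0 I1 [105,40,91,32,91,40,105] [92,101,79,9,32,9,79,101,92]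
  [105,40,91] [92,101,79,9] [92] [32,101,79,9] [55,92,106,91] [40,55,106,9,33,9] [105,55,40,91] (by decide +kernel)
theorem g02 : LG (V d0) (V d2) := lg I0 I2 [9,101,9,32,9,101,9] [79,9,92,9,32,9,92,9,79]
  [9,101,9] [79,9,92,9] [79,105,69,55,69] [92,9,55,79,101,33,9] [79,101,69,40,91] [105,79,55,40,69] [91,79,101,91] (by decide +kernel)
theorem g03 : LG (V d0) (V d3) := lg I0 I3 [106,33,69,32,69,33,106] [105,55,69,32,69,55,105]
  [106,33,69] [105,55,69] [105,106,33,69] [105,69,40,79,69] [55,69,40,91,69,92] [91,32,101,91] [40,33,69] (by decide +kernel)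
theorem g12 : LG (V d1) (V d2) := lg I1 I2 [79,101,40,69,91,32,91,69,40,101,79] [105,91,106,101,79,9,32,9,79,101,106,91,105]
  [79,101,40,69,91] [105,91,106,101,79,9] [105,92,33,91,101] [91,106,55,9,40,9] [55,33,9,101,9] [32,69,91,101,33,9] [9,101,9,32,91,69] (by decide +kernel)
theorem g13 : LG (V d1) (V d3) := lg I1 I3 [79,9,101,9,91,32,91,9,101,9,79] [106,101,106,69,91,32,91,69,106,101,106]
  [79,9,101,9,91] [106,101,106,69,91] [105,101,40,91,40,9] [33,101,79,9,92,9] [91,101,105,101,9,101] [92,55,79,101,9,92] [105,55,69,32,91,9] (by decide +kernel)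
theorem g23 : LG (V d2) (V d3) := lg I2 I3 [92,101,32,92,32,9,32,9,32,92,32,101,92] [105,32,69,40,79,9,32,9,79,40,69,32,105]
  [92,101,32,92,32,9] [105,32,69,40,79,9] [9,55,101,9,101] [40,9,91,33,69,92] [106,69,33,101,40,32,9] [101,105,91,106,101,92,69] [33,91,101,9,79,55,9] (by decide +kernel)

theorem wmem {K : Subgroup Co3} {T : List (List ℕ)} (hT : ∀ w ∈ T, V w ∈ K) (u : List ℕ) :
    V (u.flatMap fun i => T.getD i []) ∈ K := by
  induction u with
  | nil => exact one_mem _
  | cons i u ih =>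
    rw [List.flatMap_cons, V, evw_append]
    refine mul_mem ?_ ih
    by_cases h : i < T.length
    · rw [List.getD_eq_getElem _ _ h]; exact hT _ (List.getElem_mem h)
    · rw [List.getD_eq_default _ _ (not_lt.1 h)]; exact one_mem _

theorem fg : FG Co3 := by
  refine ⟨{V d0, V d1, V d2, V d3}, ?_, ?_, ?_⟩
  · rintro _ (rfl | rfl | rfl | rfl)
    exacts [I0, I1, I2, I3]
  · have k := wmem (K := Subgroup.closure {V d0, V d1, V d2, V d3}) (T := [d0, d1, d2, d3]) fun w hw =>
      Subgroup.subset_closure (by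
        simp only [List.mem_cons, List.not_mem_nil, or_false] at hw
        rcases hw with rfl | rfl | rfl | rfl <;> simp)
    have a := k [1,2,1,0,1,2,0,3,2,0,3,0,1,2,0,1,3,2,1,0,2,1,0,1,0]
    have b := k [1,0,3,0,2,0,2,3,2,3,0,1,3,0,3,2,0,1,0,3,2,1,3,2,0]
    rw [of_eq (s := [1,2,1,0,1,2,0,3,2,0,3,0,1,2,0,1,3,2,1,0,2,1,0,1,0].flatMap fun i =>
        [d0, d1, d2, d3].getD i []) (t := [14]) (by decide +kernel),
      inj ((V1 14).trans rep.choose_spec.2.2.2.1.symm)] at a
    rw [of_eq (s := [1,0,3,0,2,0,2,3,2,3,0,1,3,0,3,2,0,1,0,3,2,1,3,2,0].flatMap fun i =>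
        [d0, d1, d2, d3].getD i []) (t := [15]) (by decide +kernel),
      inj ((V1 15).trans rep.choose_spec.2.2.2.2.symm)] at b
    rw [eq_top_iff, ← gen_top, Subgroup.closure_le]
    rintro _ (rfl | rfl)
    exacts [a, b]
  · rintro _ (rfl | rfl | rfl | rfl) _ (rfl | rfl | rfl | rfl) <;>
      simp only [g01, g02, g03, g12, g13, g23, true_or, or_true]

end H73.SQG
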