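/- Affine planes of roots over the field with three elements (job O7-Aff). -/
import Cfsg.Agent.H31.O7A

set_option autoImplicit false
set_option maxRecDepth 100000

namespace H73.O7Aff

open H56 QuadraticMap Module H31.O7

attribute [local instance 2000] List.decidableBAll List.decidableBEx

universe u

abbrev Z3 := ZMod 3

abbrev T := Z3 × Z3 × Z3 × Z3 × Z3

def B (d : Z3) (x y : T) : Z3 :=
  2 * x.1 * y.1 + x.2.1 * y.2.2.2.1 + x.2.2.2.1 * y.2.1 + x.2.2.1 * y.2.2.2.2 +
    x.2.2.2.2 * y.2.2.1 + 2 * x.2.2.2.1 * y.2.2.2.1 + 2 * x.2.2.2.2 * y.2.2.2.2 +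
    d * (x.2.2.2.1 * y.2.2.2.2 + x.2.2.2.2 * y.2.2.2.1)

def q (d : Z3) (x : T) : Z3 :=
  x.1 * x.1 + x.2.1 * x.2.2.2.1 + x.2.2.1 * x.2.2.2.2 + x.2.2.2.1 * x.2.2.2.1 +
    x.2.2.2.2 * x.2.2.2.2 + d * (x.2.2.2.1 * x.2.2.2.2)

def rf (d : Z3) (g x : T) : T :=
  (x.1 - B d g x * g.1, x.2.1 - B d g x * g.2.1, x.2.2.1 - B d g x * g.2.2.1,
    x.2.2.2.1 - B d g x * g.2.2.2.1, x.2.2.2.2 - B d g x * g.2.2.2.2)

def gens : List T := [(1, 0, 0, 0, 0), (1, 1, 0, 0, 0), (1, 0, 1, 0, 0), (0, 0, 0, 1, 0), (0, 0, 0, 0, 1)]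

def tab : ℕ := 0x500400007050040300007006050050040300003004050300200005007006050300200005070060200400300040050050008007006500004004400300400040030020005020030005006007500600600010000000000000000000000000000444333000222333000222111000000000444000000444000000111400300040004004400020030005050050008300400040006007500007006500030020005600600010004003050040040300200300005040040300400500007006007050200300005006007050060070100333222000333333000111222000000000000000000000000000000000000444000000444000000000000000000444333000000000444000000000222333000000000444000000000222111000000000111333222000000000000000000444333333000000000000000000444111222000000000000000000000333222000333222000111222000333222000111222000111000000111222000111000000111000000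

def rk (d : Z3) (x : T) : ℕ :=
  (tab >>> (4 * (d.val + 3 * (x.1.val + 3 * (x.2.1.val + 3 * (x.2.2.1.val + 3 * (x.2.2.2.1.val +
    3 * x.2.2.2.2.val))))))) % 16

theorem key : ∀ d a b c e f : Z3, q d (a, b, c, e, f) = 1 → (∃ g ∈ gens, (a, b, c, e, f) = g) ∨
    ∃ g ∈ gens, q d g = 1 ∧ q d (rf d g (a, b, c, e, f)) = 1 ∧
      rk d (rf d g (a, b, c, e, f)) < rk d (a, b, c, e, f) := by decide +kernel

theorem z3 : ∀ a : Z3, a = 0 ∨ a = 1 ∨ a = -1 := by decide

variable {K : Type u} [Field K] {V : Type u} [AddCommGroup V] [Module K V] {Q : QuadraticForm K V}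
  {Ψ : Set V} {N δ : K} {u v w f1 f2 r1 r2 : V}

/-- The Gram matrix of the standard configuration. -/
structure Cf (Q : QuadraticForm K V) (N δ : K) (u f1 f2 r1 r2 : V) : Prop where
  two : (2 : K) ≠ 0
  ne : N ≠ 0
  q0 : Q u = N
  q1 : Q f1 = 0
  q2 : Q f2 = 0
  q3 : Q r1 = N
  q4 : Q r2 = N
  p01 : polar Q u f1 = 0
  p02 : polar Q u f2 = 0
  p03 : polar Q u r1 = 0
  p04 : polar Q u r2 = 0
  p12 : polar Q f1 f2 = 0
  p13 : polar Q f1 r1 = N
  p14 : polar Q f1 r2 = 0
  p23 : polar Q f2 r1 = 0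
  p24 : polar Q f2 r2 = N
  p34 : polar Q r1 r2 = N * δ

def vec (u f1 f2 r1 r2 : V) (a b c e f : K) : V := a • u + b • f1 + c • f2 + e • r1 + f • r2

theorem Cf.polar_vec (h : Cf Q N δ u f1 f2 r1 r2) (a b c e f a' b' c' e' f' : K) :
    polar Q (vec u f1 f2 r1 r2 a b c e f) (vec u f1 f2 r1 r2 a' b' c' e' f') =
      N * (2 * a * a' + b * e' + e * b' + c * f' + f * c' + 2 * e * e' + 2 * f * f' +
        δ * (e * f' + f * e')) := by
  simp only [vec, polar_add_left, polar_add_right, polar_smul_left, polar_smul_right, smul_eq_mul,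
    polar_self', polar_comm Q f1 u, polar_comm Q f2 u, polar_comm Q r1 u, polar_comm Q r2 u,
    polar_comm Q f2 f1, polar_comm Q r1 f1, polar_comm Q r2 f1, polar_comm Q r1 f2,
    polar_comm Q r2 f2, polar_comm Q r2 r1, h.q0, h.q1, h.q2, h.q3, h.q4, h.p01, h.p02, h.p03,
    h.p04, h.p12, h.p13, h.p14, h.p23, h.p24, h.p34]
  ring

theorem Cf.Q_vec (h : Cf Q N δ u f1 f2 r1 r2) (a b c e f : K) :
    Q (vec u f1 f2 r1 r2 a b c e f) = N * (a * a + b * e + c * f + e * e + f * f + δ * (e * f)) :=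
  mul_left_cancel₀ h.two (by rw [← polar_self', h.polar_vec]; ring)

theorem Cf.zero (h : Cf Q N δ u f1 f2 r1 r2) {a b c e f : K}
    (z : ∀ a' b' c' e' f' : K,
      polar Q (vec u f1 f2 r1 r2 a b c e f) (vec u f1 f2 r1 r2 a' b' c' e' f') = 0) :
    a = 0 ∧ b = 0 ∧ c = 0 ∧ e = 0 ∧ f = 0 := by
  simp only [h.polar_vec, mul_eq_zero, h.ne, false_or] at z
  have h0 : a = 0 := mul_left_cancel₀ h.two (by linear_combination z 1 0 0 0 0)
  have h3 : e = 0 := by linear_combination z 0 1 0 0 0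
  have h4 : f = 0 := by linear_combination z 0 0 1 0 0
  refine ⟨h0, ?_, ?_, h3, h4⟩
  · linear_combination z 0 0 0 1 0 - 2 * h3 - δ * h4
  · linear_combination z 0 0 0 0 1 - 2 * h4 - δ * h3

theorem Cf.all (φ : Z3 →+* K) {d : Z3} (h : Cf Q N (φ d) u f1 f2 r1 r2) (cl : Inv Q Ψ Ψ)
    (m0 : u ∈ Ψ) (m1 : u + f1 ∈ Ψ) (m2 : u + f2 ∈ Ψ) (m3 : r1 ∈ Ψ) (m4 : r2 ∈ Ψ) (x : T)
    (hx : q d x = 1) :
    vec u f1 f2 r1 r2 (φ x.1) (φ x.2.1) (φ x.2.2.1) (φ x.2.2.2.1) (φ x.2.2.2.2) ∈ Ψ := by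
  have hg : ∀ g ∈ gens,
      vec u f1 f2 r1 r2 (φ g.1) (φ g.2.1) (φ g.2.2.1) (φ g.2.2.2.1) (φ g.2.2.2.2) ∈ Ψ := by
    simp [gens, vec, m0, m1, m2, m3, m4]
  induction hn : rk d x using Nat.strong_induction_on generalizing x with
  | _ n ih =>
  obtain ⟨a, b, c, e, f⟩ := x
  rcases key d a b c e f hx with ⟨g, h1, h2⟩ | ⟨g, h1, h2, h3, h4⟩
  · rw [h2]; exact hg g h1
  have h5 := cl _ (hg g h1) _ (ih _ (hn ▸ h4) _ h3 rfl)
  have h6 : Q (vec u f1 f2 r1 r2 (φ g.1) (φ g.2.1) (φ g.2.2.1) (φ g.2.2.2.1) (φ g.2.2.2.2)) = N := by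
    have := congrArg φ h2
    simp only [q, map_add, map_mul, map_one] at this
    rw [h.Q_vec, this, mul_one]
  have h7 : refl Q (vec u f1 f2 r1 r2 (φ g.1) (φ g.2.1) (φ g.2.2.1) (φ g.2.2.2.1) (φ g.2.2.2.2))
      (vec u f1 f2 r1 r2 (φ a) (φ b) (φ c) (φ e) (φ f)) =
      vec u f1 f2 r1 r2 (φ (rf d g (a, b, c, e, f)).1) (φ (rf d g (a, b, c, e, f)).2.1)
        (φ (rf d g (a, b, c, e, f)).2.2.1) (φ (rf d g (a, b, c, e, f)).2.2.2.1)
        (φ (rf d g (a, b, c, e, f)).2.2.2.2) := by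
    rw [refl_apply, h6, h.polar_vec, inv_mul_cancel_left₀ h.ne]
    simp only [rf, B, map_sub, map_add, map_mul, map_ofNat, vec]
    module
  rwa [← h7, refl_refl] at h5

theorem span_top (h : Cl Q Ψ N) : Submodule.span K Ψ = ⊤ := by
  refine (h.irr _ fun v hv => Or.inl (Submodule.subset_span hv)).resolve_left fun e => ?_
  obtain ⟨v, hv⟩ := h.nonempty
  have : v = 0 := by simpa [e] using Submodule.subset_span (R := K) hv
  exact h.ne (by rw [← h.norm v hv, this, map_zero])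

theorem eq_zero (h : Cl Q Ψ N) {S : Set V} (hS : Submodule.span K S = ⊤) {x : V}
    (z : ∀ r ∈ S, polar Q r x = 0) : x = 0 := by
  have := mem_perp_span.2 z
  rw [hS] at this
  exact h.nd.2 x fun y => this y trivial

theorem ex_root (h : Cl Q Ψ N) {x : V} (hx : x ≠ 0) : ∃ r ∈ Ψ, polar Q r x ≠ 0 := by
  by_contra hn
  push Not at hn
  exact hx (eq_zero h (span_top h) hn)

theorem val_mem (h : SL Q Ψ N) (hu : u ∈ Ψ) (hv : v ∈ Ψ) : polar Q u v / N ∈ (⊥ : Subfield K) := by
  have n := h.ne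
  have t : (2 : K) ∈ (⊥ : Subfield K) := by
    rw [← one_add_one_eq_two]; exact add_mem (one_mem _) (one_mem _)
  rcases h.val u hu v hv with e | e | e | rfl | rfl
  · rw [e, zero_div]; exact zero_mem _
  · rw [e, div_self n]; exact one_mem _
  · rw [e, neg_div, div_self n]; exact neg_mem (one_mem _)
  · rwa [polar_self', h.norm _ hu, mul_div_assoc, div_self n, mul_one]
  · rw [polar_neg_right, polar_self', h.norm _ hu, neg_div, mul_div_assoc, div_self n, mul_one]
    exact neg_mem t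

theorem map_mem (h : Cl Q Ψ N) {g : O Q} (hg : g ∈ reflGroup Q Ψ) (hv : v ∈ Ψ) : g v ∈ Ψ := by
  induction hg using reflGroup_induction with
  | h1 => exact hv
  | hmul w hw _ g _ ih => exact h.cl w hw _ ih

theorem tr_mem [FiniteDimensional K V] (h : SL Q Ψ N) {g : O Q} (hg : g ∈ reflGroup Q Ψ) :
    tr Q g ∈ (⊥ : Subfield K) := by
  classical
  obtain ⟨S, h1, h2, h3⟩ := exists_linearIndependent K Ψ
  rw [span_top h.toCl] at h2
  have : Finite S := h3.finite
  have := Fintype.ofFinite S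
  let b : Basis S K V := Basis.mk h3 (by rw [Subtype.range_coe_subtype]; exact h2.ge)
  have hb : ∀ i, b i = i := fun i => Basis.mk_apply _ _ i
  let G : Matrix S S (⊥ : Subfield K) := fun i j => ⟨_, val_mem h (h1 i.2) (h1 j.2)⟩
  have hG : ∀ (c : S → (⊥ : Subfield K)) (i : S),
      polar Q (i : V) (∑ j, (c j : K) • b j) / N = (G.mulVec c i : K) := fun c i => by
    rw [← polarBilin_apply_apply, map_sum]
    simp only [Matrix.mulVec, dotProduct, G, polarBilin_apply_apply, polar_smul_right, smul_eq_mul,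
      hb, Finset.sum_div, AddSubmonoidClass.coe_finset_sum, MulMemClass.coe_mul]
    exact Finset.sum_congr rfl fun j _ => by ring
  have hi : Function.Injective G.mulVecLin := (injective_iff_map_eq_zero _).2 fun c hc => by
    have e := eq_zero h.toCl h2 (x := ∑ j, (c j : K) • b j) fun r hr => by
      have := hG c ⟨r, hr⟩
      rw [show G.mulVec c = 0 from hc] at this
      simpa [h.ne] using this
    exact funext fun j => Subtype.ext (Fintype.linearIndependent_iff.1 b.linearIndependent _ e j)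
  have hs := LinearMap.injective_iff_surjective.1 hi
  have hc : ∀ v ∈ Ψ, ∀ i, b.repr v i ∈ (⊥ : Subfield K) := fun v hv i => by
    obtain ⟨c, hc⟩ := hs fun i => ⟨_, val_mem h (h1 i.2) hv⟩
    have e := eq_zero h.toCl h2 (x := v - ∑ j, (c j : K) • b j) fun r hr => by
      have := hG c ⟨r, hr⟩
      rw [show G.mulVec c = _ from hc, div_left_inj' h.ne] at this
      rw [polar_sub_right, this, sub_self]
    rw [sub_eq_zero.1 e, b.repr_sum_self]
    exact (c i).2
  rw [tr, LinearMap.trace_eq_matrix_trace K b, Matrix.trace]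
  refine sum_mem fun i _ => ?_
  rw [Matrix.diag_apply, LinearMap.toMatrix_apply]
  exact hc _ (map_mem h.toCl hg (hb i ▸ h1 i.2)) i

theorem add_mem_of (h : Cl Q Ψ N) (hu : u ∈ Ψ) (hv : v ∈ Ψ) (e : polar Q u v = -N) : u + v ∈ Ψ := by
  have := h.cl u hu v hv
  rwa [refl_apply, e, h.norm u hu, mul_neg, inv_mul_cancel₀ h.ne, neg_smul, one_smul, sub_neg_eq_add,
    add_comm] at this

theorem tri (h : SL Q Ψ N) (h3 : (3 : K) ≠ 0) : Tri Q Ψ N := fun u hu v hv w hw e1 e2 e3 => by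
  have n := h.ne
  have t := h.two
  have e4 : polar Q (u + v) w = -(2 * N) := by rw [polar_add_left, e2, e3]; ring
  rcases h.val _ (add_mem_of h.toCl hu hv e1) w hw with e | e | e | e | e
  · exact absurd (by linear_combination e4 - e) (mul_ne_zero t n)
  · exact absurd (by linear_combination e4 - e) (mul_ne_zero h3 n)
  · exact absurd (by linear_combination e4 - e) n
  · rw [e, polar_add_right, polar_self', h.norm u hu, e1] at e2
    exact absurd (by linear_combination e2) (mul_ne_zero t n)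
  · exact Or.inr (Or.inr (Or.inr (by rw [e, add_neg_cancel])))

theorem neg_mem_of (h : Cl Q Ψ N) (hu : u ∈ Ψ) : -u ∈ Ψ := by
  have := h.cl u hu u hu
  rwa [refl_apply_self (by rw [h.norm u hu]; exact h.ne)] at this

/-- The plane of roots through three points. -/
theorem plane (h : Cl Q Ψ N) (h3 : (3 : K) = 0) (hK : ∀ a : K, a = 0 ∨ a = 1 ∨ a = -1)
    (hu : u ∈ Ψ) (hv : v ∈ Ψ) (hw : w ∈ Ψ) (e1 : polar Q u v = -N) (e2 : polar Q u w = -N)
    (e3 : polar Q v w = -N) (a b : K) : u + (a • (v - u) + b • (w - u)) ∈ Ψ := by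
  have p : ∀ a b c d : K, polar Q (u + (a • (v - u) + b • (w - u)))
      (u + (c • (v - u) + d • (w - u))) = -N := fun a b c d => by
    simp only [polar_add_left, polar_add_right, polar_sub_left, polar_sub_right, polar_smul_left,
      polar_smul_right, smul_eq_mul, polar_self', polar_comm Q v u, polar_comm Q w u,
      polar_comm Q w v, e1, e2, e3, h.norm u hu, h.norm v hv, h.norm w hw]
    linear_combination (N * (1 - a - b - c - d + 2 * a * c + a * d + b * c + 2 * b * d)) * h3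
  have s : ∀ a b c d : K, u + (a • (v - u) + b • (w - u)) ∈ Ψ → u + (c • (v - u) + d • (w - u)) ∈ Ψ →
      u + ((-a - c) • (v - u) + (-b - d) • (w - u)) ∈ Ψ := fun a b c d m1 m2 => by
    convert neg_mem_of h (add_mem_of h m1 m2 (p a b c d)) using 1
    linear_combination (norm := module) h3 • u
  have m00 : u + ((0 : K) • (v - u) + (0 : K) • (w - u)) ∈ Ψ := by simpa using hu
  have m10 : u + ((1 : K) • (v - u) + (0 : K) • (w - u)) ∈ Ψ := by simpa using hv
  have m01 : u + ((0 : K) • (v - u) + (1 : K) • (w - u)) ∈ Ψ := by simpa using hw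
  have m20 := s _ _ _ _ m00 m10
  have m02 := s _ _ _ _ m00 m01
  have m22 := s _ _ _ _ m10 m01
  have m11 := s _ _ _ _ m20 m02
  have m12 := s _ _ _ _ m20 m01
  have m21 := s _ _ _ _ m10 m02
  simp only [neg_zero, sub_zero, zero_sub, neg_neg, sub_neg_eq_add, zero_add] at m20 m02 m22 m11 m12 m21
  rcases hK a with rfl | rfl | rfl <;> rcases hK b with rfl | rfl | rfl <;> assumption

theorem exists_cf (h : Cl Q Ψ N) (W : Submodule K V) (hW : ∀ x ∈ W, u + x ∈ Ψ) (m1 : f1 ∈ W)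
    (m2 : f2 ∈ W) (li : ∀ a b : K, a • f1 + b • f2 = 0 → a = 0 ∧ b = 0) :
    ∃ u f1 f2 r1 r2 δ, Cf Q N δ u f1 f2 r1 r2 ∧ u ∈ Ψ ∧ u + f1 ∈ Ψ ∧ u + f2 ∈ Ψ ∧ r1 ∈ Ψ ∧ r2 ∈ Ψ := by
  have n := h.ne
  have hu : u ∈ Ψ := by simpa using hW 0 W.zero_mem
  have hq : ∀ x ∈ W, Q x = 0 ∧ polar Q u x = 0 := fun x hx => by
    have e1 := h.norm _ (hW x hx)
    have e2 := h.norm _ (hW _ (W.neg_mem hx))
    rw [← sub_eq_add_neg, Q_sub, h.norm u hu] at e2
    rw [Q_add, h.norm u hu] at e1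
    exact ⟨mul_left_cancel₀ h.two (by linear_combination e1 + e2),
      mul_left_cancel₀ h.two (by linear_combination e1 - e2)⟩
  have hp : ∀ x ∈ W, ∀ y ∈ W, polar Q x y = 0 := fun x hx y hy => by
    rw [polar, (hq _ hx).1, (hq _ hy).1, (hq _ (W.add_mem hx hy)).1]; ring
  obtain ⟨r1, k1, n1⟩ := ex_root h (x := f1) fun e => one_ne_zero (li 1 0 (by simp [e])).1
  obtain ⟨g2, k2, z2, n2⟩ : ∃ g2 ∈ W, polar Q r1 g2 = 0 ∧ g2 ≠ 0 :=
    ⟨(-(polar Q r1 f2 / polar Q r1 f1)) • f1 + (1 : K) • f2,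
      W.add_mem (W.smul_mem _ m1) (W.smul_mem _ m2), by
        simp only [polar_add_right, polar_smul_right, smul_eq_mul]; field_simp; ring,
      fun e => one_ne_zero (li _ _ e).2⟩
  obtain ⟨r2, k3, n3⟩ := ex_root h n2
  obtain ⟨F2, k4, z4, z5⟩ : ∃ F ∈ W, polar Q r1 F = 0 ∧ polar Q r2 F = N :=
    ⟨(N / polar Q r2 g2) • g2, W.smul_mem _ k2, by simp [z2], by
      simp only [polar_smul_right, smul_eq_mul]; field_simp⟩
  obtain ⟨F1, k5, z6, z7⟩ : ∃ F ∈ W, polar Q r1 F = N ∧ polar Q r2 F = 0 :=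
    ⟨(N / polar Q r1 f1) • (f1 - (polar Q r2 f1 / N) • F2),
      W.smul_mem _ (W.sub_mem m1 (W.smul_mem _ k4)), by
        simp only [polar_smul_right, polar_sub_right, smul_eq_mul, z4]; field_simp; ring, by
        simp only [polar_smul_right, polar_sub_right, smul_eq_mul, z5]; field_simp; ring⟩
  obtain ⟨x, k6, z8, z9⟩ : ∃ x ∈ W, polar Q r1 (u + x) = 0 ∧ polar Q r2 (u + x) = 0 :=
    ⟨-((polar Q r1 u / N) • F1 + (polar Q r2 u / N) • F2),
      W.neg_mem (W.add_mem (W.smul_mem _ k5) (W.smul_mem _ k4)), by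
        simp only [polar_smul_right, polar_add_right, polar_neg_right, smul_eq_mul, z4, z6]
        field_simp; ring, by
        simp only [polar_smul_right, polar_add_right, polar_neg_right, smul_eq_mul, z5, z7]
        field_simp; ring⟩
  refine ⟨u + x, F1, F2, r1, r2, polar Q r1 r2 / N, ⟨h.two, n, h.norm _ (hW x k6), (hq _ k5).1,
    (hq _ k4).1, h.norm _ k1, h.norm _ k3, ?_, ?_, (polar_comm _ _ _).trans z8,
    (polar_comm _ _ _).trans z9, hp _ k5 _ k4, (polar_comm _ _ _).trans z6,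
    (polar_comm _ _ _).trans z7, (polar_comm _ _ _).trans z4, (polar_comm _ _ _).trans z5,
    by field_simp⟩, hW x k6, ?_, ?_, k1, k3⟩
  · rw [polar_add_left, (hq _ k5).2, hp _ k6 _ k5, add_zero]
  · rw [polar_add_left, (hq _ k4).2, hp _ k6 _ k4, add_zero]
  · rw [add_assoc]; exact hW _ (W.add_mem k6 k5)
  · rw [add_assoc]; exact hW _ (W.add_mem k6 k4)

theorem form (h : Cl Q Ψ N) (hK : Nat.card K = 3) (nt : ¬ Tri Q Ψ N) :
    ∃ Λ : Submodule (⊤ : Subfield K) V, Fm Q Ψ ⊤ N Λ ∧ finrank (⊤ : Subfield K) Λ = 5 := by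
  have : Finite K := Nat.finite_of_card_ne_zero (by omega)
  have := Fintype.ofFinite K
  have : Fact (Nat.Prime 3) := ⟨Nat.prime_three⟩
  let φ : Z3 ≃+* K := ZMod.ringEquivOfPrime K Nat.prime_three (by rwa [← Nat.card_eq_fintype_card])
  have h3 : (3 : K) = 0 := by rw [← map_ofNat φ 3]; exact φ.map_eq_zero_iff.2 rfl
  have hK : ∀ a : K, a = 0 ∨ a = 1 ∨ a = -1 := fun a => by
    obtain ⟨a, rfl⟩ := φ.surjective a
    rcases z3 a with rfl | rfl | rfl <;> simp
  unfold Tri at nt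
  push Not at nt
  obtain ⟨u, hu, v, hv, w, hw, e1, e2, e3, n1, n2, n3, n4⟩ := nt
  obtain ⟨u, f1, f2, r1, r2, δ, c, m0, m1, m2, m3, m4⟩ := exists_cf h (u := u) (f1 := v - u)
    (f2 := w - u) (Submodule.span K {v - u, w - u}) (fun x hx => by
      obtain ⟨a, b, rfl⟩ := Submodule.mem_span_pair.1 hx
      exact plane h h3 hK hu hv hw e1 e2 e3 a b) (Submodule.subset_span (by simp))
    (Submodule.subset_span (by simp)) fun a b e => by
      rcases hK a with rfl | rfl | rfl <;> rcases hK b with rfl | rfl | rfl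
      · exact ⟨rfl, rfl⟩
      · exact absurd (by linear_combination (norm := module) e) n2
      · exact absurd (by linear_combination (norm := module) -e) n2
      · exact absurd (by linear_combination (norm := module) e) n1
      · exact absurd (by linear_combination (norm := module) e + h3 • u) n4
      · exact absurd (by linear_combination (norm := module) -e) n3
      · exact absurd (by linear_combination (norm := module) -e) n1
      · exact absurd (by linear_combination (norm := module) e) n3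
      · exact absurd (by linear_combination (norm := module) -e + h3 • u) n4
  obtain ⟨d, rfl⟩ := φ.surjective δ
  let e : Fin 5 → V := ![u, f1, f2, r1, r2]
  have he : ∀ c : Fin 5 → (⊤ : Subfield K), ∑ i, c i • e i =
      vec u f1 f2 r1 r2 (c 0 : K) (c 1 : K) (c 2 : K) (c 3 : K) (c 4 : K) := fun c => by
    rw [Fin.sum_univ_five]; rfl
  have hm : ∀ a b c d f : K, vec u f1 f2 r1 r2 a b c d f ∈
      Submodule.span (⊤ : Subfield K) (Set.range e) := fun a b c d f =>
    (Submodule.mem_span_range_iff_exists_fun _).2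
      ⟨![⟨a, trivial⟩, ⟨b, trivial⟩, ⟨c, trivial⟩, ⟨d, trivial⟩, ⟨f, trivial⟩], he _⟩
  refine ⟨Submodule.span _ (Set.range e), ⟨h.ne, fun _ _ => trivial, fun x hx z => ?_,
    fun x hx t _ t0 qx => ?_⟩, ?_⟩
  · obtain ⟨a, rfl⟩ := (Submodule.mem_span_range_iff_exists_fun _).1 hx
    rw [he] at z ⊢
    obtain ⟨z0, z1, z2, z3, z4⟩ := c.zero fun a b c d f => z _ (hm a b c d f)
    simp [vec, z0, z1, z2, z3, z4]
  · obtain ⟨a, rfl⟩ := (Submodule.mem_span_range_iff_exists_fun _).1 hx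
    rw [he] at qx ⊢
    obtain ⟨a0, e0⟩ := φ.surjective (a 0)
    obtain ⟨a1, e1⟩ := φ.surjective (a 1)
    obtain ⟨a2, e2⟩ := φ.surjective (a 2)
    obtain ⟨a3, e3⟩ := φ.surjective (a 3)
    obtain ⟨a4, e4⟩ := φ.surjective (a 4)
    rw [← e0, ← e1, ← e2, ← e3, ← e4] at qx ⊢
    refine Cf.all φ.toRingHom (d := d) c h.cl m0 m1 m2 m3 m4 (a0, a1, a2, a3, a4) (φ.injective ?_)
    have t2 : t ^ 2 = 1 := by rcases hK t with rfl | rfl | rfl <;> simp at t0 ⊢
    rw [c.Q_vec, t2] at qx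
    simp only [q, map_add, map_mul, map_one]
    exact mul_left_cancel₀ h.ne qx
  · rw [finrank_span_eq_card, Fintype.card_fin]
    refine Fintype.linearIndependent_iff.2 fun a z i => Subtype.ext ?_
    rw [he] at z
    obtain ⟨z0, z1, z2, z3, z4⟩ := c.zero (a := a 0) (b := a 1) (c := a 2) (e := a 3) (f := a 4)
      fun _ _ _ _ _ => by rw [z, polar_zero_left]
    fin_cases i
    exacts [z0, z1, z2, z3, z4]

theorem jobAff : JobAff.{u} := fun _ _ _ _ _ _ _ _ _ h =>
  ⟨fun _ hg => tr_mem h hg, tri h, form h.toCl⟩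

end H73.O7Aff
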