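/- IT tower, slot NI: the `P × Q` argument. -/
import Cfsg.Agent.H41.ItSpec
import Cfsg.Agent.H1.Coprime2
import Cfsg.Agent.H2.MinNormal
import Cfsg.Agent.H2.Fitting

set_option autoImplicit false

namespace H73.ItNI
open Cfsg Subgroup H41.IT

universe u

theorem le_of_odd {X : Type*} [Group X] [Finite X] {O K : Subgroup X} [O.Normal]
    (hO : Odd (Nat.card O)) (hK : Odd (Nat.card K)) {j : ℕ} (hj : K.index = 2 ^ j) : O ≤ K := by
  have h1 : Odd (Nat.card ↥(K ⊔ O)) := by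
    rw [← (O.subgroupOf (K ⊔ O)).card_mul_index,
      Nat.card_congr (subgroupOfEquivOfLe le_sup_right).toEquiv]
    exact hO.mul (hK.of_dvd_nat ((relIndex_sup_right K O).dvd.trans (relIndex_dvd_card O K)))
  exact le_sup_right.trans (relIndex_eq_one.1 (Nat.eq_one_of_dvd_coprimes
    (Nat.Coprime.pow_right j (Nat.coprime_two_right.2 h1)) (relIndex_dvd_card _ _)
    (hj ▸ relIndex_dvd_index_of_le le_sup_left)))

theorem jobNI : JobNI.{u} := by
  intro X _ _ hs u K ⟨m, hu⟩ hab hK ⟨j, hj⟩ hv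
  have c2 := Nat.coprime_two_right.2 hK
  have hR : IsPGroup 2 (pCore 2 X) := H2.pCore_isPGroup 2 X
  have h1 : K ≤ centralizer (pCore 2 X) := by
    refine H1.thompson_pq (P := zpowers u) (IsPGroup.of_card (by rw [Nat.card_zpowers, hu])) c2
      (zpowers_le.2 fun k hk => (hv u ⟨m, hu⟩ (Commute.refl u) k hk).symm) _ _ rfl hR
      le_normalizer_of_normal le_normalizer_of_normal fun v h k hk => ?_
    obtain ⟨n, hn⟩ := IsPGroup.iff_orderOf.1 hR ⟨v, h.1⟩
    exact (hv v ⟨n, by rw [← hn, orderOf_mk]⟩ (h.2 u (mem_zpowers u)) k hk).symm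
  have h2 : pPrimeCore 2 X ≤ K :=
    le_of_odd (Nat.coprime_two_right.1 (H2.coprime_card_pPrimeCore 2 X)) hK hj
  have h3 := H2.fitting_le_pCore_sup_pPrimeCore 2 X
  have h4 : K ≤ pCore 2 X ⊔ pPrimeCore 2 X := by
    refine le_trans (le_trans ?_ (H2.centralizer_fitting_le X)) h3
    refine le_centralizer_iff.1 (h3.trans (sup_le (le_centralizer_iff.1 h1) fun o ho k hk => ?_))
    exact hab k hk o (h2 ho)
  have h5 : K = pPrimeCore 2 X := by
    refine le_antisymm (fun k hk => ?_) h2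
    obtain ⟨r, hr, o, ho, rfl⟩ := mem_sup_of_normal_right.1 (h4 hk)
    have : r ∈ K ⊓ pCore 2 X := ⟨(mul_mem_cancel_right (h2 ho)).1 hk, hr⟩
    obtain ⟨n, hn⟩ := IsPGroup.iff_card.1 hR
    rw [inf_eq_bot_of_coprime (hn ▸ c2.pow_right n), mem_bot] at this
    rwa [this, one_mul]
  obtain ⟨P⟩ : Nonempty (Sylow 2 X) := inferInstance
  obtain ⟨n, hn⟩ := IsPGroup.iff_card.1 P.isPGroup'
  refine ⟨P, K, h5 ▸ inferInstance, isComplement'_of_coprime ?_ (hn ▸ c2.pow_right n)⟩
  rw [P.card_eq_multiplicity, ← K.card_mul_index, hj, Nat.factorization_mul hK.pos.ne' (by simp),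
    Finsupp.add_apply, Nat.factorization_eq_zero_of_not_dvd hK.not_two_dvd_nat,
    Nat.prime_two.factorization_pow, Finsupp.single_eq_same, zero_add]

end H73.ItNI
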