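import Cfsg.Agent.H48.DC4Spec
import Cfsg.Agent.H98.DP0CSpec

/-! # S3275, chapter C4, part II (`GS`): definitions and job statements; proofs in
`blueprints/U0GS.md`. -/

set_option autoImplicit false

namespace H73.GS

open Subgroup Cfsg H98 H48.DP H57.DPC H48.DP2 H98.DP0C
open scoped commutatorElement

universe u

section defs

variable {X : Type u} [Group X]

/-- What a section knows about the good element `x` and the image `N` of its home. -/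
structure Sx (N : Subgroup X) (x : X) : Prop extends H98.DP0C.Sec X where
  x3 : orderOf x = 3
  alt : ∀ c : X, orderOf c = 3 → Commute c x → c ∉ zpowers x →
    ((∀ R : Subgroup X, IsPGroup 3 R → x ∈ R → R ≤ N) ∧ ∀ g : X, g * c * g⁻¹ ∈ N → g ∈ N) ∨
    (¬ IsConj x c ∧ ∀ R : Subgroup X, IsPGroup 3 R → x ∈ R → R ≤ C1 c → R ≤ C1 x)
  ag : ∀ D : Subgroup X, IsPGroup 3 D → x ∈ D → (∀ d ∈ D, d ^ 3 = 1) → 27 ≤ Nat.card D → D ≤ N

/-- `Y⟨x, s⟩ / Y ≅ S₃`, and `q` normalises `Y⟨s⟩`. -/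
structure Tq (Y : Subgroup X) (x s q : X) : Prop where
  x3 : orderOf x = 3
  xY : x ∈ No Y
  sY : s ∈ No Y
  sx : s * x * s⁻¹ = x⁻¹
  s2 : s * s ∈ Y
  two : IsPGroup 2 ↥(Y ⊔ zpowers s ⊔ zpowers q)
  qT : q ∈ No (Y ⊔ zpowers s)
  q2 : q * q ∈ Y ⊔ zpowers s
  act : ¬ Y ≤ C1 x

/-- `Y` is maximal among the `⟨y, x, s⟩`-invariant groups. -/
structure Dt (Y : Subgroup X) (y x s : X) : Prop where
  xx : XX Y y x s
  y3 : orderOf y = 3
  yx : Commute y x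
  sx : s * x * s⁻¹ = x⁻¹
  sy : Commute s y
  mx : ∀ A : Subgroup X, XX A y x s → Y ≤ A → A = Y

/-- Squares of order at least 4 are central. -/
def Sq (T : Subgroup X) : Prop := ∀ g ∈ T, ∀ h ∈ T, g ^ 4 = 1 ∨ Commute h (g * g)

end defs

/-! ### The three groups -/

def F33 : Prop := ∀ (X : Type u) [Group X] [Finite X] (K : Subgroup X), IsL33 K →
  ∃ (D : Subgroup X) (c v w : X), IsSyl 3 D K ∧ orderOf c = 3 ∧ c ∈ D ∧ D ≤ C1 c ∧
    (∀ d ∈ D, D ≤ C1 d → d ∈ zpowers c) ∧ v ∈ K ∧ v * c * v⁻¹ ∈ D ∧ v * c * v⁻¹ ∉ zpowers c ∧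
    w * c * w⁻¹ ∈ D ∧ K ≤ D ⊔ zpowers v ⊔ zpowers w

def X3 : Prop := ∀ (X : Type u) [Group X] [Finite X] (K : Subgroup X), IsL33 K ∨ IsU33 K →
  27 ∣ Nat.card K ∧ ∀ g ∈ K, ∀ n : ℕ, g ^ 3 ^ n = 1 → g ^ 3 = 1

def JobX3 : Prop := JobKN.{u} → X3.{u}

def F27 : Prop := ∀ (X : Type u) [Group X] [Finite X] (K : Subgroup X), IsL27 K →
  ∀ k ∈ K, ∀ s ∈ K, orderOf k = 3 → s * k * s⁻¹ = k⁻¹ → K ⊓ C1 k ≤ zpowers k ∧
    ∃ A : Subgroup X, A ≤ K ∧ A ≠ ⊥ ∧ IsPGroup 2 A ∧ k ∈ No A ∧ s ∈ No A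

def JobF27 : Prop := JF7 → JobL32.{0} → F27.{u}

def K4 : Prop := ∀ (X : Type u) [Group X] [Finite X] (Y : Subgroup X) (x s q : X), Tq Y x s q →
  Nat.card Y = 4 → Sq (Y ⊔ zpowers s ⊔ zpowers q) → q ∈ No Y

def K8 : Prop := ∀ (X : Type u) [Group X] [Finite X] (Y : Subgroup X) (x s q : X), Tq Y x s q →
  Nat.card Y = 8 → Sq (Y ⊔ zpowers s ⊔ zpowers q) → ∀ v ∈ Y, v * v = 1

def K2 : Prop := ∀ (X : Type u) [Group X] [Finite X] (K Y : Subgroup X) (x s q : X),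
  IsL27 K ∨ IsU33 K → Y ⊔ zpowers s ⊔ zpowers q ≤ K → Tq Y x s q → q ∈ No Y

def JobK2 : Prop := JobKN.{u} → JobUM0.{u} → JobUM.{u} → K4.{u} → K8.{u} → K2.{u}

/-! ### Sections -/

def N33 : Prop := ∀ (X : Type u) [Group X] [Finite X] (N K : Subgroup X) (x : X), Sx N x →
  IsL33 K → x ∈ K → K ≤ N

def FX : Prop := ∀ (X : Type u) [Group X] [Finite X] (x s : X), H98.DP0C.Sec X → orderOf x = 3 →
  IsPGroup 2 (zpowers s) → s * x * s⁻¹ = x⁻¹ → x ∈ Ce (pCoreOf 3 ⊤) →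
  (∀ K : Subgroup X, IsComponentOf K ⊤ → x ∈ Ce K) → x ∈ pCoreOf 3 (⊤ : Subgroup X)

def JobNF : Prop := (F33.{u} → N33.{u}) ∧ FX.{u}

def S3a : Prop := ∀ (X : Type u) [Group X] [Finite X] (N Y : Subgroup X) (x : X), Sx N x →
  IsPGroup 2 Y → x ∈ No Y → ¬ ⁅Y, zpowers x⁆ ≤ N → ⁅Y, zpowers x⁆ ≤ Ce (pCoreOf 3 ⊤)

def S3 : Prop := ∀ (X : Type u) [Group X] [Finite X] (N Y : Subgroup X) (x s q : X), Sx N x →
  Tq Y x s q → ¬ ⁅Y, zpowers x⁆ ≤ N → q ∈ No Y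

def JobS3 : Prop := JobFs.{u} → JobPr.{u} → NC.{u} → K2.{u} → N33.{u} → S3a.{u} → S3.{u}

def S2a : Prop := ∀ (X : Type u) [Group X] [Finite X] (Y K : Subgroup X) (y x s : X), Sx ⊥ x →
  Dt Y y x s → Y ≤ C1 x → IsComponentOf K ⊤ → x ∈ Ce K

def JobS2a : Prop := JobPr.{u} → NC.{u} → F27.{u} → X3.{u} → S2a.{u}

def S2 : Prop := ∀ (X : Type u) [Group X] [Finite X] (Y T : Subgroup X) (y x s : X), Sx ⊥ x →
  Dt Y y x s → Y ≤ C1 x → IsPGroup 2 T → y ∈ No T → Y ⊔ zpowers s ≤ T → T ≤ Y ⊔ zpowers s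

def JobS2 : Prop := FX.{u} → S2a.{u} → S2.{u}

/-! ### The ambient group -/

/-- Lifting 3-groups through `H → H / O₂(H)`. -/
def LF : Prop := ∀ (G X : Type u) [Group G] [Finite G] [Group X] [Finite X] (H : Subgroup G)
  (π : H →* X), Pj H π →
  (∀ (A : Subgroup G) (R : Subgroup X), A ≤ H → IsPGroup 3 A → IsPGroup 3 R → bar π A ≤ R →
    ∃ S : Subgroup G, S ≤ H ∧ IsPGroup 3 S ∧ A ≤ S ∧ bar π S = R) ∧
  (∀ (S : Subgroup G) (a b : H), IsPGroup 3 S → (a : G) ∈ S → (b : G) ∈ S → π a = π b → a = b) ∧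
  ∀ a b : H, orderOf (a : G) = 3 → orderOf (b : G) = 3 → π a = π b → IsConj (a : G) (b : G)

/-- In the centraliser of a bad element the elements of order 3 are central in 3-groups. -/
def BC : Prop := ∀ (G : Type u) [Group G] [Finite G] (M Q R : Subgroup G) (c x : G), Ub M Q →
  c ∈ M → orderOf c = 3 → ¬ Good c → IsPGroup 3 R → R ≤ C1 c → x ∈ R → orderOf x = 3 → R ≤ C1 x

/-- An `E₉` with two good lines is good. -/
def TG : Prop := ∀ (G : Type u) [Group G] [Finite G] (M Q : Subgroup G) (a b c : G), Ub M Q →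
  a ∈ M → b ∈ M → orderOf a = 3 → orderOf b = 3 → Commute a b → b ∉ zpowers a → Good a → Good b →
  c ∈ zpowers a ⊔ zpowers b → c ≠ 1 → Good c

def JobBG : Prop := C0.{u} → BC.{u} ∧ TG.{u}

def NG : Prop := ∀ (G : Type u) [Group G] [Finite G] (M Q Y : Subgroup G) (a b : G), Ub M Q →
  a ∈ M → b ∈ M → orderOf a = 3 → orderOf b = 3 → Commute a b → b ∉ zpowers a → Good a → Good b →
  IsPGroup 2 Y → a ∈ No Y → b ∈ No Y → Y ≤ M

def AG : Prop := ∀ (G : Type u) [Group G] [Finite G] (M Q D : Subgroup G) (y z u : G),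
  Bd M Q y z u → D ≤ M → IsPGroup 3 D → (∀ d ∈ D, d ^ 3 = 1) → 27 ≤ Nat.card D →
  ∃ a ∈ D, ∃ b ∈ D, orderOf a = 3 ∧ orderOf b = 3 ∧ Commute a b ∧ b ∉ zpowers a ∧ Good a ∧ Good b

def JobNA : Prop := (TG.{u} → NG.{u}) ∧ AG.{u}

def TX : Prop := ∀ (G X : Type u) [Group G] [Finite G] [Group X] [Finite X] (M Q H : Subgroup G)
  (π : H →* X) (y x u : G) (hx : x ∈ H) (N : Subgroup X), Bd M Q y x u → H ≠ ⊤ → ¬ H ≤ M →
  Pj H π → (O2 H ≤ M → N = bar π M) → Sx N (π ⟨x, hx⟩)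

def JobTX : Prop := SEC.{u} → LF.{u} → BC.{u} → NG.{u} → AG.{u} → TX.{u}

/-- The amalgam `(Y⟨x, s⟩, Y⟨x, s⟩^q)`; by S2751. -/
def AM : Prop := ∀ (G : Type u) [Group G] [Finite G] (Y : Subgroup G) (x s q : G), Tq Y x s q →
  q ∈ No Y ∨ Nat.card ↥(Y ⊔ zpowers s) ≤ 128 ∨ ∃ N : Subgroup G, N ≠ ⊥ ∧ N ≤ Y ∧ Y ≤ No N ∧
    x ∈ No N ∧ s ∈ No N ∧ q ∈ No N

def G3 : Prop := ∀ (G : Type u) [Group G] [Finite G] (M Q Y : Subgroup G) (y x u s q : G),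
  Bd M Q y x u → Tq Y x s q → ¬ ⁅Y, zpowers x⁆ ≤ M →
  cj q ⁅Y, zpowers x⁆ ≤ Y ∨ Nat.card ↥(Y ⊔ zpowers s) ≤ 128

def JobG3 : Prop := AM.{u} → TX.{u} → S3.{u} → G3.{u}

def G2 : Prop := ∀ (G : Type u) [Group G] [Finite G] (M Q Y T : Subgroup G) (y x u s : G),
  Bd M Q y x u → Dt Y y x s → ¬ ⁅Y, zpowers x⁆ ≤ M → IsPGroup 2 T → y ∈ No T →
  Y ⊔ zpowers s ≤ T → (∀ q ∈ T, cj q ⁅Y, zpowers x⁆ ≤ Y) → T ≤ Y ⊔ zpowers s

def JobG2 : Prop := TX.{u} → S2.{u} → G2.{u}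

def JobGS : Prop := G3.{u} → G2.{u} → GS.{u}

/-! ### Kit -/

section kit

variable {X : Type u} [Group X] {Y W : Subgroup X} {x s t : X}

/-- an element that inverts `x` lies in no `x`-invariant 2-group. -/
theorem inv_not_mem (hW : IsPGroup 2 W) (hx : x ∈ No W) (x3 : orderOf x = 3)
    (sx : s * x * s⁻¹ = x⁻¹) : s ∉ W := fun hs => by
  have h1 : x * s * x⁻¹ * s⁻¹ ∈ W := mul_mem ((mem_normalizer_iff.1 hx s).1 hs) (inv_mem hs)
  have e : x * s * x⁻¹ * s⁻¹ = x * x := by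
    calc x * s * x⁻¹ * s⁻¹ = x * (s * x * s⁻¹)⁻¹ := by group
      _ = x * x := by rw [sx, inv_inv]
  obtain ⟨k, hk⟩ := isPGroup_iff_forall.1 hW _ h1
  rw [e, ← pow_two, ← pow_mul, ← pow_succ'] at hk
  have := orderOf_dvd_of_pow_eq_one hk
  rw [x3] at this
  exact absurd (Nat.Prime.dvd_of_dvd_pow Nat.prime_three this) (by norm_num)

/-- `Y` has index at most two in `Y⟨s⟩`. -/
theorem mem_two (hs : s ∈ No Y) (s2 : s * s ∈ Y) (ht : t ∈ Y ⊔ zpowers s) :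
    t ∈ Y ∨ t * s⁻¹ ∈ Y := by
  have c : ∀ {a : X}, a ∈ Y → s * a * s⁻¹ ∈ Y := fun {a} h => (mem_normalizer_iff.1 hs a).1 h
  have c' : ∀ {a : X}, a ∈ Y → s⁻¹ * a * s ∈ Y := fun {a} h => by
    simpa using (mem_normalizer_iff.1 (inv_mem hs) a).1 h
  let U : Subgroup X :=
    { carrier := {t | t ∈ Y ∨ t * s⁻¹ ∈ Y}
      one_mem' := .inl (one_mem _)
      inv_mem' := fun {a} h => h.elim (fun h => .inl (inv_mem h)) fun h => .inr (by
        have := mul_mem (c' (inv_mem h)) (inv_mem s2)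
        convert this using 1
        group)
      mul_mem' := fun {a b} h k => by
        rcases h with h | h <;> rcases k with k | k
        · exact .inl (mul_mem h k)
        · exact .inr (by rw [mul_assoc]; exact mul_mem h k)
        · exact .inr (by convert mul_mem h (c k) using 1; group)
        · exact .inl (by convert mul_mem (mul_mem h (c k)) s2 using 1; group) }
  exact (sup_le (fun a h => .inl h) (zpowers_le.2 (.inr (by simp))) : Y ⊔ zpowers s ≤ U) ht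

theorem Tq.twoY {q : X} (h : Tq Y x s q) : IsPGroup 2 Y :=
  h.two.to_le (le_sup_left.trans le_sup_left)

theorem Tq.sn {q : X} (h : Tq Y x s q) : s ∉ Y := inv_not_mem h.twoY h.xY h.x3 h.sx

end kit

end H73.GS
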