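import Cfsg.Agent.H45.MSpec5
import Cfsg.Agent.H71.M24P6

/-! Simple groups of order `244823040`: the wrong principal `11`-block does not occur. -/

set_option autoImplicit false

namespace H73.M24

open Cfsg H28 H29 H39 H87 Subgroup H45 H45.MO H45.MN H45.M24
open H71.M24 (k zero_of_dvd)

universe u

/-- the character sum of the class multiplication formula -/
def fF (a p ζ ψ z ρ y x : ℤ) : ℤ :=
  244823040 + a * a * 887040 + 2 * (p * p) * 5440512 + (ζ * ζ + 2 * (ψ * ψ)) * 236544 +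
    z * z * 73920 - ρ * ρ * 971520 - y * y * 332640 - x * x * 42240

noncomputable def inn (c S : ℕ) (p γ ζ ψ : ℤ) : Bool :=
  fL (cand 244823040 [] 11 c 736) fun Y => fL (cand 244823040 [] 11 c 3312) fun Z =>
    fL (cand 244823040 [] 11 c 5796) fun X => al (cand 244823040 [] 11 c 252) fun ρ =>
      (ρ - 2) % 5 != 0 || al X fun x => (x - 1) % 5 != 0 ||
        fN (S + s2 ρ + s2 x + s2 (x - ρ) + s2 (γ - 1 - ρ)) fun S2 => Nat.blt c S2 || al Z fun z =>
          fN (S2 + s2 z + s2 (z - ζ)) fun S3 => Nat.blt c S3 || al Y fun y =>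
            fZ (ρ + y + x - (1 + 2 * p + ζ + 2 * ψ + z)) fun a => Nat.blt c (S3 + s2 y + s2 a) ||
              fZ (fF a p ζ ψ z ρ y x) fun F => F != 0 && F != 11 * (c * c)

noncomputable def chk (c : ℕ) : Bool :=
  al (cand 244823040 [] 11 c 45) fun p => p % 5 != 0 ||
    fZ (p * p - 1) fun γ => fZ ((p * p + 45) / 2) fun ζ => fZ (1 + γ - ζ) fun θ =>
      fZ (p + θ) fun ψ => fN (1 + 2 * s2 p + s2 ζ + 2 * s2 ψ + s2 γ + 2 * s2 θ)
        fun S => Nat.blt c S || !k c 2024 γ || !k c 1035 ζ || !k c 990 θ || !k c 1035 ψ ||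
          (c % 7 == 0 && (γ - 1) % 7 != 0) || inn c S p γ ζ ψ

theorem search : al (dvs 967680) (fun c => c % 10 != 0 || chk c) = true := by decide +kernel

theorem spec {c : ℕ} (hc : c ∣ 967680) (h2 : 10 ∣ c) {a p ρ γ ζ θ ψ x y z : ℤ}
    (kp : k c 45 p = true) (kρ : k c 252 ρ = true) (kγ : k c 2024 γ = true)
    (kζ : k c 1035 ζ = true) (kθ : k c 990 θ = true) (kψ : k c 1035 ψ = true)
    (kx : k c 5796 x = true) (ky : k c 736 y = true) (kz : k c 3312 z = true)
    (eγ : γ = p * p - 1) (eζ : 2 * ζ = p * p + 45)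
    (eθ : θ = 1 + γ - ζ) (eψ : ψ = p + θ) (ez : 1 + a + 2 * p + ζ + 2 * ψ + z = ρ + y + x)
    (p5 : p % 5 = 0) (r5 : (ρ - 2) % 5 = 0) (x5 : (x - 1) % 5 = 0) (h7 : 7 ∣ c → (γ - 1) % 7 = 0)
    (hs : 1 + 2 * s2 p + s2 ζ + 2 * s2 ψ + s2 γ + 2 * s2 θ + s2 ρ + s2 x + s2 (x - ρ) +
      s2 (γ - 1 - ρ) + s2 z + s2 (z - ζ) + s2 y + s2 a ≤ c)
    (hF : fF a p ζ ψ z ρ y x = 0 ∨ fF a p ζ ψ z ρ y x = 11 * (c * c)) : False := by
  have h0 := al_spec search (mem_dvs (by norm_num) hc)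
  have h1 : chk c = true := by simpa [Nat.mod_eq_zero_of_dvd h2] using h0
  simp only [chk, fZ_eq, fN_eq] at h1
  have h4 := al_spec h1 (mem_cand kp (by omega))
  rw [← eγ, show (p * p + 45) / 2 = ζ by omega, ← eθ, ← eψ, kγ, kζ, kθ, kψ, p5] at h4
  simp only [Bool.not_true, Bool.or_false, Bool.or_eq_true, Nat.blt_eq, bne_self_eq_false,
    Bool.false_or, Bool.and_eq_true, beq_iff_eq, bne_iff_ne] at h4
  have h6 := h4.resolve_left fun h =>
    h.elim (by omega) fun h => h.2 (h7 (Nat.dvd_of_mod_eq_zero h.1))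
  simp only [inn, fL_eq, fZ_eq, fN_eq] at h6
  have h7 := al_spec h6 (mem_cand kρ (by omega))
  rw [r5, bne_self_eq_false, Bool.false_or] at h7
  have h8 := al_spec h7 (mem_cand kx (by omega))
  rw [x5, bne_self_eq_false, Bool.false_or, Bool.or_eq_true, Nat.blt_eq] at h8
  have h9 := al_spec (h8.resolve_left (by omega)) (mem_cand kz (by omega))
  rw [Bool.or_eq_true, Nat.blt_eq] at h9
  have h10 := al_spec (h9.resolve_left (by omega)) (mem_cand ky (by omega))
  rw [show ρ + y + x - (1 + 2 * p + ζ + 2 * ψ + z) = a by omega] at h10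
  simp only [Bool.or_eq_true, Bool.and_eq_true, bne_iff_ne, Nat.blt_eq] at h10
  exact hF.elim (h10.resolve_left (by omega)).1 (h10.resolve_left (by omega)).2

theorem jobP5c : JobP5c.{u} := by
  classical
  rintro G _ _ _ hG ⟨n, L, E, s, A⟩ ⟨n1, L1, E1, s1, B⟩ a b c d ρ α β β' ζ ψ ψ' l κ θ θ' μ T S
  have dd := S.deg
  simp only [List.map_cons, List.map_nil, List.cons.injEq, and_true] at dd
  obtain ⟨d1, d2, d3, d4, d5, d6, d7, d9, d12, -⟩ := dd
  have d8 := T.dρ
  have d10 := T.db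
  have nd := List.nodup_cons.1 (List.Nodup.of_append_left (l₂ := [c, θ, θ', a, d, μ])
    (l₁ := [one G, α, β, β', ζ, ψ, ψ', l, ρ, κ, b]) S.nd)
  obtain ⟨v, hv, n5, L5, E5, s5, C⟩ : ∃ v, 2 ∣ v ∧ HB G 5 4 v :=
    T.v5.elim (⟨_, by norm_num, ·⟩) (⟨_, by norm_num, ·⟩)
  obtain ⟨f, hf⟩ := C.exists_ord
  obtain ⟨t, ht, hc, ho⟩ := C.exists_both Nat.prime_two (by norm_num) hv hf
  rw [hc.eq] at ho
  have t2 := H83.mul_self_of_orderOf_two ht
  have cg : ∀ (p : ℕ) (w : G) (χ : IrrCharacter G) (m : ℤ), p.Prime → orderOf w = p → Commute w t →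
      χ.1 (w * t) = m → (iv χ t - m) % p = 0 := fun p w χ m hp hw hc e => by
    have := iv_cong hp (hw ▸ pow_orderOf_eq_one w) hc (coe_iv ⟨_, e⟩) (ic_inv t2 χ)
    rw [iv_eq e] at this
    exact Int.emod_eq_zero_of_dvd (dvd_sub_comm.1 this)
  obtain ⟨v1, v2, -⟩ := T.sing (f * t) (by rw [ho]; norm_num)
  have h11 := B.not_dvd_cc rfl (a := t) (by simp [ht])
  have hk : ∀ χ ∈ [α, β, β', ζ, ψ, ψ', l, ρ, κ, b, c, θ, θ', a, d, μ],
      k (cc t) (dg χ) (iv χ t) = true := fun χ h => by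
    have := ok_of (nonab hG) (qs := []) (by simp) (p := 11)
      (fun e : χ = one G => (List.nodup_cons.1 S.nd).1 (e ▸ h)) ht (fun h => absurd h h11) (Or.inl rfl)
    rwa [one_mul, one_mul, iv_one, hG] at this
  simp only [List.forall_mem_cons, d2, d4, d5, d7, d8, d9, d10, T.dc, d12, Nat.cast_ofNat] at hk
  obtain ⟨-, k2, -, k4, k5, -, k7, k8, k9, k10, k11, k12, -⟩ := hk
  obtain ⟨i1, i2, i3, i4, i5, i6, i7, i8⟩ := S.inv t t2
  have j1 : iv a t = iv b t - iv ρ t := by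
    have := S.r3 t (by simp [ht])
    rw [← ic_inv t2 ρ, ← ic_inv t2 a, ← ic_inv t2 b] at this
    exact eq_sub_of_add_eq' (by exact_mod_cast this)
  have j2 : iv d t = iv c t - 1 - iv ρ t := by
    have := T.reg t (by simp [ht])
    rw [← ic_inv t2 d, ← ic_inv t2 a, ← ic_inv t2 b, ← ic_inv t2 c] at this
    have : 1 + iv b t + iv d t = iv a t + iv c t := by exact_mod_cast this
    omega
  have r5 := sq_le S.nd (ic_inv t2)
  simp only [MN.sq, pr, List.map_cons, List.map_nil, List.sum_cons, List.sum_nil, i1, i5, i7, i8, j1,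
    j2] at r5
  obtain ⟨_, P, V, t', X, Y, δ, ε, hC, h, hV, he, -, mL, mE, -, -⟩ := B.br
  obtain rfl : t' = 1 := by have := h.te; omega
  obtain ⟨η, hη⟩ := h.Y_nonempty
  have hT : Tt X η = [α, β, β', ζ, ψ, ψ', l, ρ, κ, b].toFinset := by
    ext χ
    rw [List.mem_toFinset]
    refine ⟨fun h1 => (List.mem_cons.1 (S.out χ fun h2 => ?_)).resolve_left
      (ne_one_of_Tt h hη h1), fun h1 => ?_⟩
    · have := dg_Tt_mod h hη h1
      rcases st_sign h χ with e | e <;> rw [e] at this <;> omega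
    · have h2 : ¬ 11 ∣ dg χ := by
        simp only [List.mem_cons, List.not_mem_nil, or_false] at h1
        rcases h1 with e | e | e | e | e | e | e | e | e | e <;> rw [e] <;> omega
      rcases List.mem_append.1 (B.out rfl χ (fun e => nd.1 (e ▸ h1)) h2) with h3 | h3
      · exact mem_Tt.2 (Or.inr ((mL χ).1 h3))
      · have := (mE χ).1 h3
        rw [Y_eq h hη rfl, Finset.mem_singleton] at this
        exact mem_Tt.2 (Or.inl this)
  have sg : ∀ χ ∈ [α, β, β', ζ, ψ, ψ', l, ρ, κ, b], st X δ ε χ = if dg χ % 11 = 1 then 1 else -1 :=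
    fun χ h1 => by
      have := dg_Tt_mod h hη (hT ▸ List.mem_toFinset.2 h1)
      rcases st_sign h χ with e | e <;> rw [e] at this ⊢ <;> split_ifs <;> omega
  simp only [List.forall_mem_cons, d1, d2, d3, d4, d5, d6, d7, d8, d9, d10, Nat.reduceMod,
    if_true, OfNat.ofNat_ne_one, if_false] at sg
  obtain ⟨g1, g2, g3, g4, g5, g6, g7, g8, g9, g10, -⟩ := sg
  obtain ⟨y, hy, hP⟩ := H43.exists_gen_sylow (p := 11) (m := 22256640) hG (by norm_num) P
  have r1 := reg_Tt h hη (reg2 (by norm_num) (by norm_num) t2) (ic_inv t2)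
  obtain ⟨j, hj, -, h2⟩ := card_Iv hC (by norm_num) hP t2
  have r2 := inv_int hC (by norm_num) (he ▸ h) hP t2 t2 hη
  rw [hT, List.sum_toFinset _ nd.2] at r1 r2
  rw [h2, hV, hG] at r2
  rw [hV] at hj
  simp only [List.map_cons, List.map_nil, List.sum_cons, List.sum_nil, g1, g2, g3, g4, g5, g6,
    g7, g8, g9, g10, d1, d2, d3, d4, d5, d6, d7, d8, d9, d10, i1, i7] at r1 r2
  refine spec (a := iv α t) (dvd_of_not_dvd (q := 11) (by norm_num) (dvd_of_not_dvd (q := 23)
    (by norm_num) (show cc t ∣ 244823040 from hG ▸ card_subgroup_dvd_card _)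
    (A.not_dvd_cc rfl (by simp [ht]))) h11) (ho.symm.dvd.trans ((orderOf_mk (f * t)
      (mem_centralizer_singleton.2 (hc.symm.mul_left rfl))).symm.dvd.trans (orderOf_dvd_natCard _))) k2 k8 k11 k4 k12 k5 k10 k9 k7
    (by rw [i2, pow_two]) (by rw [i3, pow_two]) i4 i6 (by linarith)
    (by simpa using cg 5 f β 0 (by norm_num) hf hc.symm (by
      rw [C.zero (by omega) (by rw [ho]; norm_num), Int.cast_zero]))
    (cg 5 f ρ 2 (by norm_num) hf hc.symm (by
      have := S.r3 (f * t) (by rw [ho]; norm_num)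
      rw [v1, v2] at this
      push_cast; linear_combination this))
    (cg 5 f b 1 (by norm_num) hf hc.symm (by rw [v2, Int.cast_one])) (fun h7 => ?_) (by omega) ?_
  · obtain ⟨w, hw, hc⟩ := exists_comm (by norm_num) h7
    exact cg 7 w c 1 (by norm_num) hw hc (by
      rw [T.c7 _ (dvd_orderOf_mul (by norm_num) hw hc (by simp [ht])), Int.cast_one])
  · rw [fF]
    generalize cc t = C at r2 ⊢
    interval_cases j
    · left; norm_num at r2; linarith
    · right; norm_num at r2; linarith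

end H73.M24
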