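import Cfsg.Agent.H80.C4Ba
import Cfsg.Agent.H17.DPZI
import Cfsg.Agent.H35.DpOF
import Cfsg.Agent.H9.DC4VZ
import Cfsg.Agent.H78.DPF2
import Cfsg.Agent.H39.DpVN
import Cfsg.Agent.H24.DP0M1
import Cfsg.Agent.H58.DPM2
import Cfsg.Agent.H31.DP0BK
import Cfsg.Agent.H94.DC4QE
import Cfsg.Agent.H5.DPSU
import Cfsg.Agent.H32.DPMA
import Cfsg.Agent.H77.Dp0MB

/-! S3275, chapter C4: assembly of part I. -/

set_option autoImplicit false

namespace H73.GS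

open H48.DP2

universe u

theorem c4_one (f7 : JF7) (gs : GS.{u}) : C4.{u} :=
  c4_of f7 H80.C4Ba.job H17.DPZI.job H35.DpOF.job H9.DC4VZ.job H78.DPF2.job H39.DpVN.jobVN
    H24.DP0.job H58.DPM2.jobM2 H31.DP0BK.jobBK H94.DC4.jobQE gs H5.DPSU.job H32.DPMA.job
    H77.Dp0MB.jobMB

end H73.GS
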