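import Cfsg.Agent.H7.HKSSpec
import Cfsg.Agent.H52.ReeBr
import Cfsg.Agent.H30.ReeCount
import Cfsg.Agent.H30.ReeInst
import Cfsg.Agent.H98.Sylow
/-! HKS tower, job MR: simple groups with elementary abelian Sylow `2`-subgroup of order eight. -/
set_option autoImplicit false

namespace H73.HKS
open Cfsg Subgroup H30 H98
universe u

section
variable {K : Type*} [Field K] {m : ℕ} {G : Type*} [Group G]

/-- transport of the data of a Ree group -/
def reeMap {G' : Type*} [Group G'] (R : Ree K m G') (e : G' ≃* G) : Ree K m G where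
  σ := R.σ
  x t u v := e (R.x t u v)
  h := e.toMonoidHom.comp R.h
  φ := e.toMonoidHom.comp R.φ
  card_K := R.card_K
  σ_eq := R.σ_eq
  x_mul t u v T U V := by rw [← map_mul, R.x_mul]
  x_eq_one t u v h := R.x_eq_one t u v (e.map_eq_one_iff.1 h)
  h_conj κ t u v := by rw [← R.h_conj, map_mul, map_mul, map_inv]; rfl
  φ_U t := congrArg e (R.φ_U t)
  φ_neg := (congrArg e R.φ_neg).trans (map_one e)
  z_comm g := by
    have := congrArg e (R.z_comm g)
    rwa [map_mul, map_mul] at this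
  n_conj κ := by
    have := congrArg e (R.n_conj κ)
    rwa [map_mul, map_mul, map_inv e] at this
  bruhat g := by
    obtain ⟨g, rfl⟩ := e.surjective g
    rcases R.bruhat g with ⟨t, u, v, κ, rfl⟩ | ⟨t, u, v, κ, t', u', v', rfl⟩
    · exact Or.inl ⟨t, u, v, κ, map_mul _ _ _⟩
    · exact Or.inr ⟨t, u, v, κ, t', u', v', by rw [map_mul, map_mul, map_mul]; rfl⟩
  opp t u v t' u' v' κ h := R.opp t u v t' u' v' κ (e.injective (by
    rw [map_mul, map_mul, map_mul, map_inv]; exact h))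
  card_G := (Nat.card_congr e.toEquiv).symm.trans R.card_G

variable (R : Ree K m G)

theorem not_comm : R.x 1 0 0 * R.x 0 1 0 ≠ R.x 0 1 0 * R.x 1 0 0 := fun h => by
  rw [R.x_mul, R.x_mul] at h
  simpa using (R.x_inj h).2.2

theorem eq_one_of_inv {t z : G} (ht : orderOf t = 2) (hz : z ∈ R.U)
    (hc : ∀ y ∈ R.U, y * z = z * y) (h : t * z = z * t) : z = 1 := by
  by_contra z1
  obtain ⟨u, hu, k, hk, rfl⟩ := R.mem_B_of_conj (g := t) hz z1
    (by rw [h, mul_inv_cancel_right]; exact R.U_le_B hz)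
  have tt : u * k * (u * k) = 1 := by rw [← pow_two, ← ht, pow_orderOf_eq_one]
  have kk := (R.UH_unique (mul_mem hu (R.H_conj_U hk hu)) (one_mem _) (mul_mem hk hk) (one_mem _)
    (by rw [one_mul, ← tt]; group)).2
  rcases R.eq_of_mul_self hk kk with rfl | rfl
  · obtain ⟨a, b, c, rfl⟩ := hu
    have := orderOf_dvd_of_pow_eq_one (R.x_pow_nine a b c)
    rw [mul_one] at ht
    rw [ht] at this
    omega
  · have e : R.z * z * R.z⁻¹ = z := by
      rw [mul_inv_eq_iff_eq_mul, ← mul_right_inj u, ← mul_assoc, h, ← mul_assoc, ← mul_assoc, hc u hu]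
    obtain ⟨b, rfl⟩ := R.eq_x_of_z_conj hz e
    have k := hc _ (R.x_mem 1 0 0)
    rw [R.x_mul, R.x_mul] at k
    obtain rfl : b = 0 := by simpa using (R.x_inj k).2.2
    exact z1 R.x_zero

theorem exists_cj {P : Subgroup G} (hP : Nat.card P = (3 ^ (2 * m + 1)) ^ 3) :
    ∃ g, cj g P = R.U := by
  have := R.finite_G
  obtain ⟨g, hg⟩ := R.exists_conj_le_U (P := P) (IsPGroup.of_card (hP.trans (pow_mul _ _ _).symm))
  refine ⟨g, eq_of_le_of_card_ge ?_ (by rw [card_cj, hP, R.card_U])⟩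
  rintro _ ⟨y, hy, rfl⟩
  exact hg y hy

end

theorem jobMR : H7.HKS.JobMR.{u} := by
  intro G _ _ _ S h8 hS ho
  have hc : Nat.card G = 8 * S.index := by rw [← h8, card_mul_index]
  have na : ¬ IsMulCommutative G := fun h => by
    letI : CommGroup G := { ‹Group G› with mul_comm := h.1.1 }
    have := IsSimpleGroup.prime_card (α := G)
    rw [hc] at this
    exact absurd ((Nat.dvd_prime this).1 ⟨2 * S.index, by ring⟩ : 4 = 1 ∨ _) (by omega)
  have p2 : IsPGroup 2 S := IsPGroup.of_card (n := 3) h8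
  have s2 : IsSyl 2 S ⊤ := isSyl_of_not_dvd_relIndex le_top p2
    (by rw [relIndex_top_right]; exact ho.not_two_dvd_nat)
  have ab : H10.W.Ab2 G := fun P => ⟨⟨fun a b => Subtype.ext <| by
    obtain ⟨g, -, e⟩ := (isSyl_sylow P).exists_cj_eq s2
    have m : ∀ x ∈ (P : Subgroup G), x * x = 1 := fun x hx => by
      have := hS _ (e ▸ conj_mem_cj (g := g) hx)
      rwa [show g * x * g⁻¹ * (g * x * g⁻¹) = g * (x * x) * g⁻¹ by group, mul_inv_eq_one,
        mul_eq_left] at this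
    exact comm_of_mul_self (m _ a.2) (m _ b.2) (m _ (mul_mem a.2 b.2))⟩⟩
  obtain ⟨i, hi⟩ := ho
  rcases H52.RB.walter G na ab with ⟨n, hn, h⟩ | ⟨q, -, hq, h⟩ | h | ⟨K, _, _, m, hm, hK, ⟨e⟩⟩
  · have k := h.card_of_even (Nat.even_pow.2 ⟨even_two, by omega⟩)
    left
    have o : Odd ((2 ^ n) ^ 2 - 1) :=
      Nat.Even.sub_odd (Nat.one_le_pow _ _ (by positivity)) (by simp [Nat.even_pow]; omega) odd_one
    obtain rfl : n = 3 := by
      obtain rfl | h3 := hn.eq_or_lt
      · omega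
      by_contra h4
      obtain ⟨d, rfl⟩ := Nat.exists_eq_add_of_le (show 4 ≤ n by omega)
      rw [pow_add, mul_assoc] at k
      omega
    exact k
  · have k := h.two_mul_card (Nat.odd_iff.2 (by omega))
    exfalso
    obtain ⟨a, b, hb, rfl⟩ : ∃ a b, (b = 3 ∨ b = 5) ∧ q = 8 * a + b :=
      ⟨q / 8, q % 8, hq, (Nat.div_add_mod q 8).symm⟩
    rcases hb with rfl | rfl
    · rw [show (8 * a + 3) ^ 2 - 1 = 16 * (4 * a * a + 3 * a) + 8 from
        Nat.sub_eq_of_eq_add (by ring)] at k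
      generalize 4 * a * a + 3 * a = c at k
      rw [show (8 * a + 3) * (16 * c + 8) = 16 * (8 * (a * c) + 4 * a + 3 * c + 1) + 8 by ring] at k
      omega
    · rw [show (8 * a + 5) ^ 2 - 1 = 16 * (4 * a * a + 5 * a + 1) + 8 from
        Nat.sub_eq_of_eq_add (by ring)] at k
      generalize 4 * a * a + 5 * a + 1 = c at k
      rw [show (8 * a + 5) * (16 * c + 8) = 16 * (8 * (a * c) + 4 * a + 5 * c + 2) + 8 by ring] at k
      omega
  · exact Or.inr (Or.inl h.2)
  let R := reeMap (reeG2 hK) e.symm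
  refine Or.inr (Or.inr ⟨⟨K, _, _, m, hm, hK, ⟨e⟩⟩, m, _, hm, rfl, by rw [R.card_G]; ring,
    R.card_two, fun P t hP => ?_⟩)
  obtain ⟨g, hg⟩ := exists_cj R hP
  have mm : ∀ {y}, y ∈ R.U → g⁻¹ * y * g ∈ P := fun hy => mem_cj.1 (hg ▸ hy)
  refine ⟨⟨_, mm (R.x_mem 1 0 0), _, mm (R.x_mem 0 1 0), fun h => not_comm R ?_⟩, fun ht z hz h => ?_⟩
  · simpa [mul_assoc] using congrArg (· * g⁻¹) h
  have := eq_one_of_inv R (t := g * t * g⁻¹) (z := g * z * g⁻¹)
    ((orderOf_injective (MulAut.conj g).toMonoidHom (MulAut.conj _).injective _).trans ht)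
    (hg ▸ conj_mem_cj hz.1) (fun y hy => by
      have := hz.2 _ (mm hy)
      calc y * (g * z * g⁻¹) = g * (g⁻¹ * y * g * z) * g⁻¹ := by group
        _ = _ := by rw [this]; group)
    (by
      calc g * t * g⁻¹ * (g * z * g⁻¹) = g * (t * z) * g⁻¹ := by group
        _ = _ := by rw [h]; group)
  rwa [mul_inv_eq_one, mul_eq_left] at this

end H73.HKS
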