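import Cfsg.Agent.H73.P6K

/-! Tower P6, slot PC: the groups `Pc (C z)` in `Sp₆(2)`. -/

set_option autoImplicit false
set_option linter.unusedSectionVars false

namespace H73.P6PC

open H64.SG (O2 Is2 Cz Cs Ns IsO2 mem_Cz mem_Cs isO2_pCoreOf isPGroup_iff_is2)
open H85.P6.H67.UA hiding Par
open H85.P6.H67.SP
open H67.SA (la cm)
open Subgroup H73.P6K
open scoped commutatorElement

theorem odd_braid {G : Type*} [Group G] {a b : G} (ha : a * a = 1) (hb : b * b = 1)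
    (h : a * b * a⁻¹ = b * a * b⁻¹) : Odd (orderOf (a * b)) := by
  rw [inv_eq_of_mul_eq_one_right ha, inv_eq_of_mul_eq_one_right hb] at h
  refine (show Odd 3 by decide).of_dvd_nat (orderOf_dvd_of_pow_eq_one ?_)
  calc (a * b) ^ 3 = a * b * a * (b * a * b) := by simp only [pow_succ, pow_zero, one_mul, mul_assoc]
    _ = a * (b * (a * a) * b) * a := by rw [← h]; simp only [mul_assoc]
    _ = 1 := by rw [ha, mul_one, hb, mul_one, ha]

theorem cm_O2 {G : Type*} [Group G] {H : Subgroup G} {g d : G} (hg : g ∈ H) (hd : d ∈ H)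
    (ho : Odd (orderOf d)) : g * (d * g⁻¹ * d⁻¹) ∈ O2 H := by
  rw [show g * (d * g⁻¹ * d⁻¹) = g * d * g⁻¹ * d⁻¹ by group]
  refine mul_mem (subset_closure ⟨mul_mem (mul_mem hg hd) (inv_mem hg), ?_⟩)
    (inv_mem (subset_closure ⟨hd, ho⟩))
  rwa [← MulAut.conj_apply, MulEquiv.orderOf_eq]

variable {n : ℕ} {F : Type} [Field F] [StarRing F] [TrivialStar F] [CharP F 2] [Finite F]

local notation "e0" => (ev 0 : Vn n F)
local notation "e1" => (ev 1 : Vn n F)
local notation "e2" => (ev 2 : Vn n F)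
local notation "f2" => (ev (Fin.rev 2) : Vn n F)
local notation "f1" => (ev (Fin.rev 1) : Vn n F)
local notation "f0" => (ev (la n) : Vn n F)

theorem zo (q : Nat.card F = 2) (a : F) : a = 0 ∨ a = 1 := by
  obtain ⟨y, -, h⟩ := (Nat.card_eq_two_iff' (0 : F)).1 q
  exact (em _).imp_right fun k => (h a k).trans (h 1 one_ne_zero).symm

variable [p : Par n F] [Base n F]

theorem ok {u x : Vn n F} (h : hf x u = 0) (c : F) : Ok u x c := FV.ok u x c h

theorem EEi {u x : Vn n F} (h : hf x u = 0) (c : F) : (EE u x c)⁻¹ = EE u x c := by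
  rw [EE_inv (ok h c), star_trivial]

theorem EE2 {u x : Vn n F} (h : hf x u = 0) (c : F) : EE u x c * EE u x c = 1 :=
  mul_eq_one_iff_inv_eq.2 (EEi h c)

theorem acT (u v : Vn n F) : ac (TT u) v = v + hf v u • u := by
  rw [ac_Tc (h00 u) (star_one F), one_mul]

theorem cjT (g : XU n F) (u : Vn n F) : g * TT u * g⁻¹ = TT (ac g u) :=
  Tc_conj (h00 u) (star_one F) g

theorem h22 : hf e2 f2 = 1 := hev1 2
theorem h22' : hf f2 e2 = 1 := (hfc _ _).trans h22

/-- The non-zero vectors of `⟨e₂, f₂⟩`. -/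
def Ny (y : Vn n F) : Prop := y = e2 ∨ y = f2 ∨ y = e2 + f2

theorem Ny.b {y : Vn n F} (h : Ny y) : y ∈ WB n F := by
  rcases h with rfl | rfl | rfl
  exacts [b2, b2r, add_mem b2 b2r]

theorem EE_D {u y : Vn n F} (hu : u ∈ WA n F) (hy : y ∈ WB n F) (c : F) :
    EE u y c ∈ Stab e0 ⊓ Stab e1 := ⟨(memQ.1 (EEQ hu hy c)).1, (memQ.1 (EEQ hu hy c)).2.1⟩

theorem pcD {u y : Vn n F} (hu : u ∈ WA n F) (hy : Ny y) : EE u y 1 ∈ Pc (Stab e0 ⊓ Stab e1) := by
  have fx : ∀ w ∈ WA n F, ac (TT e2 * TT f2) w = w := fun w hw => by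
    rw [ac_mul, acT f2, hf_symm (perpAB b2r hw), zero_smul, add_zero, acT, hf_symm (perpAB b2 hw),
      zero_smul, add_zero]
  have od : Odd (orderOf (TT e2 * TT f2)) := odd_braid (EE2 (by simp) 1) (EE2 (by simp) 1) (by
    rw [cjT, cjT, acT, acT, h22, h22', one_smul, one_smul, add_comm])
  have key : ∀ x z, Ny x → Ny z → ac (TT e2 * TT f2) x = z → hf z x = 1 →
      EE u (x + z) 1 ∈ Pc (Stab e0 ⊓ Stab e1) := fun x z hx hz e k => by
    have := cm_O2 (EE_D hu hx.b 0) ⟨fx _ a0, fx _ a1⟩ od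
    rw [EEi (perpAB hx.b hu), EE_conj (okAB hu hx.b 0), fx u hu, e,
      EE_mul (okAB hu hx.b 0) (okAB hu hz.b 0), k, add_zero, zero_add] at this
    exact mem_Pc this (H64.SG.is2_of_sq (EE2 (perpAB (add_mem hx.b hz.b) hu) 1))
  have t1 : ac (TT e2 * TT f2) e2 = f2 := by
    rw [ac_mul, acT, acT, h22, one_smul, hf_add_left, h00, h22', zero_add, one_smul, add_right_comm,
      v_add_self, zero_add]
  have t2 : ac (TT e2 * TT f2) f2 = e2 + f2 := by
    rw [ac_mul, acT, acT, h00, zero_smul, add_zero, h22', one_smul, add_comm]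
  rcases hy with rfl | rfl | rfl
  · have := key _ _ (.inr (.inl rfl)) (.inr (.inr rfl)) t2 (by rw [hf_add_left, h22, h00, add_zero])
    rwa [add_left_comm, v_add_self, add_zero] at this
  · have := key _ _ (.inr (.inr rfl)) (.inl rfl)
      (by rw [ac_add, t1, t2, add_left_comm, v_add_self, add_zero])
      (by rw [hf_add_right, h22, h00, zero_add])
    rwa [add_right_comm, v_add_self, zero_add] at this
  · exact key _ _ (.inl rfl) (.inr (.inl rfl)) t1 h22'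

theorem cm_xa : ⁅EE e0 e2 1, EE e1 f2 (1 : F)⁆ = xa n F := by
  have o := okAB (n := n) (F := F) a0 b2 1
  rw [commutatorElement_def, EE_conj (okAB a1 b2r 1), ac_EE_fix o h10 (hf_symm b2.2),
    ac_EE_perp o b2r.1, h22', one_smul, EEi b2r.2,
    EE_mul (okAB a1 (add_mem b2r (AB a0)) 1) (okAB a1 b2r 1), add_right_comm, v_add_self, zero_add,
    hf_add_right, h00, b2r.1, CharTwo.add_self_eq_zero, add_zero, add_zero]
  exact qq_comm _ _

theorem dec (q : Nat.card F = 2) {v : Vn n F} (hv : v ∈ WB n F) :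
    v ∈ WA n F ∨ ∃ y, Ny y ∧ v + y ∈ WA n F := by
  have k : v + (v 2 • e2 + v (Fin.rev 2) • f2) ∈ WA n F := by
    have h := wkp.2 hv
    refine wk2.1 fun i hi => ?_
    obtain rfl := p.six
    fin_cases i
    · simp at hi
    · simp at hi
    · simp [ev_apply, CharTwo.add_self_eq_zero]
    · simp [ev_apply, Fin.rev, CharTwo.add_self_eq_zero]
    · simp [ev_apply, h 4 (by simp)]
    · simp [ev_apply, h 5 (by simp)]
  rcases zo q (v 2) with h | h <;> rcases zo q (v (Fin.rev 2)) with h' | h' <;> rw [h, h'] at k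
  · exact .inl (by simpa using k)
  · exact .inr ⟨_, .inr (.inl rfl), by simpa using k⟩
  · exact .inr ⟨_, .inl rfl, by simpa using k⟩
  · exact .inr ⟨_, .inr (.inr rfl), by simpa using k⟩

theorem EE_M {u w : Vn n F} (hu : u ∈ WA n F) (hw : w ∈ WA n F) (c : F) : EE u w c ∈ Mk n F 2 :=
  memM.2 fun v => by
    rw [ac_EE (okAB hu (AB hw) c), add_assoc v, add_assoc v, add_right_comm, v_add_self, zero_add]
    exact add_mem (add_mem (Submodule.smul_mem _ _ hu) (Submodule.smul_mem _ _ hw))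
      (Submodule.smul_mem _ _ hu)

theorem genQ (q : Nat.card F = 2) {A : Subgroup (XU n F)} (h1 : Mk n F 2 ≤ A)
    (h2 : ∀ u ∈ WA n F, ∀ y, Ny y → EE u y 1 ∈ A) : Qk n F 2 ≤ A := by
  refine FV.gen_Q 2 (by have := p.five; omega) A fun u x c hu hx => ?_
  rw [wk2] at hu
  rcases dec q (wkp.1 hx) with k | ⟨y, hy, k⟩
  · exact h1 (EE_M hu k c)
  · have := mul_mem (h1 (EE_M hu k (c + 1))) (h2 u hu y hy)
    rwa [EE_mul (okAB hu (AB k) _) (okAB hu hy.b _), perpAB hy.b k, add_zero, add_assoc x,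
      v_add_self, add_zero, add_assoc, CharTwo.add_self_eq_zero, add_zero] at this

theorem Tc_mem (q : Nat.card F = 2) {A : Subgroup (XU n F)} {u : Vn n F} (h : TT u ∈ A) (c : F) :
    Tc c u ∈ A := by
  rcases zo q c with rfl | rfl
  · rw [Tc, EE_zero]
    exact one_mem A
  · exact h

theorem core_ns (C : Subgroup (XU n F)) : C ≤ Ns (Cfsg.pCoreOf 2 (Pc C)) :=
  (ns_Pc C).trans (H98.normalizer_le_normalizer_pCoreOf (p := 2) _)

theorem ob (q : Nat.card F = 2) : IsO2 (QQ n F) (Pc (PP n F)) := by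
  obtain ⟨-, k2, k3, k4⟩ := FR.o2 e0 (ev_ne 0)
  obtain ⟨j1, -, j2, j3⟩ := isO2_pCoreOf (Pc (PP n F))
  refine ⟨fun g hg => ?_, (Pc_le _).trans k2, k3, fun R h1 h2 h3 =>
    (j3 R h1 h2 h3).trans (k4 _ (j1.trans (Pc_le _)) (core_ns _) j2)⟩
  have m : ∀ y, Ny y → EE e0 y 1 ∈ Pc (PP n F) := fun y hy => Pc_mono inf_le_left (pcD a0 hy)
  have l2 : Li e0 e2 := fun a b h => by
    have hb : b = 0 := by
      simpa [hf_add_left, hf_smul_left, h22, hf_symm b2r.1] using congrArg (hf · f2) h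
    exact ⟨by simpa [hb, ev_ne] using h, hb⟩
  have k : ∀ y, hf y e0 = 0 → Li e0 y → EE e0 y 1 ∈ Pc (PP n F) := fun y hy l => by
    obtain ⟨a, a1, a2⟩ := FW.w2 _ _ (hf_symm hy) l
    obtain ⟨b, b1, b3⟩ := FW.w2 _ _ (hf_symm b2.1) l2
    have h1 : ac (a * b⁻¹) e0 = e0 := by rw [ac_mul, ← b1, ac_inv_ac, a1, b1]
    have := H98.conj_mem_of_mem_normalizer (ns_Pc (PP n F) h1) (m _ (.inl rfl))
    rwa [EE_conj (okAB a0 b2 1), h1, ac_mul, ← b3, ac_inv_ac, a2] at this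
  have t : TT e0 ∈ Pc (PP n F) := by
    have k0 := mul_mem (k _ h10 li01) (mul_mem (k (e1 + e2) (by rw [hf_add_left, h10, b2.1, add_zero])
      fun a b h => ?_) (m _ (.inl rfl)))
    · rwa [EE_mul (okAB a0 (add_mem (AB a1) b2) 1) (okAB a0 b2 1), add_assoc e1, v_add_self,
        add_zero, EE_mul (okAB a0 (AB a1) 1) (okAB a0 (AB a1) _), v_add_self, hf_add_right, h00, h00,
        b2.2, CharTwo.add_self_eq_zero, add_zero, add_zero, add_zero, add_zero] at k0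
    · have hb : b = 0 := by
        simpa [hf_add_left, hf_smul_left, h22, hf_symm b2r.1, hf_symm b2r.2] using
          congrArg (hf · f2) h
      exact ⟨by simpa [hb, ev_ne] using h, hb⟩
  obtain ⟨x, c, hx, rfl⟩ := (FV.mem_Qv _ g).1 hg
  by_cases l : Li e0 x
  · have := mul_mem (k x hx l) (Tc_mem q t (c + 1))
    rwa [EE_mul (ok hx 1) (ok (by simp) _), add_zero, hf_zero_left, add_zero, add_left_comm,
      CharTwo.add_self_eq_zero, add_zero] at this
  · obtain ⟨a, rfl⟩ : ∃ a : F, x = 0 + a • e0 := by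
      by_contra h
      refine l fun a b k => ?_
      rcases zo q b with rfl | rfl
      · exact ⟨by simpa [ev_ne] using k, rfl⟩
      · exact absurd ⟨a, by rw [zero_add, eq_of_add k, one_smul]⟩ h
    rw [EE_shift]
    exact Tc_mem q t _

theorem xa_eq : xa n F = zu 0 1 := by simp [zu]
theorem xc_eq : xc n F = zu 1 1 := by simp [zu]

theorem xa_D : xa n F ∈ Pc (Stab e0 ⊓ Stab e1) := by
  have h1 := pcD (n := n) (F := F) a0 (.inl rfl)
  have h2 := pcD (n := n) (F := F) a1 (.inr (.inl rfl))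
  rw [← cm_xa]
  exact mul_mem (mul_mem (mul_mem h1 h2) (inv_mem h1)) (inv_mem h2)

theorem xa_T : xa n F = TT (e0 + e1) * TT e0 * TT e1 := qq_eq_TT (FV.pp _ _ h01)

theorem h1f : hf e1 f1 = 1 := hev1 1

theorem cm01 : TT e0 * TT e1 = TT e1 * TT e0 := by
  rw [← mul_inv_eq_iff_eq_mul, cjT, acT, h10, zero_smul, add_zero]

theorem M_le (q : Nat.card F = 2) : Mk n F 2 ≤ Pc (Cz (zu (n := n) (0 : F) 1)) := by
  have oa : Ok e0 f1 (0 : F) := ok (hf_symm h0r) 0
  have ob : Ok e1 f0 (0 : F) := ok (hf_symm h1n) 0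
  have r0 : hf f0 e0 = 1 := (hfc _ _).trans h0n
  have r1 : hf f1 e1 = 1 := (hfc _ _).trans h1f
  have r2 : hf f0 f1 = 0 := hev (by have := p.five; rw [Fin.val_rev, val1 F]; simp; omega)
  have x0 : ac (EE e0 f1 0) e1 = e1 + e0 := by rw [ac_EE_perp oa h10, h1f, one_smul]
  have y0 : ac (EE e1 f0 0) e0 = e0 + e1 := by rw [ac_EE_perp ob h01, h0n, one_smul]
  have ha : EE e0 f1 0 ∈ Cz (zu (n := n) (0 : F) 1) :=
    cz_of (c := 1) (ac_EE_self oa) (by rw [x0, one_smul])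
  have hb : EE e1 f0 0 ∈ Cz (zu (n := n) (0 : F) 1) := mem_cz.2 (by
    rw [y0, ac_EE_self ob, one_smul]
    have := EE_shift (1 : F) e1 e0 0
    rw [one_smul, tr0, add_zero] at this
    exact (qq_comm _ _).trans (this.trans (qq_comm _ _)))
  have od := odd_braid (EE2 oa.perp 0) (EE2 ob.perp 0) (by
    rw [EE_conj ob, EE_conj oa, x0, y0, ac_EE oa, ac_EE ob, r0, r1, r2, hf_symm r2]
    simp [add_comm])
  have t0 : TT e0 ∈ Cz (zu (n := n) (0 : F) 1) := D_le 0 1 (EE_D a0 (zero_mem _) 1)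
  have k1 := cm_O2 t0 (mul_mem ha hb) od
  rw [EEi (by simp), cjT, ac_mul, y0, ac_add, x0, ac_EE_self oa, add_left_comm, v_add_self,
    add_zero] at k1
  have k2 := mem_Pc k1 (H64.SG.is2_of_sq (by
    rw [mul_assoc, ← mul_assoc (TT e1), ← cm01, mul_assoc, EE2 (by simp), mul_one, EE2 (by simp)]))
  have k3 : xa n F ∈ Pc (Cz (zu (n := n) (0 : F) 1)) := Pc_mono (D_le 0 1) xa_D
  have k4 : TT (e0 + e1) ∈ Pc (Cz (zu (n := n) (0 : F) 1)) := by
    rwa [xa_T, mul_assoc, mul_mem_cancel_right k2] at k3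
  have k5 : TT e0 ∈ Pc (Cz (zu (n := n) (0 : F) 1)) := by
    have := H98.conj_mem_of_mem_normalizer (ns_Pc _ hb) k4
    rwa [cjT, ac_add, y0, ac_EE_self ob, add_assoc, v_add_self, add_zero] at this
  intro g hg
  obtain ⟨a, b, c, rfl⟩ := (FV.mem_M2 g).1 hg
  refine mul_mem (mul_mem (Tc_mem q k5 a) ?_) (Tc_mem q ((mul_mem_cancel_left k5).1 k2) c)
  rcases zo q b with rfl | rfl
  · rw [zero_smul, qq, EE_zero]
    exact one_mem _
  · rwa [one_smul]

theorem o2 (q : Nat.card F = 2) : IsO2 (Qk n F 2) (Pc (Cz (zu (n := n) (0 : F) 1))) := by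
  have hb : (1 : F) ≠ 0 := one_ne_zero
  refine ⟨genQ q (M_le q) fun u hu y hy => Pc_mono (D_le 0 1) (pcD hu hy),
    (Pc_le _).trans (nsQ (czW hb)), isQ,
    fun R h1 h2 h3 => ((isO2_pCoreOf _).2.2.2 R h1 h2 h3).trans ?_⟩
  obtain ⟨k1, -, k2, -⟩ := isO2_pCoreOf (Pc (Cz (zu (n := n) (0 : F) 1)))
  have k3 := core_ns (Cz (zu (n := n) (0 : F) 1))
  generalize Cfsg.pCoreOf 2 (Pc (Cz (zu (n := n) (0 : F) 1))) = R at *
  have k4 := k1.trans (Pc_le _)
  have k5 := triv k2 k4 k3 (czW hb) (D_le 0 1)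
  obtain ⟨y, y1, y2, y3⟩ := fixmod k2 (A := ⊥) (by simp) (fun g hg => czW hb g (k4 hg))
    fun k => ev_ne 0 (k a0)
  obtain ⟨g, hg, rfl⟩ := tr2 1 y1 y2
  have k6 : ∀ w ∈ WA n F, w ≠ 0 → ∀ r ∈ R, ac r w = w := fun w hw h0 r hr => by
    obtain ⟨g', hg', rfl⟩ := tr2 1 hw h0
    exact eq_of_add (by
      simpa [ac_mul] using mvfix (k3 (mul_mem hg' (inv_mem hg))) (by simp) y3 r hr)
  exact fun r hr => memQ.2 ⟨k6 _ a0 (ev_ne 0) r hr, k6 _ a1 (ev_ne 1) r hr, k5 r hr⟩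

theorem O2_le : O2 (Cz (zu (n := n) (1 : F) 1)) ≤ Stab e1 := (closure_le _).2 fun g hg => by
  obtain ⟨h0, c, h1⟩ := cz_a one_ne_zero one_ne_zero hg.1
  obtain ⟨k, hk⟩ := hg.2
  have h2 : g ^ 2 ∈ Stab e1 := by
    rw [mem_Stab, sq, ac_mul, h1, ac_add, ac_smul, h0, h1, add_assoc, v_add_self, add_zero]
  have h3 := pow_orderOf_eq_one g
  rw [hk, pow_succ, pow_mul, mul_eq_one_iff_inv_eq] at h3
  exact h3 ▸ inv_mem (pow_mem h2 k)

theorem oz (h : FC0 n F) (q : Nat.card F = 2) : ∃ A, IsO2 A (Pc (Cz (zu (n := n) (1 : F) 1))) ∧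
    ⁅A, A⁆ = ZS n F ∧ A ⊔ Cs A ⊓ Cz (zu 1 1) = Qk n F 2 := by
  have hb : (1 : F) ≠ 0 := one_ne_zero
  have k := isO2_pCoreOf (Pc (Cz (zu (n := n) (1 : F) 1)))
  have k3 := core_ns (Cz (zu (n := n) (1 : F) 1))
  generalize Cfsg.pCoreOf 2 (Pc (Cz (zu (n := n) (1 : F) 1))) = A at *
  have k4 := k.1.trans (Pc_le _)
  have k5 : A ≤ Qk n F 2 := fun r hr => memQ.2 ⟨(cz_a hb hb (k4 hr)).1,
    O2_le (Pc_le_O2 _ (k.1 hr)), triv k.2.2.1 k4 k3 (czW hb) (D_le 1 1) r hr⟩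
  have k6 : ∀ u ∈ WA n F, ∀ y, Ny y → EE u y 1 ∈ A := fun u hu y hy =>
    k.2.2.2 (Qk n F 2 ⊓ Pc (Cz (zu 1 1))) inf_le_right
      ((le_inf ((Pc_le _).trans (nsQ (czW hb))) le_normalizer).trans inf_normalizer_le_normalizer_inf)
      (isQ.to_inf_left) ⟨EEQ hu hy.b 1, Pc_mono (D_le 1 1) (pcD hu hy)⟩
  have k7 : Qk n F 2 ≤ Cz (zu 1 1) := fun g hg => D_le 1 1 ⟨(memQ.1 hg).1, (memQ.1 hg).2.1⟩
  refine ⟨A, k, le_antisymm ((commutator_mono k5 k5).trans h.zq.le) fun z hz => ?_,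
    le_antisymm (sup_le k5 fun g hg => ?_) (genQ q (fun m hm => mem_sup_right ⟨fun a ha =>
      (h.cq.ge hm :) a (k5 ha), k7 ?_⟩) fun u hu y hy => mem_sup_left (k6 u hu y hy))⟩
  · obtain ⟨c, rfl⟩ := (FV.mem_Zs _ _ h01 z).1 hz
    rcases zo q c with rfl | rfl
    · rw [zero_smul, qq, EE_zero]
      exact one_mem _
    · rw [one_smul]
      have := commutator_mem_commutator (k6 _ a0 _ (.inl rfl)) (k6 _ a1 _ (.inr (.inl rfl)))
      rwa [cm_xa] at this
  · have c : ∀ u ∈ WA n F, ∀ y, Ny y → EE (ac g u) (ac g y) 1 = EE u y 1 := fun u hu y hy => by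
      rw [← EE_conj (okAB hu hy.b 1), mul_inv_eq_iff_eq_mul]
      exact (hg.1 _ (k6 u hu y hy)).symm
    have g0 := (cz_a hb hb hg.2).1
    have g1 : ac g e1 = e1 := eq_of_hf fun z => sq_inj (by
      have e := congrArg (fun t => hf (ac t z) z) (c _ a1 _ (.inl rfl))
      have o := okAB (n := n) (F := F) a1 b2 1
      simp only [ac_EE o, ac_EE (o.ac g), hf_add_left, hf_smul_left, hfc z] at e
      linear_combination e + (hf e2 z * hf e1 z - hf (ac g e2) z * hf (ac g e1) z) * two0 F)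
    refine memQ.2 ⟨g0, g1, fun v hv => ?_⟩
    rcases dec q hv with j | ⟨y, hy, j⟩
    · rw [fixA g0 g1 j, v_add_self]
      exact zero_mem _
    · have e := c _ a0 y hy
      rw [g0] at e
      obtain ⟨a, j1, -⟩ := EE_inj (ev_ne 0) (okAB a0 hy.b 1)
        (by simpa [g0] using (okAB a0 hy.b 1).ac g) e.symm
      have j2 := fixA g0 g1 j
      rw [ac_add, j1, ← add_assoc] at j2
      rw [show ac g v + v = a • e0 by
        linear_combination (exp := 1) j2 + v_add_self v - v_add_self (a • e0)]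
      exact Submodule.smul_mem _ _ a0
  · exact memQ.2 ⟨MB hm (AB a0), MB hm (AB a1), fun v _ => memM.1 hm v⟩

theorem cc : xc n F ∈ ⁅Qc n F, Qc n F⁆ := by
  have oa : Ok e0 f1 (0 : F) := ok (hf_symm h0r) 0
  have := commutator_mem_commutator
    (show EE e0 f1 0 ∈ Qc n F from mem_sup_left ((FV.mem_Qv _ _).2 ⟨_, _, oa.perp, rfl⟩))
    (show TT e1 ∈ Qc n F from mem_sup_right (EEQ a1 (zero_mem _) 1))
  rw [commutatorElement_def, cjT, ac_EE_perp oa h10, h1f, one_smul, EEi (by simp),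
    add_comm e1] at this
  have k : TT e0 * TT (e0 + e1) * TT e0 = TT (e0 + e1) := by
    have := cjT (TT e0) (e0 + e1)
    rwa [EEi (by simp), acT, hf_add_left, h00, h10, add_zero, zero_smul, add_zero] at this
  rwa [xc, xa_T, ← mul_assoc, ← mul_assoc, k]

omit p [Base n F] in
theorem jobPC : JobPC := fun _ _ _ _ _ _ _ _ _ h q =>
  ⟨ob q, by rw [xa_eq]; exact o2 q, by rw [xc_eq]; exact oz h q, cc⟩

end H73.P6PC
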