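import Cfsg.Agent.H63.KgvSpec

/-! Tower KGV, job TI: from graded matrix representations to combinations of characters. -/

set_option autoImplicit false

namespace H73.KgvTI

open Polynomial Finset Cfsg ComplexConjugate H63.Kgv

universe u

/-- `f t` is the graded trace of a graded matrix representation -/
def Gr (p : ℕ) [Fact p.Prime] (H : Type u) [Group H] (f : ZMod p → H → ℂ) : Prop :=
  ∃ (n : ℕ) (ρ : H →* Matrix (Fin n) (Fin n) ℂ) (dg : Fin n → ZMod p),
    (∀ h a b, dg a ≠ dg b → ρ h a b = 0) ∧ ∀ t h, f t h = ∑ a, ee p (t * dg a) * ρ h a a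

variable {p : ℕ} [Fact p.Prime] {H : Type u} [Group H]

theorem gr_char {χ : H → ℂ} (h : IsCharacter H χ) (c : ZMod p) :
    Gr p H fun t y => ee p (t * c) * χ y := by
  obtain ⟨n, ρ, rfl⟩ := h
  refine ⟨n, (LinearMap.toMatrixAlgEquiv' : ((Fin n → ℂ) →ₗ[ℂ] (Fin n → ℂ)) ≃ₐ[ℂ] _).toMonoidHom.comp ρ,
    fun _ => c, fun _ _ _ h => absurd rfl h, fun t y => ?_⟩
  rw [← Finset.mul_sum]
  show ee p (t * c) * LinearMap.trace ℂ _ (ρ y) = ee p (t * c) * Matrix.trace (LinearMap.toMatrix' (ρ y))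
  rw [← Matrix.trace_toLin'_eq, Matrix.toLin'_toMatrix']

theorem gr_zero : Gr p H fun _ _ => 0 :=
  ⟨0, 1, fun _ => 0, fun _ a => a.elim0, fun _ _ => by simp⟩

theorem gr_add {f f' : ZMod p → H → ℂ} (h : Gr p H f) (h' : Gr p H f') :
    Gr p H fun t y => f t y + f' t y := by
  obtain ⟨n, ρ, d, h1, h2⟩ := h
  obtain ⟨n', ρ', d', h1', h2'⟩ := h'
  let e : Fin (n + n') ≃ Fin n ⊕ Fin n' := finSumFinEquiv.symm
  let τ : H →* Matrix (Fin (n + n')) (Fin (n + n')) ℂ :=
    { toFun := fun y => (Matrix.fromBlocks (ρ y) 0 0 (ρ' y)).submatrix e e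
      map_one' := by simp [Matrix.fromBlocks_one]
      map_mul' := fun a b => by
        rw [Matrix.submatrix_mul_equiv, Matrix.fromBlocks_multiply]; simp }
  refine ⟨n + n', τ, fun a => Sum.elim d d' (e a), fun y a b hab => ?_, fun t y => ?_⟩
  · show Matrix.fromBlocks (ρ y) 0 0 (ρ' y) (e a) (e b) = 0
    revert hab
    show Sum.elim d d' (e a) ≠ Sum.elim d d' (e b) → _
    rcases e a with i | i <;> rcases e b with j | j <;> intro hab
    · exact h1 y i j hab
    · rfl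
    · rfl
    · exact h1' y i j hab
  · show f t y + f' t y = ∑ a, ee p (t * Sum.elim d d' (e a)) * Matrix.fromBlocks (ρ y) 0 0 (ρ' y) (e a) (e a)
    rw [Equiv.sum_comp e (fun s => ee p (t * Sum.elim d d' s) *
      Matrix.fromBlocks (ρ y) 0 0 (ρ' y) s s), Fintype.sum_sum_type, h2, h2']
    rfl

theorem gr_sum {ι : Type} (s : Finset ι) (f : ι → ZMod p → H → ℂ) (h : ∀ i ∈ s, Gr p H (f i)) :
    Gr p H fun t y => ∑ i ∈ s, f i t y := by
  classical
  induction s using Finset.induction_on with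
  | empty => simpa using gr_zero
  | insert a s ha ih =>
    simp only [Finset.sum_insert ha]
    exact gr_add (h a (mem_insert_self _ _)) (ih fun i hi => h i (mem_insert_of_mem hi))

theorem sum_ee {t : ZMod p} (ht : t ≠ 0) : ∑ c ∈ univ.erase (0 : ZMod p), ee p (t * c) = -1 := by
  have h0 : ∑ c : ZMod p, ee p (t * c) = 0 := by
    have := AddChar.sum_mulShift t (ZMod.isPrimitive_stdAddChar p)
    simp only [ht, if_false, Nat.cast_zero] at this
    simpa [mul_comm] using this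
  rw [← Finset.add_sum_erase _ _ (mem_univ (0 : ZMod p))] at h0
  simp only [mul_zero, AddChar.map_zero_eq_one] at h0
  linear_combination h0

theorem good_gr {A : ZMod p → H → ℂ} (h : Good p H A) :
    ∃ f, Gr p H f ∧ ∀ t, t ≠ 0 → ∀ y, A t y = f t y := by
  obtain ⟨Θ, h1, h2⟩ := h
  choose χ ψ hχ hψ e using h1
  refine ⟨fun t y => ∑ c : ZMod p, (ee p (t * c) * χ c y +
    ∑ c' ∈ univ.erase (0 : ZMod p), ee p (t * (c + c')) * ψ c y), ?_, fun t ht y => ?_⟩
  · exact gr_sum _ _ fun c _ => gr_add (gr_char (hχ c) c)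
      (gr_sum _ (fun c' t y => ee p (t * (c + c')) * ψ c y) fun c' _ => gr_char (hψ c) (c + c'))
  · rw [h2 t ht y]
    refine Finset.sum_congr rfl fun c _ => ?_
    have : ∑ c' ∈ univ.erase (0 : ZMod p), ee p (t * (c + c')) * ψ c y = -(ee p (t * c) * ψ c y) := by
      have : ∀ c', ee p (t * (c + c')) * ψ c y = ee p (t * c) * ψ c y * ee p (t * c') := fun c' => by
        have := AddChar.map_add_eq_mul (ZMod.stdAddChar (N := p)) (t * c) (t * c')
        rw [mul_add]
        show ZMod.stdAddChar (N := p) (t * c + t * c') * ψ c y = _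
        rw [this]; ring
      simp only [this]
      rw [← Finset.mul_sum, sum_ee ht]; ring
    rw [this, e c]
    simp only [Pi.sub_apply]; ring

theorem job : H63.Kgv.JTI.{u} := by
  intro tm p _ E _ _ H _ r x A Γ hr hrp hidx hx hA h1 h2
  classical
  obtain ⟨f, ⟨n, ρ, dg, g1, g2⟩, hf⟩ := good_gr hA
  have hpow : ∀ y : E, y ^ r ∈ H := fun y => hidx ▸ H.pow_index_mem y
  let Γ' : ZMod p → E → ℂ := fun t y =>
    if hy : y ∈ H then ∏ j ∈ range r, f t (MulAut.conjNormal (x ^ j) ⟨y, hy⟩)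
    else f (r * t) ⟨y ^ r, hpow y⟩
  have hr0 : (r : ZMod p) ≠ 0 := fun h => hrp
    ((Nat.prime_dvd_prime_iff_eq (Fact.out : p.Prime) hr).1 ((ZMod.natCast_eq_zero_iff r p).1 h)).symm
  obtain ⟨Θ, k1, k2⟩ := tm p E H r n x ρ dg Γ' hr hidx hx g1
    (fun t h => by simp only [Γ', dif_pos h.2, g2])
    (fun t y h hy e => by
      have : (⟨y ^ r, hpow y⟩ : H) = h := Subtype.ext e.symm
      simp only [Γ', dif_neg hy, g2, this])
  refine ⟨Θ, k1, fun t ht y => ?_⟩
  rw [← k2 t ht y]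
  by_cases hy : y ∈ H
  · have := h1 t ⟨y, hy⟩
    simp only [Γ', dif_pos hy]
    rw [show Γ t y = Γ t ((⟨y, hy⟩ : H) : E) from rfl, this]
    exact Finset.prod_congr rfl fun j _ => hf t ht _
  · simp only [Γ', dif_neg hy]
    rw [h2 t y ⟨y ^ r, hpow y⟩ hy rfl]
    exact hf _ (mul_ne_zero hr0 ht) _

end H73.KgvTI
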