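import Cfsg.Agent.H49.A7Kit
import Cfsg.Agent.H54.SpTwist
import Cfsg.Agent.H54.SpAut
import Cfsg.Agent.H14.AutInn
import Cfsg.Agent.S2119

/-! A7, slot S: no configuration in `PSp₄(q)`, `q` odd. -/

set_option autoImplicit false

namespace H73.A7

open Subgroup Cfsg Matrix H49.A7 H54 Polynomial
open scoped commutatorElement

/-- A group without proper normal subgroups of index dividing `7!` which is fixed by `σ`
centralizes `A`. -/
theorem cent_of_big {Y X : Type*} [Group Y] [Group X] {σ : MulAut Y} {A : Subgroup Y} (h : Cf σ A)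
    (ψ : X →* Y) (hψ : ∀ s, σ (ψ s) = ψ s) (hX : ∀ N : Subgroup X, N.Normal → N.index ∣ 5040 → N = ⊤)
    (s : X) {a : Y} (ha : a ∈ A) : ψ s * a * (ψ s)⁻¹ = a := by
  obtain ⟨e⟩ := h.ty
  let α := A.normalizerMonoidHom.comp (ψ.codRestrict _ fun s => h.nor _ (hψ s))
  let ρ := (MulAut.congr e).toMonoidHom.comp ((H14.autQ (center A)).comp α)
  have k : ρ.ker = ⊤ := hX _ inferInstance (by
    rw [index_ker]
    refine (card_subgroup_dvd_card _).trans (Dvd.intro_left 1 ?_)
    rw [← Nat.card_eq_of_bijective _ (Agent.S2119.result 7 (by norm_num) (by norm_num)), Nat.card_perm]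
    simp [Nat.factorial])
  have h1 : α s = 1 := H14.autQ_center_injective h.qs.1.commutator_eq_top
    ((MulAut.congr e).injective ((k.ge (mem_top s) : ρ s = 1).trans (by rw [map_one, map_one])))
  exact congrArg Subtype.val (DFunLike.congr_fun h1 ⟨a, ha⟩)

section
variable {K : Type*} [Field K] {ι : Type*} [Fintype ι] [DecidableEq ι] {x a b g : Matrix ι ι K}

theorem ev [IsAlgClosed K] {p : ℕ} (h : x ^ p = 1) (h1 : x ≠ 1) (hp : (p : K) ≠ 0) :
    ∃ (z : K) (v : ι → K), z ≠ 1 ∧ z ^ p = 1 ∧ v ≠ 0 ∧ x *ᵥ v = z • v := by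
  have : Nontrivial (Matrix ι ι K) := ⟨_, _, h1⟩
  have h0 : (0 : K) ∈ spectrum K (aeval x (∑ i ∈ Finset.range p, X ^ i : K[X])) := by
    rw [spectrum.zero_mem_iff]
    intro u
    refine h1 (sub_eq_zero.1 (u.mul_right_eq_zero.1 ?_))
    simp [geom_sum_mul, h]
  rw [spectrum.map_polynomial_aeval_of_nonempty _ _
    (spectrum.nonempty_of_isAlgClosed_of_finiteDimensional K x)] at h0
  obtain ⟨z, hz, e⟩ := h0
  simp only [eval_finset_sum, eval_pow, eval_X] at e
  rw [spectrum.mem_iff, isUnit_iff_isUnit_det, isUnit_iff_ne_zero, not_not,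
    ← exists_mulVec_eq_zero_iff] at hz
  obtain ⟨v, h2, h3⟩ := hz
  refine ⟨z, v, ?_, by rw [← sub_eq_zero, ← geom_sum_mul, e, zero_mul], h2, ?_⟩
  · rintro rfl
    simp [hp] at e
  · rw [sub_mulVec, sub_eq_zero, Algebra.algebraMap_eq_smul_one, smul_mulVec, one_mulVec] at h3
    exact h3.symm

theorem ev_sq (hb : x * b = b * x ^ 2) (ha : a * b = 1) {z : K} {v : ι → K} (h0 : v ≠ 0)
    (h : x *ᵥ v = z • v) : b *ᵥ v ≠ 0 ∧ x *ᵥ b *ᵥ v = z ^ 2 • b *ᵥ v :=
  ⟨fun e => h0 (by rw [← one_mulVec v, ← ha, ← mulVec_mulVec, e, mulVec_zero]), by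
    rw [mulVec_mulVec, hb, sq, sq, ← mulVec_mulVec, ← mulVec_mulVec, h, mulVec_smul, h, smul_smul,
      mulVec_smul]⟩

theorem ev_li {n p : ℕ} (hp : p.Prime) (hn : n < p) {z : K} (h1 : z ≠ 1) (hz : z ^ p = 1)
    (v : Fin n → ι → K) (h : ∀ i, v i ≠ 0 ∧ x *ᵥ v i = z ^ (i + 1 : ℕ) • v i) :
    LinearIndependent K v := by
  have := Fact.mk hp
  refine Module.End.eigenvectors_linearIndependent' (toLin' x) (fun i : Fin n => z ^ (i + 1 : ℕ))
    (fun i j e => ?_) v fun i => ⟨Module.End.mem_eigenspace_iff.2 (h i).2, (h i).1⟩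
  have := pow_injOn_Iio_orderOf (x := z) (x₁ := i + 1) (x₂ := j + 1)
  rw [orderOf_eq_prime hz h1] at this
  exact Fin.ext (by simpa using this (by simp; omega) (by simp; omega) e)

theorem seven [IsAlgClosed K] {J : Matrix ι ι K} (h : x ^ 7 = 1) (h1 : x ≠ 1) (hp : (7 : K) ≠ 0)
    (hb : x * b = b * x ^ 2) (ha : a * b = 1) (hJ : xᵀ * J * x = J) (hJ' : J.det ≠ 0) :
    6 ≤ Fintype.card ι := by
  obtain ⟨z, v, z1, z7, h0, e⟩ := ev h h1 hp
  have z0 : z ≠ 0 := by rintro rfl; simp at z7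
  obtain ⟨w, w0, e'⟩ : ∃ w ≠ 0, (x - z ^ 6 • 1) *ᵥ w = 0 := by
    rw [exists_mulVec_eq_zero_iff, ← det_transpose, ← exists_mulVec_eq_zero_iff]
    refine ⟨J *ᵥ v, fun k => hJ' (exists_mulVec_eq_zero_iff.1 ⟨v, h0, k⟩), ?_⟩
    have : J *ᵥ v = z • xᵀ *ᵥ J *ᵥ v := by
      rw [← mulVec_smul, ← mulVec_smul, ← e, mulVec_mulVec, mulVec_mulVec, hJ]
    rw [transpose_sub, sub_mulVec, transpose_smul, transpose_one, smul_mulVec, one_mulVec]
    nth_rw 2 [this]
    rw [smul_smul, ← pow_succ, z7, one_smul, sub_self]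
  rw [sub_mulVec, sub_eq_zero, smul_mulVec, one_mulVec] at e'
  have a2 := ev_sq hb ha h0 e
  have a4 := ev_sq hb ha a2.1 a2.2
  have a5 := ev_sq hb ha w0 e'
  have a3 := ev_sq hb ha a5.1 a5.2
  rw [show (z ^ 2) ^ 2 = z ^ 4 by ring] at a4
  rw [show ((z ^ 6) ^ 2) ^ 2 = z ^ 3 by grind] at a3
  rw [show (z ^ 6) ^ 2 = z ^ 5 by grind] at a5
  simpa using (ev_li (x := x) (p := 7) (by norm_num) (by norm_num) z1 z7
    ![v, b *ᵥ v, b *ᵥ b *ᵥ w, b *ᵥ b *ᵥ v, b *ᵥ w, w] fun i => by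
      fin_cases i
      exacts [⟨h0, by simpa using e⟩, a2, a3, a4, a5, ⟨w0, e'⟩]).fintype_card_le_finrank

theorem five [IsAlgClosed K] (h : x ^ 5 = 1) (h1 : x ≠ 1) (hp : (5 : K) ≠ 0)
    (hb : x * b = b * x ^ 2) (ha : a * b = 1) (gx : g * x = x * g) (gb : g * b = b * g) {c : K}
    (gg : g * g = c • 1) (hn : Fintype.card ι = 4) : ∃ m : K, g = m • 1 := by
  obtain ⟨z, u, z1, z5, u0, e0⟩ := ev h h1 hp
  obtain ⟨m, rfl⟩ := IsAlgClosed.exists_eq_mul_self c
  obtain ⟨m, v, h0, e, e'⟩ : ∃ (m : K) (v : ι → K), v ≠ 0 ∧ x *ᵥ v = z • v ∧ g *ᵥ v = m • v := by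
    by_cases k : g *ᵥ u + m • u = 0
    · exact ⟨-m, u, u0, e0, by rw [neg_smul, eq_neg_iff_add_eq_zero, k]⟩
    refine ⟨m, _, k, ?_, ?_⟩
    · rw [mulVec_add, mulVec_mulVec, ← gx, ← mulVec_mulVec, mulVec_smul, e0, mulVec_smul, smul_add,
        smul_comm m]
    · rw [mulVec_add, mulVec_mulVec, gg, mulVec_smul, smul_mulVec, one_mulVec, smul_add, smul_smul,
        add_comm]
  have k : ∀ w, g *ᵥ w = m • w → g *ᵥ b *ᵥ w = m • b *ᵥ w := fun w hw => by
    rw [mulVec_mulVec, gb, ← mulVec_mulVec, hw, mulVec_smul]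
  have a2 := ev_sq hb ha h0 e
  have a4 := ev_sq hb ha a2.1 a2.2
  have a3 := ev_sq hb ha a4.1 a4.2
  rw [show ((z ^ 2) ^ 2) ^ 2 = z ^ 3 by grind] at a3
  rw [show (z ^ 2) ^ 2 = z ^ 4 by ring] at a4
  have li := ev_li (x := x) (p := 5) (by norm_num) (by norm_num) z1 z5
    ![v, b *ᵥ v, b *ᵥ b *ᵥ b *ᵥ v, b *ᵥ b *ᵥ v] fun i => by
      fin_cases i
      exacts [⟨h0, by simpa using e⟩, a2, a3, a4]
  refine ⟨m, toLin'.injective (LinearMap.ext_on_range
    (li.span_eq_top_of_card_eq_finrank (by simp [hn])) fun i => ?_)⟩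
  rw [toLin'_apply, toLin'_apply, smul_mulVec, one_mulVec]
  fin_cases i
  exacts [e', k _ e', k _ (k _ (k _ e')), k _ (k _ e')]

end

variable {F : Type} [Field F]

abbrev S4 (F : Type) [Field F] := symplecticGroup (Fin 2) F

theorem sq_of_mk {s : S4 F} (h : (s : PSp 2 F) = 1) : s * s = 1 := by
  rcases mem_center_sp_iff.1 ((QuotientGroup.eq_one_iff s).1 h) with rfl | rfl
  · exact mul_one 1
  · exact Subtype.ext (by simp [spNegOne])

theorem lift {σ : MulAut (PSp 2 F)} {A : Subgroup (PSp 2 F)} (h : Cf σ A) (γ : MulAut (S4 F))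
    (hγ : ∀ s : S4 F, σ s = γ s) {p : ℕ} (hp : Odd p) (h1 : p ≠ 1)
    (k : ∃ x ∈ A, ∃ a ∈ A, orderOf x = p ∧ a * x * a⁻¹ = x ^ 2) :
    ∃ x a : S4 F, γ x = x ∧ γ a = a ∧ x ^ p = 1 ∧ x ≠ 1 ∧ x * a⁻¹ = a⁻¹ * x ^ 2 := by
  let f := QuotientGroup.mk' (center (S4 F))
  have l : ∀ a ∈ A, ∃ s, f s = a ∧ γ s = s := fun a ha => by
    have e : (⁅A.comap f, A.comap f⁆).map f = A := by
      rw [map_commutator, map_comap_eq_self_of_surjective (QuotientGroup.mk'_surjective _),
        H14.quasi_sub_perfect h.qs]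
    obtain ⟨s, hs, rfl⟩ := e.ge ha
    refine ⟨s, rfl, (commutator_le (H₃ := γ.toMonoidHom.eqLocus (MonoidHom.id _))).2
      (fun s hs t ht => ?_) hs⟩
    have c : ∀ s ∈ A.comap f, ∃ z ∈ center (S4 F), γ s = s * z := fun s hs =>
      ⟨_, QuotientGroup.eq.1 ((h.fix _ hs).symm.trans (hγ s)), by group⟩
    obtain ⟨z, hz, e1⟩ := c s hs
    obtain ⟨w, hw, e2⟩ := c t ht
    show γ ⁅s, t⁆ = ⁅s, t⁆
    rw [map_commutatorElement, e1, e2, commutatorElement_def, commutatorElement_def]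
    calc _ = s * (z * (t * w * z⁻¹) * s⁻¹ * w⁻¹) * t⁻¹ := by group
      _ = _ := by
        rw [← mem_center_iff.1 hz, inv_mul_cancel_right, mul_assoc t, ← mem_center_iff.1 hw]; group
  obtain ⟨x, hx, a, ha, rfl, e⟩ := k
  obtain ⟨y, rfl, e1⟩ := l x hx
  obtain ⟨a, rfl, e2⟩ := l a ha
  obtain ⟨n, hn⟩ := hp
  have e3 : f (y ^ (2 * n + 2)) = f y := by
    rw [map_pow, pow_succ, ← hn, pow_orderOf_eq_one, one_mul]
  have e4 : (y ^ (2 * n + 2)) ^ orderOf (f y) = 1 := by
    rw [← pow_mul, mul_comm, pow_mul, show 2 * n + 2 = 2 * (n + 1) by ring, pow_mul, sq,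
      sq_of_mk (show f _ = 1 by rw [map_pow, pow_orderOf_eq_one]), one_pow]
  refine ⟨_, a, by rw [map_pow, e1], e2, e4, fun k => h1 (by rw [← e3, k, map_one, orderOf_one]), ?_⟩
  generalize y ^ (2 * n + 2) = w at e3 e4
  rw [← e3] at e
  have e5 : f ((w ^ 2)⁻¹ * (a * w * a⁻¹)) = 1 := by simp only [map_mul, map_inv, map_pow, e]; group
  have e6 := sq_of_mk e5
  have c := mem_center_iff.1 ((QuotientGroup.eq_one_iff _).1 e5)
  set z := (w ^ 2)⁻¹ * (a * w * a⁻¹) with hz
  have e7 : a * w * a⁻¹ = w ^ 2 * z := by rw [hz]; group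
  have e8 := congrArg (· ^ orderOf (f y)) e7
  simp only [conj_pow, e4, Commute.mul_pow (c (w ^ 2)), pow_right_comm w 2] at e8
  rw [hn, pow_succ z, pow_mul z, sq z, e6] at e8
  rw [show z = 1 by simpa using e8.symm, mul_one] at e7
  rw [← e7]; group

theorem jobS : JobS := by
  intro F _ _ hF σ A h
  obtain ⟨p, _⟩ := CharP.exists F
  have hp := Fact.mk (CharP.char_is_prime F p)
  have h2 : (2 : F) ≠ 0 := fun e => by
    have := FiniteField.even_card_iff_char_two.1 (CharP.ringChar_of_prime_eq_zero Nat.prime_two e)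
    rw [Nat.odd_iff] at hF; omega
  obtain ⟨g, φ, rfl⟩ := mem_pspGamma.1 ((pspGamma_eq_top (F := F) le_rfl fun _ => h2).ge (mem_top σ))
  have hs := h.sq
  rw [← sq] at hs
  by_cases h1 : φ = 1
  · subst h1
    rw [map_one, mul_one] at h hs
    let K := AlgebraicClosure F
    let μ := (algebraMap F K).mapMatrix (m := Fin 2 ⊕ Fin 2)
    have hμ : Function.Injective μ := map_injective (algebraMap F K).injective
    let ν : S4 F →* Matrix _ _ K := μ.toMonoidHom.comp (symplecticGroup (Fin 2) F).subtype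
    have hν : Function.Injective ν := hμ.comp Subtype.val_injective
    have L := fun p => lift (p := p) h (spDiagAut 2 F g) (pspDiag_mk g)
    by_cases h7 : (7 : K) = 0
    · obtain ⟨x, a, e1, e2, e3, e4, e5⟩ := L 5 (by decide) (by decide) h.kit.x5
      obtain ⟨c, hc⟩ := pspDiag_eq_one_iff.1 ((map_pow _ _ _).trans hs)
      have cm : ∀ s, spDiagAut 2 F g s = s → μ g.1.1 * ν s = ν s * μ g.1.1 := fun s e => by
        have := congrArg (· * g.1.1) ((spDiagAut_coe g s).symm.trans (congrArg Subtype.val e))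
        simp only [mul_assoc, Units.inv_mul, mul_one] at this
        exact (map_mul μ _ _).symm.trans ((congrArg μ this).trans (map_mul μ _ _))
      obtain ⟨m, hm⟩ := five (x := ν x) (a := ν a) (b := ν a⁻¹) (g := μ g.1.1) (c := algebraMap F K c)
        (by rw [← map_pow, e3, map_one]) (fun e => e4 (hν (e.trans (map_one ν).symm)))
        (fun e => h2 ((algebraMap F K).injective (by
          rw [map_ofNat, map_zero]; linear_combination h7 - e)))
        (by rw [← map_pow, ← map_mul, e5, map_mul]) (by rw [← map_mul, mul_inv_cancel, map_one])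
        (cm x e1) (cm _ (by rw [map_inv, e2])) (by
          rw [← map_mul, show g.1.1 * g.1.1 = (g ^ 2).1.1 by simp [sq], ← hc]
          ext i j
          by_cases e : i = j <;> simp [μ, gspScalar_coe, e]) (by simp)
      refine h.ne (MulEquiv.ext fun y => ?_)
      obtain ⟨s, rfl⟩ := QuotientGroup.mk_surjective y
      rw [pspDiag_mk]
      refine congrArg _ (Subtype.ext ?_)
      rw [spDiagAut_coe, hμ (show μ (g.1.1 * s.1) = μ (s.1 * g.1.1) by simp [hm]), mul_assoc,
        Units.mul_inv, mul_one]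
    · obtain ⟨x, a, -, -, e3, e4, e5⟩ := L 7 (by decide) (by decide) h.kit.x7
      have := seven (x := ν x) (a := ν a) (b := ν a⁻¹) (J := J (Fin 2) K)
        (by rw [← map_pow, e3, map_one]) (fun e => e4 (hν (e.trans (map_one ν).symm))) h7
        (by rw [← map_pow, ← map_mul, e5, map_mul]) (by rw [← map_mul, mul_inv_cancel, map_one])
        (SymplecticGroup.mem_iff'.1 (spMap (Fin 2) (algebraMap F K) x).2)
        (isUnit_det_J _ _).ne_zero
      simp at this
  · rw [pspDiag_mul_pspField_pow] at hs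
    obtain ⟨d, -, e⟩ := isConjUnder_pspField φ (orderOf_eq_prime
      (eq_of_pspDiag_mul_pspField_eq_one (by omega) hs).2 h1) g (by rw [sq, h.sq])
    obtain ⟨δ, e⟩ : ∃ δ, MulAut.congr δ (pspDiag 2 F g * pspField 2 F φ) = pspField 2 F φ :=
      ⟨d.symm, by rw [e]; ext; simp⟩
    have h' := h.congr δ
    rw [e] at h'
    obtain ⟨x, hx, -, -, o, -⟩ := h'.kit.x7
    obtain ⟨y, rfl⟩ := QuotientGroup.mk_surjective x
    let j := ZMod.castHom (dvd_refl p) F
    have h3 : 3 ≤ p := (hp.out.two_le.lt_of_ne' (by rintro rfl; exact h2 (CharP.cast_eq_zero F 2)))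
    have k := fun s => cent_of_big h' ((QuotientGroup.mk' _).comp (spMap (Fin 2) j)) (fun s => by
      show pspField 2 F φ (QuotientGroup.mk _) = QuotientGroup.mk _
      rw [pspField_mk]
      refine congrArg _ (Subtype.ext ?_)
      rw [spFieldAut_coe, spMap_coe, Matrix.map_map]
      exact congrArg _ (congrArg DFunLike.coe (Subsingleton.elim ((φ : F →+* F).comp j) j)))
      (fun N _ hN => by
        refine eq_top_iff.2 ((sp_commutator_eq_top (.inr (.inl ⟨by simp, by simpa⟩))).ge.trans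
          ((sp_normal_le_center_or_commutator_le N).resolve_left fun l => ?_))
        classical
        have c1 := card_le_of_le l
        have c2 := N.card_mul_index
        have c3 := Nat.le_of_dvd (by omega) hN
        rw [card_center_sp] at c1
        rw [card_sp, Nat.card_zmod, spOrder_def] at c2
        simp only [Fintype.card_fin, Finset.prod_range_succ, Finset.range_zero, Finset.prod_empty] at c2
        have := Nat.pow_le_pow_left h3 2
        have := Nat.pow_le_pow_left h3 4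
        have c4 : 81 * (1 * 8 * 80) ≤ Nat.card N * N.index := by
          rw [c2]; gcongr <;> norm_num at * <;> omega
        have c5 : Nat.card N * N.index ≤ 2 * 5040 := by gcongr; split_ifs at c1 <;> omega
        omega) s hx
    have e1 : y * y = 1 := Subtype.ext (by
      refine toLin'.injective ((Pi.basisFun F _).ext fun i => ?_)
      have k1 := k (tv (Pi.single i 1) 1)
      rw [mul_inv_eq_iff_eq_mul, eq_comm, ← mul_inv_eq_iff_eq_mul] at k1
      have k2 : tv (y • Pi.single i 1) 1 = tv (Pi.single i 1 : _ → F) 1 := tv_eq_of_mk_eq (by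
        simpa [spMap_tv, comp_single_one, ← tv_conj] using k1)
      obtain ⟨c, hc⟩ := Submodule.mem_span_singleton.1 (mem_span_of_tv_eq k2 one_ne_zero)
      rw [← hc, tv_smul_left] at k2
      have k3 := tv_injective (by simp) k2
      have : (y * y) • (Pi.single i 1 : _ → F) = Pi.single i 1 := by
        rw [mul_smul, ← hc, smul_comm, ← hc, smul_smul, ← sq, ← mul_one (c ^ 2), k3, one_smul]
      rw [toLin'_apply, toLin'_apply, Pi.basisFun_apply]
      exact this.trans (one_mulVec _).symm)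
    have := orderOf_dvd_of_pow_eq_one (show (y : PSp 2 F) ^ 2 = 1 by
      rw [sq, ← QuotientGroup.mk_mul, e1]; rfl)
    rw [o] at this
    omega

end H73.A7
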