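import Cfsg.Agent.H63.A8Wr
import Cfsg.Agent.H63.QeKit
import Cfsg.Agent.H97.QULib
import Cfsg.Agent.H84.Inv

/-! Tower A8S, slot NI: the involution is outer; the normal case. -/

set_option autoImplicit false

namespace H73.A8NI

open Cfsg Subgroup H63.A8

universe u

theorem jobNI : JNI.{u} := by
  intro G _ _ F₀ A t h hl ht
  have c := (H63.Qe.loc_of_lie hl ⟨t, ht⟩ ⟨fun k => h.inv.2 (congrArg Subtype.val k),
    Subtype.ext h.inv.1⟩).map_of_injective F₀.subtype_injective
  refine H97.QU.no_comp c h.qs (H98.SubN.of_normal (fun a ha => ⟨⟨a, h.le ha⟩, ?_, rfl⟩) ?_)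
  · exact mem_centralizer_singleton_iff.2 (Subtype.ext (h.tA a ha))
  · rintro _ ⟨g, hg, rfl⟩
    exact h.ct (mem_centralizer_singleton_iff.2
      (congrArg Subtype.val (mem_centralizer_singleton_iff.1 hg)))

theorem jobNrm : JNrm.{u} := by
  intro G _ _ hO A hA hR t ht h2
  obtain ⟨P⟩ : Nonempty (Sylow 2 (centralizer (A : Set G))) := inferInstance
  have hp : (Nat.card (centralizer (A : Set G))).minFac = 2 := (Nat.minFac_eq_two_iff _).2 (by
    rw [← h2]
    exact orderOf_dvd_natCard _ ht)
  have hn := (hR P).normalizer_le_centralizer hp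
  have h1 : (MonoidHom.transferSylow P hn).ker = ⊥ := by
    have := (map_mono (H2.le_pPrimeCore_of_not_dvd
      (MonoidHom.not_dvd_card_ker_transferSylow P hn))).trans (H2.map_pPrimeCore_subtype_le _)
    rwa [show pPrimeCore 2 G = ⊥ from hO, le_bot_iff, map_eq_bot_iff_of_injective _
      (subtype_injective _)] at this
  have h3 := MonoidHom.ker_transferSylow_isComplement' P hn
  rw [h1, isComplement'_bot_left] at h3
  have h4 : IsCyclic (centralizer (A : Set G)) := by
    have := hR P
    rw [h3] at this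
    exact isCyclic_of_surjective _ topEquiv.surjective
  refine mem_center_iff.2 fun g => mul_inv_eq_iff_eq_mul.1
    (H84.eq_of_mem_isCyclic_of_orderOf_two h4 (Normal.conj_mem inferInstance t ht g) ht ?_ h2)
  rwa [← MulAut.conj_apply, MulEquiv.orderOf_eq]

end H73.A8NI
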