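import Cfsg.Agent.H49.D8Spec
import Cfsg.Agent.H85.FZKit
import Cfsg.Agent.H8.TransferEval

/-! D8-Red, part 1: the dihedral group of order eight and its normalizer. -/

set_option autoImplicit false
set_option linter.unusedSectionVars false

namespace H73.D8R

open Subgroup Cfsg H98 H1.Gold H85.FZ H49.D8

universe u

variable {G : Type u} [Group G] [Finite G] {v s z t x y c d a b u σ : G} {A K T M : Subgroup G}

def tbD : Tb := .of 3 [(2, 1, [1, 0])]

/-- The elements inducing inner automorphisms on `D`. -/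
abbrev PP (v s : G) : Subgroup G := cl [v, s] ⊔ cen (cl [v, s])

theorem cl_two (a b : G) : cl [a, b] = cl [b, a] :=
  le_antisymm (cl_mono (by simp)) (cl_mono (by simp))

theorem cl2_le : cl [a, b] ≤ M ↔ a ∈ M ∧ b ∈ M := by simp [cl_le]

theorem mem_cen_cl2 : x ∈ cen (cl [a, b]) ↔ a * x = x * a ∧ b * x = x * b := by
  rw [← H31.S2.le_cen1_iff, cl2_le, mem_cen1, mem_cen1]

theorem mem_PP : x ∈ PP v s ↔ ∃ d ∈ cl [v, s], ∃ c ∈ cen (cl [v, s]), x = d * c :=
  mem_sup_left_norm (le_normalizer_centralizer le_normalizer)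

theorem PP_le : PP v s ≤ nor (cl [v, s]) := sup_le le_normalizer (centralizer_le_normalizer _)

theorem nor_PP : nor (cl [v, s]) ≤ nor (PP v s) :=
  le_normalizer_sup le_rfl (normalizer_le_normalizer_centralizer _)

section
variable (h : DH v s z)
include h

theorem swap : DH s v z := ⟨h.ss, h.vv, h.zz, h.z1, by
  rw [← mul_assoc, h.vs, mul_assoc, mul_assoc, h.zz, mul_one], h.sz, h.vz⟩

theorem pres : Pres tbD (val [z, v, s]) := by
  refine ⟨fun i hi j hj => ?_, fun i hi => ?_⟩ <;> change i < 3 at hi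
  · interval_cases i <;> interval_cases j <;> simp only [tbD] <;> wsimp
    exacts [h.vz.symm, h.sz.symm, h.vs]
  · interval_cases i <;> simp only [tbD] <;> wsimp
    exacts [h.zz, h.vv, h.ss]

theorem nvs : v * s ≠ s * v := fun e => h.z1 (by simpa [e] using h.vs)

theorem V_cen : cl [v, z] ≤ cen1 v := cl2_le.2 ⟨mem_cen1.2 rfl, mem_cen1.2 h.vz.symm⟩

theorem V_comm (ha : a ∈ cl [v, z]) (hb : b ∈ cl [v, z]) : a * b = b * a :=
  mem_cen1.1 (cl2_le.2 ⟨mem_cen1.2 (mem_cen1.1 (V_cen h hb)).symm, mem_cen1.2 (mem_cen1.1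
    (cl2_le.2 ⟨mem_cen1.2 h.vz, mem_cen1.2 rfl⟩ hb)).symm⟩ ha)

theorem ind : Ind (val [z, v, s]) 3 := fun k hk => by
  rw [H_val]
  interval_cases k
  · exact fun e => h.z1 (mem_bot.1 (cl_le.2 (by simp) e))
  · exact fun e => nvs h (mem_cen1.1 (cl_le.2 (by simpa using mem_cen1.2 h.sz.symm) e))
  · exact fun e => nvs h (mem_cen1.1 (V_cen h (cl_two z v ▸ e))).symm

theorem zD : z ∈ cl [v, s] := by
  have : z = v⁻¹ * (s⁻¹ * (v * s)) := by rw [h.vs]; group
  rw [this]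
  have h1 : v ∈ cl [v, s] := mem_cl (by simp)
  have h2 : s ∈ cl [v, s] := mem_cl (by simp)
  exact mul_mem (inv_mem h1) (mul_mem (inv_mem h2) (mul_mem h1 h2))

theorem VD : cl [v, z] ≤ cl [v, s] := cl2_le.2 ⟨mem_cl (by simp), zD h⟩

theorem word (hd : d ∈ cl [v, s]) : ∃ w ∈ subs 3, d = W (val [z, v, s]) w :=
  (pres h).mem_cl rfl 3 le_rfl (cl_mono (by simp) hd)

theorem wD {w : List ℕ} (hw : w ∈ subs 3) : W (val [z, v, s]) w ∈ cl [v, s] :=
  W_mem_of fun r hr => by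
    have := nf_lt (nf_of_mem_subs hw) r hr
    interval_cases r
    exacts [zD h, mem_cl (by simp), mem_cl (by simp)]

theorem memV (hd : d ∈ cl [v, s]) (e : d * v = v * d) : d ∈ cl [v, z] := by
  obtain ⟨w, hw, rfl⟩ := word h hd
  exact cl_two z v ▸ W_mem_cl [z, v, s] 2 ((by decide +kernel : ∀ w ∈ subs 3,
    tbD.eqv (w ++ [1]) (1 :: w) = true → w.all (· < 2) = true) w hw
      ((pres h).eqv (ind h) (by simpa using e)))

theorem sqD (hd : d ∈ cl [v, s]) : d * d = 1 ∨ d * d = z := by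
  obtain ⟨w, hw, rfl⟩ := word h hd
  rw [← W_append]
  exact ((by decide +kernel : ∀ w ∈ subs 3, tbD.same (w ++ w) [] = true ∨
    tbD.same (w ++ w) [0] = true) w hw).imp (pres h).W_eq fun e => by simpa using (pres h).W_eq e

theorem invD (hd : d ∈ cl [v, s]) (e : d * d = 1) : d ∈ cl [v, z] ∨ d ∈ cl [s, z] := by
  obtain ⟨w, hw, e1⟩ := word h hd
  refine ((by decide +kernel : ∀ w ∈ subs 3, tbD.eqv (w ++ w) [] = true →
    tbD.same (w ++ [1]) (1 :: w) = true ∨ tbD.same (w ++ [2]) (2 :: w) = true) w hw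
      ((pres h).eqv (ind h) (by simpa [e1] using e))).imp (fun e => memV h hd ?_)
        fun e => memV (swap h) (cl_two v s ▸ hd) ?_ <;>
  simpa [e1] using (pres h).W_eq e

theorem noncomm (ha : a ∈ cl [v, z]) (hb : b ∈ cl [s, z]) (e : a * b = b * a) :
    (a = 1 ∨ a = z) ∨ b = 1 ∨ b = z := by
  have h1 := mem_cen1.1 (V_cen h ha)
  have h2 := mem_cen1.1 (V_cen (swap h) hb)
  obtain ⟨w, hw, rfl⟩ := word h (VD h ha)
  obtain ⟨w', hw', rfl⟩ := word h (cl_two s v ▸ VD (swap h) hb)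
  rcases (by decide +kernel : ∀ w ∈ subs 3, ∀ w' ∈ subs 3, tbD.eqv (w ++ [1]) (1 :: w) = true →
    tbD.eqv (w' ++ [2]) (2 :: w') = true → tbD.eqv (w ++ w') (w' ++ w) = true →
    w = [] ∨ w = [0] ∨ w' = [] ∨ w' = [0]) w hw w' hw' ((pres h).eqv (ind h) (by simpa using h1))
      ((pres h).eqv (ind h) (by simpa using h2)) ((pres h).eqv (ind h) (by simpa using e))
    with rfl | rfl | rfl | rfl <;> simp

theorem cenD (hd : d ∈ cl [v, s]) (e : d ∈ cen (cl [v, s])) : d = 1 ∨ d = z := by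
  obtain ⟨e1, e2⟩ := mem_cen_cl2.1 e
  refine (noncomm h (memV h hd e1.symm) (mem_cl (by simp)) e2.symm).elim id fun k => ?_
  rcases k with rfl | rfl
  exacts [absurd (by simp) (nvs h), absurd h.vz (nvs h)]

theorem z_cen : z ∈ cen (cl [v, s]) := mem_cen_cl2.2 ⟨h.vz, h.sz⟩

theorem conj_z (hx : x ∈ nor (cl [v, s])) : x * z * x⁻¹ = z :=
  (cenD h (conj_mem_of_mem_normalizer hx (zD h)) (conj_mem_of_mem_normalizer
    (normalizer_le_normalizer_centralizer _ hx) (z_cen h))).resolve_left (by simpa using h.z1)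

theorem dich (hx : x ∈ nor (cl [v, s])) :
    x ∈ PP v s ∨ cj x (cl [v, z]) ≤ cl [s, z] ∧ cj x (cl [s, z]) ≤ cl [v, z] := by
  obtain ⟨w, hw, e⟩ := word h (conj_mem_of_mem_normalizer hx (mem_cl (y := v) (by simp)))
  obtain ⟨w', hw', e'⟩ := word h (conj_mem_of_mem_normalizer hx (mem_cl (y := s) (by simp)))
  have k : ∀ {a b : G}, x * a * x⁻¹ ∈ cl [b, z] → cj x (cl [a, z]) ≤ cl [b, z] := fun k =>
    cj_le_iff.2 (cl2_le.2 ⟨mem_cj.2 (by simpa using k),
      mem_cj.2 (by rw [inv_inv, conj_z h hx]; exact mem_cl (by simp))⟩)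
  rcases (by decide +kernel : ∀ w ∈ subs 3, ∀ w' ∈ subs 3, tbD.eqv (w ++ w) [] = true →
    tbD.eqv (w' ++ w') [] = true → tbD.same (w ++ w') (w' ++ w) = true ∨
    (∃ d ∈ subs 3, tbD.same (d ++ [1]) (w ++ d) = true ∧ tbD.same (d ++ [2]) (w' ++ d) = true) ∨
    tbD.same (w ++ [2]) (2 :: w) = true ∧ tbD.same (w' ++ [1]) (1 :: w') = true) w hw w' hw'
    ((pres h).eqv (ind h) (by rw [W_append, ← e, conj_mul, h.vv]; simp))
    ((pres h).eqv (ind h) (by rw [W_append, ← e', conj_mul, h.ss]; simp)) with k1 | k1 | k1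
  · have := (pres h).W_eq k1
    rw [W_append, W_append, ← e, ← e', conj_mul, conj_mul] at this
    exact absurd (by simpa using this) (nvs h)
  · obtain ⟨d, hd, k1, k2⟩ := k1
    have k3 := (pres h).W_eq k1
    have k4 := (pres h).W_eq k2
    rw [W_append, W_append] at k3 k4
    rw [← e] at k3
    rw [← e'] at k4
    simp only [W_cons, W_nil, val_zero, val_succ, mul_one] at k3 k4
    have k5 : ∀ {d a : G}, d * a = x * a * x⁻¹ * d → a * (x⁻¹ * d) = x⁻¹ * d * a := fun k => by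
      rw [mul_assoc x⁻¹, k]; group
    have := mul_mem (mem_sup_left (wD h hd)) (mem_sup_right (S := cl [v, s])
      (inv_mem (mem_cen_cl2.2 ⟨k5 k3, k5 k4⟩)))
    exact Or.inl (by simpa using this)
  · refine Or.inr ⟨k (memV (swap h) (cl_two v s ▸ e ▸ wD h hw) ?_), k (memV h (e' ▸ wD h hw') ?_)⟩
    · simpa [e] using (pres h).W_eq k1.1
    · simpa [e'] using (pres h).W_eq k1.2

theorem memP (hx : x ∈ nor (cl [v, s])) (e : x * v * x⁻¹ ∈ cl [v, z]) : x ∈ PP v s :=
  (dich h hx).elim id fun k => absurd (by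
    have := V_comm h e (k.2 (conj_mem_cj (mem_cl (y := s) (by simp))))
    rw [conj_mul, conj_mul] at this
    simpa using this) (nvs h)

theorem P_conj (hx : x ∈ PP v s) : x * v * x⁻¹ ∈ cl [v, z] := by
  obtain ⟨d, hd, c, hc, rfl⟩ := mem_PP.1 hx
  have h1 : v ∈ cl [v, s] := mem_cl (by simp)
  have : d * c * v * (d * c)⁻¹ = d * v * d⁻¹ := by
    rw [mul_assoc d, ← (mem_cen_cl2.1 hc).1]; group
  rw [this]
  obtain ⟨w, hw, rfl⟩ := word h hd
  have := (by decide +kernel : ∀ w ∈ subs 3, tbD.same (w ++ [1]) (1 :: w) = true ∨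
    tbD.same (w ++ [1]) (1 :: 0 :: w) = true) w hw
  rcases this with e | e <;> have := (pres h).W_eq e <;>
    simp only [W_append, W_cons, W_nil, val_zero, val_succ, mul_one] at this <;>
    simp only [this, mul_assoc, mul_inv_cancel, mul_one]
  exacts [mem_cl (by simp), mul_mem (mem_cl (by simp)) (mem_cl (by simp))]

theorem mulP (hx : x ∈ nor (cl [v, s])) (hy : y ∈ nor (cl [v, s])) (h1 : x ∉ PP v s)
    (h2 : y ∉ PP v s) : x * y ∈ PP v s := by
  refine memP h (mul_mem hx hy) ?_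
  have := ((dich h hx).resolve_left h1).2 (conj_mem_cj (((dich h hy).resolve_left h2).1
    (conj_mem_cj (mem_cl (y := v) (by simp)))))
  simpa [mul_assoc] using this

theorem norA (hD : IsSyl 2 (cl [v, s]) A) : A ⊓ nor (cl [v, s]) ≤ PP v s := by
  refine le_of_forall_prime_pow_mem fun q hq _ x hx ⟨k, hk⟩ => ?_
  by_cases e : q = 2
  · exact mem_sup_left (hD.le_of_le_normalizer' (isPGroup_zpowers (e ▸ hk)) (zpowers_le.2 hx.1)
      (zpowers_le.2 hx.2) (mem_zpowers x))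
  · by_contra hn
    obtain ⟨j, hj⟩ := (hq.odd_of_ne_two e).pow (n := k)
    rw [hj, pow_succ, pow_mul, mul_eq_one_iff_inv_eq, sq] at hk
    exact hn (hk ▸ inv_mem (pow_mem (mulP h hx.2 hx.2 hn hn) j))

end

end H73.D8R
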