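import Cfsg.Agent.H14.FESpec

/-! FE-Cnt1: the order of a central product of commuting subgroups. -/

set_option autoImplicit false

namespace H73.FeC
open Subgroup H14.FE

universe u

theorem jobCnt1 : JobCnt1.{u} := by
  intro X _ _ P N f t ht
  let V := P ⊓ centralizer (P : Set X)
  have key : ∀ S : Set (Subgroup X), S.Finite → S ⊆ N →
      t ^ S.ncard * Nat.card V ≤ Nat.card ↥(V ⊔ sSup S) := by
    intro S hS
    induction S, hS using Set.Finite.induction_on with
    | empty => intro _; simp
    | @insert U S hU hS ih =>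
      intro hN
      have UN : U ∈ N := hN (Set.mem_insert _ _)
      have SN : S ⊆ N := (Set.subset_insert _ _).trans hN
      have h1 : V ⊔ sSup S ≤ centralizer (U : Set X) := by
        refine sup_le (inf_le_right.trans (centralizer_le (f.le U UN))) (sSup_le fun W hW b hb => ?_)
        exact mem_centralizer_iff.2 fun a ha =>
          f.comm U UN W (SN hW) (fun e => hU (e ▸ hW)) a ha b hb
      have h2 : (V ⊔ sSup S) ⊓ U ≤ centralizer (P : Set X) := fun x hx =>
        (f.om x (f.le U UN hx.2)).1 (f.zl U UN x hx.2 (h1 hx.1))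
      have h3 : t ≤ (V ⊔ sSup S).relIndex U := by
        rw [← inf_relIndex_right]
        exact (ht U UN).trans (relIndex_le_of_le_left h2 index_ne_zero_of_finite)
      have h4 : V ⊔ sSup S ≤ V ⊔ sSup (insert U S) :=
        sup_le_sup_left (sSup_le_sSup (Set.subset_insert _ _)) _
      have h5 : (V ⊔ sSup S).relIndex U ≤ (V ⊔ sSup S).relIndex (V ⊔ sSup (insert U S)) :=
        relIndex_le_of_le_right (le_sup_of_le_right (le_sSup (Set.mem_insert _ _)))
          index_ne_zero_of_finite
      have h6 := ((V ⊔ sSup S).subgroupOf (V ⊔ sSup (insert U S))).index_mul_card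
      rw [Nat.card_congr (subgroupOfEquivOfLe h4).toEquiv] at h6
      rw [Set.ncard_insert_of_notMem hU hS, pow_succ', mul_assoc, ← h6]
      exact Nat.mul_le_mul (h3.trans h5) (ih SN)
  exact (key N (Set.toFinite N) le_rfl).trans
    (card_le_of_le (sup_le inf_le_left (sSup_le f.le)))

end H73.FeC
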