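import Cfsg.Agent.H73.GSSpec

/-! S3275, chapter C4, part II: the top step. -/

set_option autoImplicit false

namespace H73.GS

open Subgroup Cfsg H98 H48.DP H57.DPC H48.DP2 H98.DP0C
open scoped commutatorElement

universe u

variable {G : Type u} [Group G]

/-- the preimage of `Ω₁(Z(N / S))`. -/
def omz (N S : Subgroup G) (h : N ≤ No S) : Subgroup G where
  carrier := {q | q ∈ N ∧ (∀ n ∈ N, n * q * n⁻¹ * q⁻¹ ∈ S) ∧ q * q ∈ S}
  one_mem' := ⟨one_mem _, fun n _ => by simp, by simp⟩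
  inv_mem' := fun {q} k => ⟨inv_mem k.1, fun n hn => by
    have := conj_mem_of_mem_normalizer' (h k.1) (inv_mem (k.2.1 n hn))
    convert this using 1
    group, by simpa using inv_mem k.2.2⟩
  mul_mem' := fun {a b} k l => ⟨mul_mem k.1 l.1, fun n hn => by
    have := mul_mem (k.2.1 n hn) (conj_mem_of_mem_normalizer (h k.1) (l.2.1 n hn))
    convert this using 1
    group, by
    have := mul_mem (mul_mem k.2.2 (l.2.1 _ (inv_mem k.1))) l.2.2
    convert this using 1
    group⟩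

theorem omz_ne [Finite G] {N S : Subgroup G} (h : N ≤ No S) (hN : IsPGroup 2 N) (hlt : S < N) :
    ¬ omz N S h ≤ S := by
  have : Fact (Nat.Prime 2) := ⟨Nat.prime_two⟩
  have : (S.subgroupOf N).Normal := normal_subgroupOf_of_le_normalizer h
  have : Nontrivial (N ⧸ S.subgroupOf N) := QuotientGroup.nontrivial_iff.2 fun e =>
    hlt.not_ge (subgroupOf_eq_top.1 e)
  have hq := hN.to_quotient (S.subgroupOf N)
  have := hq.center_nontrivial
  obtain ⟨c, hc⟩ := exists_prime_orderOf_dvd_card' (G := center (N ⧸ S.subgroupOf N)) 2 (by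
    obtain ⟨k, hk, e⟩ := (hq.to_subgroup (center _)).nontrivial_iff_card.1 this
    rw [e]
    exact dvd_pow_self 2 hk.ne')
  obtain ⟨q, hq'⟩ := QuotientGroup.mk'_surjective (S.subgroupOf N) c
  have m : ∀ a : N, QuotientGroup.mk' (S.subgroupOf N) a = 1 ↔ (a : G) ∈ S := fun a =>
    QuotientGroup.eq_one_iff a
  intro hle
  have h1 : (q : G) ∈ S := hle ⟨q.2, fun n hn => (m (⟨n, hn⟩ * q * ⟨n, hn⟩⁻¹ * q⁻¹)).1 (by
    simp only [map_mul, map_inv, hq']
    rw [mem_center_iff.1 c.2]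
    group), (m (q * q)).1 (by
    rw [map_mul, hq', ← pow_two, ← coe_pow, ← hc, pow_orderOf_eq_one, coe_one])⟩
  have h2 : c = 1 := Subtype.ext (hq'.symm.trans ((m q).2 h1))
  rw [h2, orderOf_one] at hc
  omega

theorem jobGS : JobGS.{u} := by
  intro g3 g2 G _ _ M Q X y x u s hb hx sx sy out mx T hT yT hle
  by_contra hn
  rw [not_or] at hn
  obtain ⟨yX, xX, sX, two⟩ := hx
  have cz : ∀ {a b : G}, Commute a b → a ∈ No (zpowers b) := fun {a b} c =>
    centralizer_le_normalizer _ (by rintro _ ⟨n, rfl⟩; exact (c.zpow_right n).eq.symm)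
  have ns : ∀ {a : G} {A B : Subgroup G}, a ∈ No A → a ∈ No B → a ∈ No (A ⊔ B) := fun a b =>
    zpowers_le.1 (le_normalizer_sup (zpowers_le.2 a) (zpowers_le.2 b))
  have s2 : s * s ∈ X := by
    have c : Commute x (s * s) := by
      have e : s * x⁻¹ * s⁻¹ = x := by
        rw [show s * x⁻¹ * s⁻¹ = (s * x * s⁻¹)⁻¹ by group, sx, inv_inv]
      calc x * (s * s) = s * (s * x * s⁻¹) * s⁻¹ * (s * s) := by rw [sx, e]
        _ = s * s * x := by group
    rw [← mx (X ⊔ zpowers (s * s)) ⟨ns yX (cz (sy.mul_left sy).symm), ns xX (cz c),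
      ns sX (cz ((Commute.refl s).mul_right (Commute.refl s))), two.to_le (sup_le (sup_le
        le_sup_left (zpowers_le.2 (mem_sup_right (mul_mem (mem_zpowers s) (mem_zpowers s)))))
        le_sup_right)⟩ le_sup_left]
    exact mem_sup_right (mem_zpowers _)
  have yS : y ∈ No (X ⊔ zpowers s) := ns yX (cz sy.symm)
  have hlt := lt_inf_normalizer hT (lt_of_le_of_ne hle (Ne.symm hn.1))
  set S := X ⊔ zpowers s
  set N := T ⊓ No S
  have yN : y ∈ No N := zpowers_le.1 (le_normalizer_inf (zpowers_le.2 yT)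
    (le_normalizer_normalizer (zpowers_le.2 yS)))
  have hN : IsPGroup 2 N := hT.to_le inf_le_left
  have hS : S ≤ omz N S inf_le_right := fun a ha => ⟨hlt.le ha, fun n hn =>
    mul_mem (conj_mem_of_mem_normalizer hn.2 ha) (inv_mem ha), mul_mem ha ha⟩
  refine omz_ne inf_le_right hN hlt (g2 G M Q X _ y x u s hb
    ⟨⟨yX, xX, sX, two⟩, hb.y3, (Bd.comm hb).1, sx, sy, mx⟩ out (hN.to_le fun a ha => ha.1)
    (mem_normalizer_of_cj_le fun a ha => ?_) hS fun q hq => ?_)
  · obtain ⟨h1, h2, h3⟩ := mem_cj.1 ha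
    refine ⟨by convert conj_mem_of_mem_normalizer yN h1 using 1; group, fun n hn => ?_, ?_⟩
    · have := conj_mem_of_mem_normalizer yS (h2 _ (conj_mem_of_mem_normalizer' yN hn))
      convert this using 1
      group
    · have := conj_mem_of_mem_normalizer yS h3
      convert this using 1
      group
  · refine (g3 G M Q X y x u s q hb ⟨hb.z3, xX, sX, sx, s2,
      hN.to_le (sup_le hlt.le (zpowers_le.2 hq.1)), hq.1.2, hq.2.2, fun e => out ?_⟩
      out).resolve_right hn.2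
    rw [commutator_eq_bot_iff_le_centralizer.2 fun a ha => ?_]
    · exact bot_le
    · rintro _ ⟨n, rfl⟩
      exact (Commute.zpow_right (mem_centralizer_singleton_iff.1 (e ha)) n).eq.symm

theorem gs_of (kn : JobKN.{u}) (um0 : JobUM0.{u}) (um : JobUM.{u}) (fs : JobFs.{u}) (pr : JobPr.{u})
    (f33 : F33.{u}) (x3 : JobX3.{u}) (f27 : JobF27.{u}) (k4 : K4.{u}) (k8 : K8.{u}) (k2 : JobK2.{u})
    (nf : JobNF.{u}) (s3a : S3a.{u}) (s3 : JobS3.{u}) (s2a : JobS2a.{u}) (s2 : JobS2.{u})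
    (lf : LF.{u}) (bg : JobBG.{u}) (na : JobNA.{u}) (tx : JobTX.{u}) (am : AM.{u}) (g3 : JobG3.{u})
    (g2 : JobG2.{u}) (c0 : C0.{u}) (sec : SEC.{u}) (nc : NC.{u}) (l32 : JobL32.{0}) (f7 : JF7) :
    GS.{u} :=
  have t := tx sec lf (bg c0).1 (na.1 (bg c0).2) na.2
  jobGS (g3 am t (s3 fs pr nc (k2 kn um0 um k4 k8) (nf.1 f33) s3a))
    (g2 t (s2 nf.2 (s2a pr nc (f27 f7 l32) (x3 kn))))

end H73.GS
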