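/- `PSL₂(r²).2` with semidihedral Sylow `2`-subgroups (job HM-Sd). -/
import Cfsg.Agent.H87.HMSpec
import Cfsg.Agent.H9.R2Mod
import Cfsg.Agent.H55.SpinMat

set_option autoImplicit false

namespace H73.HMSd
open MatrixGroups Subgroup H9

/-- A model with a normal subgroup `P` of index two and trivial centralizer. -/
def Mod2 (m : ℕ) (k : ℤ) (P : Type) [Group P] : Prop :=
  ∃ (G : Type) (_ : Group G) (_ : Finite G) (a b : G), DM m k 0 a b ∧ CF a b ∧ ¬ CF a (a * b) ∧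
    ∃ L : Subgroup G, L.Normal ∧ L.index = 2 ∧ centralizer (L : Set G) = ⊥ ∧ Nonempty (L ≃* P)

theorem card_aux {Γ : Type} [Group Γ] {P Q : Subgroup Γ} [Finite Q] (h1 : P ≤ Q)
    (h3 : P.relIndex Q ≤ 2) : Q ≤ P ∨ Nat.card Q = Nat.card P * 2 := by
  have h4 : P.relIndex Q ≠ 0 := index_ne_zero_of_finite
  rw [← relIndex_eq_one, ← card_mul_index (P.subgroupOf Q),
    Nat.card_congr (subgroupOfEquivOfLe h1).toEquiv, Nat.mul_right_inj, ← relIndex]
  · omega
  · exact (@Nat.card_pos _ _ (Finite.Set.subset _ h1)).ne'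

theorem not_mem {Γ : Type} [Group Γ] {N : Subgroup Γ} [Finite N] {a b : Γ} {m : ℕ} {k : ℤ}
    (ord : orderOf a = 2 ^ (m + 1)) (conj : b * a * b⁻¹ = a ^ k) (sq : b ^ 2 = 1)
    (hk : ¬ (2 : ℤ) ^ (m + 1) ∣ k - 1) (hb : b ∈ N) (syl : ¬ 2 ^ (m + 2) ∣ Nat.card N) :
    a ∉ N := fun ha => by
  have hfin : IsOfFinOrder a := orderOf_pos_iff.mp (ord ▸ by positivity)
  have := hfin.finite_zpowers.to_subtype
  have h1 : zpowers a ⊔ zpowers b ≤ N := sup_le (zpowers_le.mpr ha) (zpowers_le.mpr hb)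
  have : Finite ↥(zpowers a ⊔ zpowers b) := Finite.Set.subset _ h1
  rcases card_aux le_sup_left (relIndex_le_of_le_sup (p := 2) (Q := zpowers a) (x := b)
    (mem_normalizer_fintype (by
      rintro _ ⟨i, rfl⟩
      exact ⟨k * i, (H3.conj_zpow_of_conj_eq_zpow conj i).symm⟩)) (sq ▸ one_mem _) le_rfl) with e | e
  · obtain ⟨i, rfl⟩ := e (mem_sup_right (mem_zpowers b))
    rw [show a ^ i * a * (a ^ i)⁻¹ = a ^ (1 : ℤ) by group, zpow_eq_zpow_iff_modEq, ord,
      Int.modEq_iff_dvd] at conj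
    exact hk (by exact_mod_cast conj)
  · exact syl (by rw [pow_succ, ← ord, ← Nat.card_zpowers, ← e]; exact card_dvd_of_le h1)

theorem model_of_ext {Γ : Type} [Group Γ] {N : Subgroup Γ} [Finite N] {a b : Γ} {m : ℕ} {k : ℤ}
    {P : Type} [Group P] (iso : N ≃* P) (hz : center P = ⊥)
    (hm : 1 ≤ m) (ord : orderOf a = 2 ^ (m + 1)) (conj : b * a * b⁻¹ = a ^ k) (sq : b ^ 2 = 1)
    (hk : ¬ (2 : ℤ) ^ (m + 1) ∣ k - 1) (h4 : 4 ∣ 1 + k) (hn : ∀ g ∈ N, a * g * a⁻¹ ∈ N)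
    (h2 : a ^ 2 ∈ N) (hb : b ∈ N) (syl : ¬ 2 ^ (m + 2) ∣ Nat.card N)
    (fus : ∃ g ∈ N, ∃ i : ℤ, a ^ i = g * b * g⁻¹) : Mod2 m k P := by
  have hfin : IsOfFinOrder a := orderOf_pos_iff.mp (ord ▸ by positivity)
  have := hfin.finite_zpowers.to_subtype
  replace hn := mem_normalizer_fintype hn
  have hF : Finite ↥(N ⊔ zpowers a) := Finite.of_surjective (fun u : N × zpowers a =>
      (⟨u.1 * u.2, mul_mem_sup u.1.2 u.2.2⟩ : ↥(N ⊔ zpowers a))) fun t => by
    obtain ⟨q, hq, n, e⟩ := exists_mul_pow_of_mem_sup hfin hn t.2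
    exact ⟨(⟨q, hq⟩, ⟨_, npow_mem_zpowers a n⟩), Subtype.ext e.symm⟩
  have haN : a ∉ N := not_mem ord conj sq hk hb syl
  have hle : N ⊔ zpowers a ≤ normalizer (N : Set Γ) := sup_le le_normalizer (zpowers_le.mpr hn)
  have hc : Nat.card ↥(N ⊔ zpowers a) = Nat.card N * 2 :=
    (card_aux le_sup_left (relIndex_le_of_le_sup hn h2 le_rfl)).resolve_left
      fun e => haN (e (mem_sup_right (mem_zpowers a)))
  have hi : (N.subgroupOf (N ⊔ zpowers a)).index = 2 := by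
    have h1 := (N.subgroupOf (N ⊔ zpowers a)).card_mul_index
    rw [hc, Nat.card_congr (subgroupOfEquivOfLe le_sup_left).toEquiv] at h1
    exact Nat.eq_of_mul_eq_mul_left Nat.card_pos h1
  have hz' : ∀ c ∈ N, (∀ n ∈ N, n * c = c * n) → c = 1 := fun c hc h => by
    have : iso ⟨c, hc⟩ ∈ center P := mem_center_iff.2 fun p => by
      obtain ⟨n, rfl⟩ := iso.surjective p
      rw [← map_mul, ← map_mul]
      exact congrArg iso (Subtype.ext (h n n.2))
    rw [hz, mem_bot, iso.map_eq_one_iff] at this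
    exact congrArg Subtype.val this
  obtain ⟨n, rfl⟩ := Nat.exists_eq_add_of_le' hm
  obtain ⟨l, hl⟩ := h4
  refine ⟨↥(N ⊔ zpowers a), inferInstance, hF, ⟨a, mem_sup_right (mem_zpowers a)⟩,
    ⟨b, mem_sup_left hb⟩, ⟨(orderOf_mk _ _).trans ord, Subtype.ext conj,
      Subtype.ext (sq.trans (zpow_zero a).symm), ?_⟩, ?_, ?_, N.subgroupOf _,
      (normal_subgroupOf_iff_le_normalizer le_sup_left).2 hle, hi, eq_bot_iff.2 fun c hc => ?_,
      ⟨(subgroupOfEquivOfLe le_sup_left).trans iso⟩⟩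
  · rw [hc, pow_succ, Nat.mul_dvd_mul_iff_right two_pos]
    exact syl
  · obtain ⟨g, hg, i, e⟩ := fus
    exact ⟨⟨g, mem_sup_left hg⟩, i, Subtype.ext e⟩
  · rintro ⟨⟨g, hg⟩, i, e⟩
    replace e : a ^ i = g * (a * b) * g⁻¹ := congrArg Subtype.val e
    have h5 : (a * b) ^ 2 = a ^ (4 * l) := by
      rw [← hl, zpow_add, ← conj, ← mul_one (_ * (b * a * b⁻¹)), ← sq, pow_two, pow_two]; group
    have h6 : (a ^ i) ^ 2 ^ (n + 1) = 1 := by
      rw [e, conj_pow, pow_succ', pow_mul, h5, ← zpow_natCast, ← zpow_mul,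
        orderOf_dvd_iff_zpow_eq_one.mp ⟨l, by rw [ord]; push_cast; ring⟩]
      group
    rw [← zpow_natCast, ← zpow_mul, ← orderOf_dvd_iff_zpow_eq_one, ord, pow_succ', Nat.cast_mul,
      mul_dvd_mul_iff_right (by positivity)] at h6
    obtain ⟨r, rfl⟩ := h6
    have h7 : g * (a * b) * g⁻¹ ∈ N := by
      rw [← e, zpow_mul, zpow_natCast]; exact zpow_mem h2 r
    exact haN ((mul_mem_cancel_right hb).mp ((mem_normalizer_iff.mp (hle hg) _).mpr h7))
  · have h1 : ∀ x ∈ N, x * c.1 = c.1 * x := fun x hx =>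
      congrArg Subtype.val (mem_centralizer_iff.1 hc ⟨x, mem_sup_left hx⟩ hx)
    by_cases hcN : c.1 ∈ N
    · exact Subtype.ext (hz' _ hcN h1)
    exfalso
    have h3 : c.1 * c.1 = 1 := hz' _ (mul_self_mem_of_index_two hi c) fun x hx => by
      rw [← mul_assoc, h1 x hx, mul_assoc, h1 x hx, mul_assoc]
    have h4 : a * c.1 ∈ N := (mul_mem_iff_of_index_two hi (a := ⟨a, mem_sup_right (mem_zpowers a)⟩)
      (b := c)).2 (iff_of_false haN hcN)
    have h5 : Commute a c.1 := mul_right_cancel (b := c.1) (by rw [h1 _ h4, mul_assoc])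
    have h6 : (a * c.1) ^ 2 = a ^ 2 := by rw [h5.mul_pow, pow_two c.1, h3, mul_one]
    refine not_mem (a := a * c.1) (k := k) (orderOf_eq_of_pow (fun e => ?_) ?_) ?_ sq hk hb syl h4
    · rw [pow_succ', pow_mul, h6, ← pow_mul, ← pow_succ'] at e
      exact pow_ne_one_of_lt_orderOf (by positivity)
        (ord ▸ Nat.pow_lt_pow_right one_lt_two (n + 1).lt_succ_self) e
    · rw [pow_succ' 2 n, pow_mul (a * c.1), h6, ← pow_mul a, ← pow_succ', ← pow_mul, ← pow_succ,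
        ← ord, pow_orderOf_eq_one]
    · have h7 : c.1 ^ k = c.1 := by
        have : c.1 ^ (2 : ℤ) = 1 := by rw [zpow_two, h3]
        rw [show k = 2 * (2 * l - 1) + 1 by omega, zpow_add, zpow_mul, this, one_zpow, one_mul,
          zpow_one]
      rw [h5.mul_zpow, h7, ← conj, ← mul_assoc, mul_assoc _ c.1, ← h1 _ (inv_mem hb), mul_assoc,
        mul_assoc, mul_assoc]

theorem model_aut {L : Type} [Field L] [Fintype L] (φ : L →+* L) (hφ : ∀ x, φ (φ x) = x) {m : ℕ}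
    (h : V2 (Fintype.card L - 1) (m + 2)) {ζ : Lˣ} (hζ : orderOf ζ = 2 ^ (m + 2)) {r : ℤ}
    (h1 : Units.map φ ζ = ζ ^ (1 + 4 * r)) (h2 : ζ ^ (8 * r * r) = 1) :
    Mod2 (m + 1) (4 * r - 1) PSL(2, L) := by
  have hΦ : (Matrix.GeneralLinearGroup.map φ).comp (Matrix.GeneralLinearGroup.map φ) =
      MonoidHom.id (GL (Fin 2) L) := by ext g i j; exact hφ _
  let Φ : MulAut (GL (Fin 2) L) := MonoidHom.toMulEquiv _ _ hΦ hΦ
  have hΦ2 : Φ * Φ = 1 := MulEquiv.ext fun g => DFunLike.congr_fun hΦ g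
  have hc : ∀ g, Φ * MulAut.conj g = MulAut.conj (Φ g) * Φ := fun g => by ext1; simp
  have hd : ∀ u v, Φ (dg L (u, v)) = dg L (Units.map φ u, Units.map φ v) := fun u v => by
    ext i j
    fin_cases i <;> fin_cases j <;> first | rfl | exact map_zero φ
  let c : Lˣ →* MulAut (GL (Fin 2) L) := MulAut.conj.comp ((dg L).comp (MonoidHom.inl _ _))
  have hc1 : ∀ u v, MulAut.conj (dg L (u, v)) = c (u * v⁻¹) := fun u v => by
    have : MulAut.conj (dg L (v, v)) = 1 := by ext1 g; simp [← dg_comm]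
    rw [show (u, v) = (u * v⁻¹, 1) * (v, v) by simp, map_mul, map_mul, this, mul_one]; rfl
  have hc2 : Function.Injective c := (injective_iff_map_eq_one c).mpr fun u e => by
    have h3 : dg L (u, 1) * sw L * (dg L (u, 1))⁻¹ = sw L := DFunLike.congr_fun e (sw L)
    have h4 := sw_dg u 1
    rw [← mul_inv_eq_iff_eq_mul.mp h3, mul_inv_cancel_right] at h4
    exact congrArg Prod.fst (dg_injective h4)
  have hc3 : ∀ u, Φ * c u = c (Units.map φ u) * Φ := fun u => by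
    have := hc (dg L (u, 1))
    rwa [hd, map_one] at this
  have h3 : (c ζ * Φ) ^ 2 = c (ζ ^ (2 + 4 * r)) := by
    rw [pow_two, mul_assoc, ← mul_assoc Φ, hc3, mul_assoc, hΦ2, mul_one, ← map_mul, h1]
    congr 1; group
  have h4 : (c ζ * Φ) ^ 2 ^ (m + 1) = c (-1) := by
    rw [pow_succ', pow_mul, h3, ← map_pow, ← Odd.neg_one_zpow (α := Lˣ) ⟨r, rfl⟩,
      ← pow_eq_neg_one hζ, ← zpow_natCast, ← zpow_natCast, ← zpow_mul, ← zpow_mul]
    congr 2; push_cast; ring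
  have hJ : Φ (Matrix.SpecialLinearGroup.toGL (H84.slJ L)) =
      Matrix.SpecialLinearGroup.toGL (H84.slJ L) := by
    ext i j
    fin_cases i <;> fin_cases j <;> simp [Φ, H84.slJ]
  let ψ : SL(2, L) →* MulAut (GL (Fin 2) L) := MulAut.conj.comp Matrix.SpecialLinearGroup.toGL
  have h5 : ∀ u, ψ (ts L u) = c (u ^ 2) := fun u =>
    (congrArg MulAut.conj (toGL_ts u)).trans (by rw [hc1, inv_inv, pow_two])
  have h6 : ψ (-1) = 1 := by rw [← ts_neg_one, h5]; simp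
  have h7 := H84.two_ne_zero_of_odd_card h.odd
  have h8 : ψ.ker = center SL(2, L) := by
    ext g
    refine ⟨fun e => mem_center_iff.2 fun x => Matrix.SpecialLinearGroup.toGL_injective ?_,
      fun e => ?_⟩
    · have : Matrix.SpecialLinearGroup.toGL g * Matrix.SpecialLinearGroup.toGL x *
          (Matrix.SpecialLinearGroup.toGL g)⁻¹ = Matrix.SpecialLinearGroup.toGL x :=
        DFunLike.congr_fun e (Matrix.SpecialLinearGroup.toGL x)
      rw [map_mul, map_mul, ← mul_inv_eq_iff_eq_mul.1 this]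
    · rcases H61.proj_eq_one_iff.1 ((QuotientGroup.eq_one_iff g).2 e) with rfl | rfl
      exacts [one_mem _, h6]
  refine model_of_ext (N := ψ.range) (a := c ζ * Φ) (b := ψ (H84.slJ L))
    ((QuotientGroup.quotientKerEquivRange ψ).symm.trans (QuotientGroup.quotientMulEquivOfEq h8))
    (H55.center_psl2_eq_bot L) le_add_self
    (orderOf_eq_of_pow (fun e => ?_) (by rw [h4, ← map_pow]; simp)) ?_
    (by rw [← map_pow, pow_two, H84.slJ_mul_self, h6]) (fun ⟨t, ht⟩ => ?_) ⟨r, by ring⟩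
    ?_ ⟨ts L (ζ ^ (1 + 2 * r)), by rw [h5, h3]; congr 1; group⟩ ⟨_, rfl⟩ (fun e => ?_) ?_
  · have := congrArg Units.val (hc2 ((h4.symm.trans e).trans (map_one c).symm))
    exact h7 (by simp only [Units.val_neg, Units.val_one] at this; linear_combination -this)
  · have e1 : ψ (H84.slJ L) * (c ζ * Φ) * (ψ (H84.slJ L))⁻¹ = c ζ⁻¹ * Φ := by
      rw [← map_inv, mul_assoc, mul_assoc, show Φ * ψ _ = _ from hc _, map_inv, map_inv, hJ,
        ← one_mul ζ⁻¹, ← hc1, ← J_dg, map_mul, map_mul, mul_assoc, mul_assoc]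
      rfl
    rw [e1, zpow_sub_one, show 4 * r = (2 : ℕ) * (2 * r) by push_cast; ring, zpow_mul, zpow_natCast,
      h3, eq_mul_inv_iff_mul_eq, mul_assoc, ← mul_assoc Φ, hc3, mul_assoc, hΦ2, mul_one, ← map_mul,
      h1, ← map_zpow, ← mul_one (_ * _), ← h2]
    congr 1; group
  · have : (2 : ℤ) ^ (m + 1 + 1) * t = 4 * (2 ^ m * t) := by ring
    omega
  · rintro _ ⟨g, rfl⟩
    obtain ⟨g', e⟩ : dg L (ζ, 1) * Φ (Matrix.SpecialLinearGroup.toGL g) * (dg L (ζ, 1))⁻¹ ∈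
        (Matrix.SpecialLinearGroup.toGL : SL(2, L) →* _).range := by
      rw [H57.range_toGL_eq_ker_det, MonoidHom.mem_ker, map_mul, map_mul, map_inv,
        mul_inv_cancel_comm]
      exact (Matrix.GeneralLinearGroup.map_det φ _).trans (by simp)
    refine ⟨g', (congrArg MulAut.conj e).trans ?_⟩
    rw [mul_assoc (c ζ), show Φ * ψ _ = _ from hc _, map_mul, map_mul, map_inv, _root_.mul_inv_rev]
    simp only [mul_assoc, mul_inv_cancel_left]
    rfl
  · obtain ⟨t, ht⟩ := ψ.ker.orderOf_dvd_natCard (x := -1) h6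
    rw [orderOf_eq_prime (pow_two (-1 : SL(2, L)) ▸ H61.sl_neg_one_mul_self)
      (H61.sl_neg_one_ne_one h7)] at ht
    refine (v2_card_sl h).not_dvd ?_
    rw [← ψ.ker.card_mul_index, index_ker, ht, pow_succ', mul_assoc]
    exact mul_dvd_mul_left 2 (e.mul_left t)
  · obtain ⟨g, e⟩ := isConj_iff.mp (cf_ts h.odd hζ H84.slJ_mul_self)
    refine ⟨ψ g, ⟨g, rfl⟩, (2 ^ (m + 1) : ℕ), ?_⟩
    rw [← map_inv, ← map_mul, ← map_mul, e, ← map_pow, h5, zpow_natCast, h4, ← pow_mul, ← pow_succ,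
      pow_eq_neg_one hζ]

theorem jobSd : H87.HM.JobSd := fun m => by
  obtain ⟨K, _, _, h⟩ := exists_field_sub (m + 1)
  obtain ⟨L, _, _, _, σ, h1, -, h3, h4⟩ := exists_quad K
  have h5 : V2 (Fintype.card L - 1) (m + 1 + 2) := h1 ▸ h.sq
  obtain ⟨ζ, hζ⟩ := exists_unit_orderOf h5.dvd
  have := model_aut (σ : L →+* L) h4 h5 hζ (r := 2 ^ m) ?_ ?_
  · rw [show (4 : ℤ) * 2 ^ m = 2 ^ (m + 2) by ring] at this
    obtain ⟨G, _, _, a, b, d, c1, c2, M, n1, n2, n3, n4⟩ := this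
    exact ⟨G, inferInstance, inferInstance, a, b, d, c1, c2, L, inferInstance, inferInstance,
      Fintype.card K, h.odd, h1, M, n1, n2, n3, n4⟩
  · obtain ⟨_, ⟨t, rfl⟩, ht⟩ := h
    have := Fintype.card_pos (α := K)
    rw [show Units.map ((σ : L →+* L) : L →* L) ζ = ζ ^ (Fintype.card K : ℤ) from
      Units.ext (by simp [h3]), zpow_eq_zpow_iff_modEq, hζ, Int.modEq_iff_dvd]
    exact ⟨-t, by zify [this] at ht ⊢; linear_combination -ht⟩
  · rw [← orderOf_dvd_iff_zpow_eq_one, hζ]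
    exact ⟨2 ^ m, by push_cast; ring⟩

end H73.HMSd
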