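import Cfsg.Agent.H73.HND
/-! Kernel checks. -/
set_option maxRecDepth 1000000
set_option Elab.async false
set_option linter.unusedVariables false
namespace H73.HNT
open H71 (Tr nth evw linv gen maskL winv mkRule Sat)
theorem c_env : envOK P.mul P.one 37632 CV (2 * 3) 7 = true := by decide +kernel
theorem c_relC : relsOne P.mul P.one 37632 CV (maskL LL) (HNs.R.take 10) = true := by decide +kernel
theorem c_wa : wordsL P.mul P.one 37632 CV (maskL LL) PA wa = true := by decide +kernel
theorem c_wb : wordsL P.mul P.one 37632 CV (maskL LL) PB wb = true := by decide +kernel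
theorem c_conj : conjW 6 4 wa wb (([98311,114688] : List ℕ).map (mkRule 6 RR)) = true := by decide +kernel
theorem c_inv : band (beqL (mkRule 6 RR 122880) (4 :: ([1,1] ++ 4 :: [0,0]))) (band (inM (maskL LL) [0,0]) (inM (maskL LL) [1,1])) = true := by decide +kernel
theorem c_slpA0 : slpT P.mul P.one 37632 PA 168 15 PR 2 166 = true := by decide +kernel
theorem c_sorted : sortedOK (canM P.mul P.one) 672 T 1408 = true := by decide +kernel
theorem c_chain : chainOK (relR P.mul) 37632 PA 168 672 T 1408 1 KC [] = true := by decide +kernel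
theorem c_kfix : fixOK (relR P.mul) 37632 PA 2 be 4 KF = true := by decide +kernel
theorem c_rw : wordsL P.mul P.one 37632 CV (maskL LL) RT RW = true := by decide +kernel
theorem c_rfix : fixOK (relR P.mul) 37632 RT 1 be 4 RF = true := by decide +kernel
theorem c_valid : validOK P.mul P.one 37632 CV (maskL LL) dd.kA dd.VT dd.nv vw = true := by decide +kernel
theorem c_defs : defsOK P.mul P.one 37632 CV (maskL LL) 4 dd.VT dd.defs dw uw = true := by decide +kernel
theorem c_rels : relsOK P.mul (spl P.mul P.one 37632 CV 4 5 (evL P.mul P.one 37632 CV [0,0]) (evL P.mul P.one 37632 CV [1,1])) (maskL (4 :: 5 :: LL)) (([122887,90116,90122,106500,90120,106508] : List ℕ).map (mkRule 6 RR)) dd.rels = true := by decide +kernel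
theorem c_subs : subsOK (spl P.mul P.one 37632 CV 4 5 (evL P.mul P.one 37632 CV [0,0]) (evL P.mul P.one 37632 CV [1,1])) (maskL (4 :: 5 :: LL)) subW dd.subs = true := by decide +kernel
theorem c_dce0 : dd.chkRange TJ 0 144 = true := by decide +kernel
theorem c_dce1 : dd.chkRange TJ 144 125 = true := by decide +kernel
theorem c_dce2 : dd.chkRange TJ 269 97 = true := by decide +kernel
theorem c_dce3 : dd.chkRange TJ 366 84 = true := by decide +kernel
theorem c_dce4 : dd.chkRange TJ 450 57 = true := by decide +kernel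
theorem c_for0_0 : forestOK (relR P.mul) (labE 37632 F ML0) (rIdx 1 RI0 1408) 672 T 16 Rc0 3 1 1408 14 1 0 45 = true := by decide +kernel
theorem c_lab0 : labsOK F 507 (fld LV 0) ML0 3 = true := by decide +kernel
theorem c_root0_0 : rootsOK (relR P.mul) P.mul 37632 F 507 (fld LV 0) LV 9 be 672 T 1408 RT 1 1 RI0 1 ET0 0 1 = true := by decide +kernel
theorem c_tot0 : Nat.beq (rowTot (eCol 1 ET0 1 9) 1 4294967296 16 Rc0 3 1 1408 14) (nth tots 0 0) = true := by decide +kernel
theorem c_for1_0 : forestOK (relR P.mul) (labE 37632 F ML1) (rIdx 11 RI1 1408) 672 T 19 Rc1 2 1 1408 13 11 0 45 = true := by decide +kernel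
theorem c_lab1 : labsOK F 507 (fld LV 1) ML1 2 = true := by decide +kernel
theorem c_root1_0 : rootsOK (relR P.mul) P.mul 37632 F 507 (fld LV 1) LV 9 be 672 T 1408 RT 1 11 RI1 12 ET1 0 11 = true := by decide +kernel
theorem c_tot1 : Nat.beq (rowTot (eCol 12 ET1 1 9) 1 4294967296 19 Rc1 2 1 1408 13) (nth tots 0 1) = true := by decide +kernel
theorem c_for2_0 : forestOK (relR P.mul) (labE 37632 F ML2) (rIdx 11 RI2 1408) 672 T 20 Rc2 3 1 1408 9 14 0 45 = true := by decide +kernel
theorem c_lab2 : labsOK F 507 (fld LV 2) ML2 3 = true := by decide +kernel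
theorem c_root2_0 : rootsOK (relR P.mul) P.mul 37632 F 507 (fld LV 2) LV 9 be 672 T 1408 RT 1 11 RI2 12 ET2 0 14 = true := by decide +kernel
theorem c_tot2 : Nat.beq (rowTot (eCol 12 ET2 1 9) 1 4294967296 20 Rc2 3 1 1408 9) (nth tots 0 2) = true := by decide +kernel
theorem c_for3_0 : forestOK (relR P.mul) (labE 37632 F ML3) (rIdx 10 RI3 1408) 672 T 19 Rc3 3 1 1408 16 4 0 45 = true := by decide +kernel
theorem c_lab3 : labsOK F 507 (fld LV 3) ML3 3 = true := by decide +kernel
theorem c_root3_0 : rootsOK (relR P.mul) P.mul 37632 F 507 (fld LV 3) LV 9 be 672 T 1408 RT 1 10 RI3 12 ET3 0 4 = true := by decide +kernel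
theorem c_tot3 : Nat.beq (rowTot (eCol 12 ET3 1 9) 1 4294967296 19 Rc3 3 1 1408 16) (nth tots 0 3) = true := by decide +kernel
theorem c_for4_0 : forestOK (relR P.mul) (labE 37632 F ML4) (rIdx 11 RI4 1408) 672 T 20 Rc4 3 1 1408 12 16 0 45 = true := by decide +kernel
theorem c_lab4 : labsOK F 507 (fld LV 4) ML4 3 = true := by decide +kernel
theorem c_root4_0 : rootsOK (relR P.mul) P.mul 37632 F 507 (fld LV 4) LV 9 be 672 T 1408 RT 1 11 RI4 12 ET4 0 16 = true := by decide +kernel
theorem c_tot4 : Nat.beq (rowTot (eCol 12 ET4 1 9) 1 4294967296 20 Rc4 3 1 1408 12) (nth tots 0 4) = true := by decide +kernel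
theorem c_for5_0 : forestOK (relR P.mul) (labE 37632 F ML5) (rIdx 10 RI5 1408) 672 T 20 Rc5 2 1 1408 15 16 0 45 = true := by decide +kernel
theorem c_lab5 : labsOK F 507 (fld LV 5) ML5 2 = true := by decide +kernel
theorem c_root5_0 : rootsOK (relR P.mul) P.mul 37632 F 507 (fld LV 5) LV 9 be 672 T 1408 RT 1 10 RI5 13 ET5 0 16 = true := by decide +kernel
theorem c_tot5 : Nat.beq (rowTot (eCol 13 ET5 1 9) 1 4294967296 20 Rc5 2 1 1408 15) (nth tots 0 5) = true := by decide +kernel
theorem c_for6_0 : forestOK (relR P.mul) (labE 37632 F ML6) (rIdx 11 RI6 1408) 672 T 20 Rc6 3 1 1408 7 30 0 45 = true := by decide +kernel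
theorem c_lab6 : labsOK F 507 (fld LV 6) ML6 3 = true := by decide +kernel
theorem c_root6_0 : rootsOK (relR P.mul) P.mul 37632 F 507 (fld LV 6) LV 9 be 672 T 1408 RT 1 11 RI6 13 ET6 0 30 = true := by decide +kernel
theorem c_tot6 : Nat.beq (rowTot (eCol 13 ET6 1 9) 1 4294967296 20 Rc6 3 1 1408 7) (nth tots 0 6) = true := by decide +kernel
end H73.HNT
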