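import Cfsg.Agent.H82.HPKit
import Cfsg.Agent.S2208
import Cfsg.Agent.S0414
import Cfsg.Agent.H45.EXB1
import Cfsg.Agent.H61.SubField
import Cfsg.Agent.H61.PSLMin

/-! Tower HP, jobs `JobPS` and `JobM22`. -/

set_option autoImplicit false

namespace H73.HP

open MulAction Cfsg Subgroup H89.K H98 H82.HR H82.HP
open scoped Pointwise

universe u v

variable {G : Type u} {Ω : Type v} [Group G] [MulAction G Ω]

theorem fx_cj {g : G} {U : Subgroup G} {c : Ω} : g • c ∈ Fx Ω (cj g U) ↔ c ∈ Fx Ω U :=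
  ⟨fun h x hx => by simpa [mul_smul] using h _ (conj_mem_cj hx), fun h x hx => by
    simpa [mul_smul, inv_smul_eq_iff] using h _ (mem_cj.1 hx)⟩

theorem arith {m f : ℕ} (h2 : 2 ≤ f) (hd : f ∣ 2 ^ m) (h : IsPrimePow (1 + (2 ^ m + 1) * (f - 1))) :
    f = 2 ^ m := by
  obtain ⟨s, hs⟩ := hd
  obtain ⟨e, rfl⟩ : ∃ e, f = e + 1 := ⟨f - 1, by omega⟩
  obtain ⟨r, t, hr, -, h⟩ := (isPrimePow_nat_iff _).1 h
  rw [hs, Nat.add_sub_cancel, show 1 + ((e + 1) * s + 1) * e = (e + 1) * (e * s + 1) by ring] at h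
  obtain ⟨j, -, hj⟩ := (Nat.dvd_prime_pow Nat.prime_two).1 (Dvd.intro _ hs.symm)
  obtain ⟨i, -, hi⟩ := (Nat.dvd_prime_pow Nat.prime_two).1 (Dvd.intro_left _ hs.symm)
  have h3 : 2 ∣ e + 1 := hj ▸ dvd_pow_self 2 (by rintro rfl; omega)
  obtain rfl := (Nat.prime_dvd_prime_iff_eq Nat.prime_two hr).1
    (Nat.prime_two.dvd_of_dvd_pow (h ▸ h3.mul_right _))
  rcases i with _ | i
  · rw [hs, hi, pow_zero, mul_one]
  have h4 := (Nat.Coprime.pow_right t (Odd.coprime_two_right (n := e * s + 1)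
    (Even.add_one (by rw [hi, pow_succ]; simp [parity_simps])))).eq_one_of_dvd (Dvd.intro_left _ h.symm)
  have : 0 < e * s := Nat.mul_pos (by omega) (by rw [hi]; positivity)
  omega

theorem jobPS : JobPS.{u, v} := by
  intro G Ω _ _ _ N P L x m f H C k
  have := H.t2.finite
  obtain ⟨a, -⟩ := H.t2.big
  have h := C.pl a
  have h2 := k.two
  rcases h.m1.eq_or_lt with rfl | hm
  · exact .inl (le_antisymm (Nat.le_of_dvd two_pos k.dvd) h2)
  have q4 : 2 ^ 2 ≤ 2 ^ m := Nat.pow_le_pow_right two_pos hm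
  obtain ⟨-, -, l, hl, -⟩ := h.exists_flag
  have ha : a ∈ Fx Ω l := (k.memL a l hl a).1 hl
  have hc : Nat.card (Fx Ω l) = 1 + (2 ^ m + 1) * (f - 1) := k.cL a l hl
  have h3 : 2 ^ m + 1 ≤ (2 ^ m + 1) * (f - 1) := Nat.le_mul_of_pos_right _ (by omega)
  obtain ⟨b, hb, ne⟩ := Set.exists_ne_of_one_lt_ncard (s := Fx Ω l) (by rw [k.cL a l hl]; omega) a
  obtain ⟨Y, _, _, _, π, hπ⟩ := exists_res (nor l) (Fx Ω l) fun g hg c hc => cj_eq_self hg ▸ fx_cj.2 hc
  have hT := hπ.t2 (fun c hc d hd => k.tr2 a l hl a ha b hb c hc d hd ne.symm) (by omega)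
  have hM := h.symm.MM_nor hl
  let ρ : MM (P a) l →* Y := π.comp (inclusion hM)
  obtain ⟨F, _, _, hF, φ, φ1, φ2⟩ := h.b.levi l hl
  have := H61.isSimpleGroup_psl (F := F) (by rw [Nat.card_eq_fintype_card, hF]; omega)
  have k1 : φ.ker ≤ ρ.ker := fun y hy => hπ.eq_one_iff.2 fun c hc => hc _ ((φ2 y).1 hy)
  have k2 : ρ.ker = φ.ker := by
    rcases (Normal.map inferInstance φ φ1 : (ρ.ker.map φ).Normal).eq_bot_or_eq_top with e | e
    · exact le_antisymm ((Subgroup.map_eq_bot_iff _).1 e) k1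
    obtain ⟨p, ⟨p1, p2⟩, p3⟩ := k.line a b ne.symm
    obtain ⟨s, hs, i, n, -⟩ := h.third hl p p
    refine absurd (h.fix_only hs p1 fun y hy => cj_eq_self_iff.1 (p3 _ ?_)).symm n
    have h4 : (⟨y, le_MM hs i.symm hy⟩ : MM (P a) l) ∈ ρ.ker := by
      rw [← comap_map_eq_self k1, e]; trivial
    exact ⟨hπ.eq_one_iff.1 h4 a ha ▸ C.equiP y a p p1, hπ.eq_one_iff.1 h4 b hb ▸ C.equiP y b p p2⟩
  have := Fintype.ofFinite (Fx Ω l)
  have := hT.faithful
  rw [Nat.card_eq_fintype_card] at hc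
  rcases Cfsg.Agent.S2208.result hT.mult ⟨a, ha⟩ ρ.range (by
      rintro _ ⟨y, rfl⟩
      exact hπ.smul_eq_iff.2 (H.le a (h.symm.MM_le y.2))) (by
      rintro g hg _ ⟨y, rfl⟩
      obtain ⟨g, rfl⟩ := hπ.surj g
      exact ⟨⟨_, conj_mem_of_mem_normalizer (h.symm.nor_MM (H.nor_N (hπ.smul_eq_iff.1 hg)) hl g.2) y.2⟩, by
        rw [← map_inv]; exact (map_mul π (g * inclusion hM y) g⁻¹).trans (congrArg (· * _) (map_mul π _ _))⟩)
    ⟨F, _, _, m, hF, hm, .inl ⟨(QuotientGroup.quotientKerEquivRange ρ).symm.trans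
      ((QuotientGroup.quotientMulEquivOfEq k2).trans (QuotientGroup.quotientKerEquivOfSurjective φ φ1))⟩⟩
    with e | e | e
  · have h5 : 2 ^ m < 2 ^ 3 := by omega
    obtain rfl : m = 2 := by have := (Nat.pow_lt_pow_iff_right one_lt_two).1 h5; omega
    exact .inr ⟨rfl, by omega⟩
  · have h5 : 2 ^ m < 2 ^ 4 := by omega
    have := (Nat.pow_lt_pow_iff_right one_lt_two).1 h5
    have h6 := k.dvd
    interval_cases m
    · obtain rfl : f = 3 := by omega
      exact absurd h6 (by norm_num)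
    · omega
  · exact .inl (arith h2 k.dvd (hc ▸ Nat.card_eq_fintype_card (α := Fx Ω l) ▸ hT.isPrimePow_of_aff e))

theorem jobM22 : JobM22.{u, v} := by
  intro G Ω _ _ _ N P L x H C k
  classical
  have := H.t2.finite
  have := Fintype.ofFinite Ω
  have two : ∀ a, ∀ p ∈ P a, ∀ c ∈ Fx Ω p, ∀ d ∈ Fx Ω p, c ≠ a → d ≠ a → c = d :=
    fun a p hp c hc d hd h1 h2 => by_contra fun h3 => by
      have := Set.ncard_le_ncard (s := {a, c, d}) (t := Fx Ω p) (by
        simp [Set.insert_subset_iff, hc, hd, (k.memP a p hp a).1 hp])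
      rw [k.cF a p hp, Set.ncard_eq_three.2 ⟨a, c, d, h1.symm, h2.symm, h3, rfl⟩] at this
      omega
  refine ⟨fun a c d h1 h2 => ?_, ?_⟩
  · obtain ⟨p, ⟨p1, p2⟩, -⟩ := k.line a c h1.symm
    obtain ⟨r, ⟨r1, r2⟩, -⟩ := k.line a d h2.symm
    obtain ⟨g, hg, rfl⟩ := (C.pl a).trP p1 r1
    exact ⟨g, hg, two a _ r1 _ (fx_cj.2 ((k.memP a p p1 c).1 p2)) _ ((k.memP a _ r1 d).1 r2)
      (fun e => h1 (MulAction.injective g (e.trans (H.le a hg).symm))) h2⟩
  have hα : Fintype.card Ω = 22 := Nat.card_eq_fintype_card.symm.trans k.card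
  let B : Set (Finset Ω) := {b | ∃ a, ∃ l ∈ L a, ↑b = Fx Ω l}
  have hB : IsSteinerSystem 3 6 B := by
    refine ⟨fun b ⟨a, l, hl, e⟩ => by rw [← Set.ncard_coe_finset, e, k.cL a l hl]; rfl, fun s hs => ?_⟩
    obtain ⟨a, c, d, h1, h2, h3, rfl⟩ := Finset.card_eq_three.1 hs
    obtain ⟨p, ⟨p1, p2⟩, -⟩ := k.line a c h1
    obtain ⟨r, ⟨r1, r2⟩, -⟩ := k.line a d h2
    replace p2 := (k.memP a p p1 c).1 p2
    replace r2 := (k.memP a r r1 d).1 r2
    obtain ⟨l, ⟨l1, l2, l3⟩, l4⟩ := (C.pl a).a.join p p1 r r1 fun e =>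
      h3 (two a p p1 c p2 d (e ▸ r2) h1.symm h2.symm)
    refine ⟨(Fx Ω l).toFinset, ⟨⟨a, l, l1, by simp⟩, by
      simp [Set.insert_subset_iff, (k.memL a l l1 a).1 l1, k.sub a p p1 l l1 l2 p2,
        k.sub a r r1 l l1 l3 r2]⟩, ?_⟩
    rintro b ⟨⟨a', l', hl, e⟩, hb⟩
    have m : ∀ y ∈ ({a, c, d} : Finset Ω), y ∈ Fx Ω l' := fun y hy => e ▸ hb hy
    have l5 := (k.memL a' l' hl a).2 (m a (by simp))
    rw [← l4 l' ⟨l5, k.inc a p p1 l' l5 c p2 (m c (by simp)) h1.symm,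
      k.inc a r r1 l' l5 d r2 (m d (by simp)) h2.symm⟩, ← Finset.coe_inj, e, Set.coe_toFinset]
  have b1 : ∀ g : G, ∀ b ∈ B, toPermHom G Ω g • b ∈ B := fun g b ⟨a, l, hl, e⟩ =>
    ⟨g • a, cj g l, C.equiL g a l hl, Set.ext fun c => by
      obtain ⟨c, rfl⟩ := MulAction.surjective g c
      rw [fx_cj, ← e, Finset.mem_coe, Finset.mem_coe]
      exact Finset.smul_mem_smul_finset_iff (toPermHom G Ω g)⟩
  have hG : ∀ g : G, toPermHom G Ω g ∈ setSystemAut B := fun g => Set.ext fun b =>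
    ⟨by rintro ⟨b, hb, rfl⟩; exact b1 g b hb, fun hb => ⟨_, b1 g⁻¹ b hb, by rw [map_inv]; exact smul_inv_smul _ b⟩⟩
  have := H.t2.faithful
  let ι : G →* setSystemAut B := (toPermHom G Ω).codRestrict _ hG
  have hι : Function.Injective ι := fun x y e => toPerm_injective (congrArg Subtype.val e)
  obtain ⟨a, b, -, hab, -⟩ := H.t2.big
  have c1 : 443520 ≤ Nat.card G := by
    obtain ⟨F, _, _, hF, φ, φ1, φ2⟩ := (C.pl a).b'.levi _ (C.mem a b hab)
    have h1 := φ.ker.index_mul_card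
    rw [index_ker, MonoidHom.range_eq_top.2 φ1, card_top, H61.card_psl_of_even (by
      rw [Nat.card_eq_fintype_card, hF]; decide), Nat.card_eq_fintype_card (α := F), hF,
      show φ.ker = (x a b).subgroupOf _ from Subgroup.ext φ2, Nat.card_congr (subgroupOfEquivOfLe
        ((C.pl a).self_le (C.mem a b hab))).toEquiv, (C.pl a).a.card _ (C.mem a b hab)] at h1
    have h2 : _ ≤ Nat.card (St G a b) := card_le_of_le (le_inf ((C.pl a).MM_le.trans (H.le a)) (C.le a b hab))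
    rw [H.t2.card_group hab, k.card]
    omega
  obtain ⟨c2, -, K, c3, c4, c5⟩ := Cfsg.Agent.S0414.result hα hB
  have c6 := ι.range.index_mul_card
  have c7 : Nat.card ι.range = Nat.card G := (Nat.card_congr (MonoidHom.ofInjective hι).toEquiv).symm
  have c8 : ι.range.index ≤ 2 := by rw [c7, c2] at c6; nlinarith
  have c9 : K ≤ ι.range := by
    have : ι.range.Normal := by
      have := ι.range.index_ne_zero_of_finite
      rcases (by omega : ι.range.index = 1 ∨ ι.range.index = 2) with e | e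
      exacts [index_eq_one.1 e ▸ inferInstance, normal_of_index_eq_two e]
    refine subgroupOf_eq_top.1 ((normal_subgroupOf.eq_bot_or_eq_top).resolve_left fun e => ?_)
    have h1 := Nat.le_of_dvd (Nat.pos_of_ne_zero ι.range.index_ne_zero_of_finite)
      (relIndex_dvd_index_of_normal ι.range K)
    rw [relIndex, e, index_bot, c5] at h1
    omega
  let e : K.comap ι ≃* K := ((K.comap ι).equivMapOfInjective ι hι).trans
    (MulEquiv.subgroupCongr (map_comap_eq_self c9))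
  have := e.isSimpleGroup
  have d1 : Nat.card (K.comap ι) = 443520 := (Nat.card_congr e.toEquiv).trans c5
  obtain ⟨g, hg⟩ := exists_ne (1 : K.comap ι)
  obtain ⟨c, hc⟩ := H.t2.exists_move (x := g) fun e => hg (Subtype.ext e)
  have d2 := H45.EX.isoM22_of hα hB (G := K.comap ι) (fun g => hG g) d1 hc
  have d3 := (K.comap ι).index_mul_card
  have d4 := ι.range.index_ne_zero_of_finite
  rw [c7, c2] at c6
  rw [d1] at d3
  rcases (by omega : ι.range.index = 1 ∨ ι.range.index = 2) with e | e <;> rw [e] at c6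
  · exact .inr ⟨_, by omega, d2⟩
  · rw [index_eq_one.1 (show (K.comap ι).index = 1 by omega)] at d2
    exact .inl (d2.elim fun f => ⟨topEquiv.symm.trans f⟩)

end H73.HP
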