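import Cfsg.Agent.H80.KFHeB
import Cfsg.Agent.H85.E2
import Cfsg.Agent.H56.OutGrp
import Cfsg.Agent.S2075

/-! D8-IHe, part 1: the outer involutions of `Aut(He)` are conjugate to the symmetry `f ↔ g` of the
presentation.  Letters of `H80.KFHe.LS`: `8, …, 14` are the generators, `25, …, 34` generate a Sylow
`2`-subgroup. -/

set_option autoImplicit false
set_option maxRecDepth 1000000
set_option Elab.async false

namespace H73.IHe

open H71 H81 H88 H80.KFHe Cfsg.Spor Subgroup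

local notation "TS" => H80.KFHe.ST

theorem vmem (l : ℕ) : vL LS l ∈ (H71.He.ρ).range := by
  rcases Nat.lt_or_ge l LS.length with h | h
  · exact (hLS.nthD h).2.1
  · rw [vL, nthD_eq, List.getD_eq_default _ _ h]; exact one_mem _

/-- the element of `He` given by a letter. -/
noncomputable def el (l : ℕ) : He := (vmem l).choose

theorem ρ_el (l : ℕ) : H71.He.ρ (el l) = vL LS l := (vmem l).choose_spec

theorem ρ_ev (w : List ℕ) : H71.He.ρ (evw el w) = evw (vL LS) w := by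
  rw [map_evw]; simp only [ρ_el]

theorem eqH {s t : List ℕ} (e : eqI LS [13,1338,698,0] s t = true) : evw el s = evw el t :=
  H71.He.inj (by rw [ρ_ev, ρ_ev]; exact of_eqI base hLS e)

theorem neH {s t : List ℕ} (e : anyM (mvI 2560 LS s t) [13,1338,698,0] = true) :
    evw el s ≠ evw el t := fun h => by
  obtain ⟨p, -, e⟩ := of_anyM e
  exact of_mvI hLS e (by rw [← ρ_ev, h, ρ_ev])

def code' : He.Gen → ℕ
  | .a => 4 | .b => 5 | .c => 6 | .d => 7 | .e => 8 | .f => 10 | .g => 9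

theorem rel' : ∀ r ∈ [8,9,10,9,10] :: [6,7,10,9,6,7,10,9,6,7,10,9,6,7,10,9] :: HeM.R,
    evw H71.He.val r = 1 :=
  List.forall_mem_cons.2 ⟨H71.He.rel (by decide +kernel),
    List.forall_mem_cons.2 ⟨H71.He.rel (by decide +kernel), H71.He.sat.hR⟩⟩

noncomputable def σ0 : He →* He :=
  PresentedGroup.toGroup (f := fun x => H71.He.val (code' x))
    (cox_lift H71.He.hv code' rel' (by decide +kernel)
      (extra_lift H71.He.hv code' rel' (by decide +kernel)))

theorem σ0_of (x : He.Gen) : σ0 (.of x) = H71.He.val (code' x) := PresentedGroup.toGroup.of _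

theorem σ0_sq : σ0.comp σ0 = MonoidHom.id _ := PresentedGroup.ext fun x => by
  rw [MonoidHom.comp_apply, σ0_of]
  cases x <;> exact σ0_of _

/-- the symmetry `f ↔ g`. -/
noncomputable def σ : MulAut He := MonoidHom.toMulEquiv σ0 σ0 σ0_sq σ0_sq

theorem σ_sq (x : He) : σ (σ x) = x := DFunLike.congr_fun σ0_sq x

def sw (l : ℕ) : ℕ := if l = 13 then 14 else if l = 14 then 13 else l

def GS : List ℕ := [8,9,10,11,12,13,14]

theorem el_gen : ∀ l ∈ HeM.S, el (l + 4) = H71.He.val l := fun l hl => H71.He.inj (by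
  rw [ρ_el, H71.He.hρ]
  simp only [HeM.S, List.mem_cons, List.not_mem_nil, or_false] at hl
  rcases hl with rfl | rfl | rfl | rfl | rfl | rfl | rfl <;> rfl)

theorem σ_el : ∀ l ∈ GS, σ (el l) = el (sw l) := by
  have k : ∀ x, σ (el (H71.He.code x + 4)) = el (code' x + 4) := fun x => by
    rw [el_gen _ (by cases x <;> decide), el_gen _ (by cases x <;> decide), H71.He.hval]
    exact σ0_of x
  intro l hl
  simp only [GS, List.mem_cons, List.not_mem_nil, or_false] at hl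
  rcases hl with rfl | rfl | rfl | rfl | rfl | rfl | rfl
  exacts [k .a, k .b, k .c, k .d, k .e, k .f, k .g]

/-- all letters lie in the list. -/
noncomputable def inL (S w : List ℕ) : Bool := allM (fun l => H74.memL l S) w

theorem of_inL {S w : List ℕ} (h : inL S w = true) : ∀ l ∈ w, l ∈ S := fun l hl =>
  H74.of_memL (of_allM h l hl)

theorem σ_ev {w : List ℕ} (h : inL GS w = true) : σ (evw el w) = evw el (w.map sw) := by
  replace h := of_inL h
  induction w with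
  | nil => simp
  | cons l w ih => rw [List.map_cons, evw_cons, evw_cons, map_mul, σ_el l (h l (by simp)),
      ih fun m hm => h m (by simp [hm])]

def hw : List ℕ := [11,10,11,13,9,10,11,9,10,11,13,14,11,10,9,11,10,9,14,11,10,11]

def SG : List (List ℕ) := [[25],[30,31,26,27],[30,31,25],[29,30,27,25],[30,26,28],[31,26,25],[31,26,27,25],[32],[34,29,28],
  [33,29,26,27,28,25]]

def WG : List (List ℕ) := [[13,11,12,11,10,11,13,11,12,9,10,11,10,11,8,9,10,11,10,9,8,11,10,11,10,9,12,11,13,11,10,11,12,11,13],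
  [13,11,12,11,10,11,10,8,9,8,10,11,10,11,12,11,13,13,11,14,11,13,10,11,12,9,10,11,10,9,10,11,10,9,12,11,10,13,11,14,11,13],
  [14,11,10,11,12,10,11,14,13,11,10,11,14,9,10,11,10,9,14,11,10,11,13,14,11,10,12,11,10,11,14],
  [9,10,11,10,11,14,11,13,9,10,11,10,11,10,9,13,11,14,11,10,11,10,9,13,12,11,9,10,11,13,10,11,9,10,11,10,11,10,9,11,10,13,11,10,9,11,12,13],
  [11,14,12,11,10,11,14,9,10,11,10,9,10,11,10,9,14,11,10,11,12,14,11,13,12,11,9,10,11,13,10,11,9,10,11,10,11,10,9,11,10,13,11,10,9,11,12,13],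
  [13,11,14,11,13,10,11,12,9,10,11,10,9,10,11,10,9,12,11,10,13,11,14,11,13,11,10,11,13,9,10,11,10,11,10,9,13,11,10,11],
  [13,12,11,14,13,10,11,10,11,14,8,9,10,11,10,11,10,9,8,14,11,10,11,10,13,14,11,12,13],
  [13,10,11,9,10,11,14,8,9,10,11,10,11,10,9,8,14,11,10,9,11,10,13],
  [9,10,11,10,11,14,11,13,9,10,11,10,11,10,9,13,11,14,11,10,11,10,9,13,10,11,12,9,10,11,14,11,9,10,11,10,9,11,14,11,10,9,12,11,10,13],
  [11,10,11,13,9,10,11,10,11,10,9,13,11,10,11,11,14,13,11,9,10,11,13,9,10,11,10,11,13,9,10,11,10,9,13,11,10,11,10,9,13,11,10,9,11,13,14,11]]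

/-- the image of a letter of the Sylow subgroup. -/
def sg (l : ℕ) : List ℕ := nthD SG [] (l - 25)

/-- the outer involution normalizing the Sylow subgroup. -/
noncomputable def τ : MulAut He := MulAut.conj (evw el hw) * σ

theorem τ_apply (x : He) : τ x = evw el hw * σ x * (evw el hw)⁻¹ := rfl

theorem τ_sq : τ * τ = 1 := MulEquiv.ext fun x => by
  have h : evw el (hw ++ hw.map sw) = evw el [] := eqH (by decide +kernel)
  rw [evw_append, ← σ_ev (by decide +kernel), evw_nil] at h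
  rw [MulAut.mul_apply, τ_apply, τ_apply, map_mul, map_mul, map_inv, σ_sq, MulAut.one_apply,
    eq_inv_of_mul_eq_one_right h]
  group

theorem τ_el : ∀ l ∈ TS, τ (el l) = evw el (sg l) ∧ ∀ m ∈ sg l, m ∈ TS := fun l hl => by
  have h : allM (fun l => band (band (inL GS (nthD WG [] (l - 25))) (inL TS (sg l)))
    (band (eqI LS [13,1338,698,0] [l] (nthD WG [] (l - 25))) (eqI LS [13,1338,698,0]
      (hw ++ (nthD WG [] (l - 25)).map sw) (sg l ++ hw)))) TS = true := by decide +kernel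
  have h := of_allM h l hl
  simp only [band_iff] at h
  obtain ⟨⟨h1, h2⟩, h3, h4⟩ := h
  have h3 := eqH h3
  have h4 := eqH h4
  rw [evw_cons, evw_nil, mul_one] at h3
  rw [evw_append, evw_append, ← σ_ev h1, ← h3] at h4
  exact ⟨by rw [τ_apply, h4, mul_inv_cancel_right], of_inL h2⟩

theorem τ_ev {w : List ℕ} (h : ∀ l ∈ w, l ∈ TS) : τ (evw el w) = evw el (w.flatMap sg) := by
  induction w with
  | nil => simp
  | cons l w ih => rw [List.flatMap_cons, evw_cons, evw_append, map_mul, (τ_el l (h l (by simp))).1,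
      ih fun m hm => h m (by simp [hm])]

/-- `x` does not induce `τ`; if `x τ` is an involution then it is conjugate to `σ`. -/
def Q (x : He) : Prop := x * el 33 ≠ τ (el 33) * x ∧
  (x * τ x = 1 → ∃ u, x * evw el hw * σ u = u)

noncomputable def chk (w u : List ℕ) : Bool :=
  band (band (inL TS w) (anyM (mvI 2560 LS (app w [33]) (app (sg 33) w)) [13,1338,698,0]))
    (List.rec (motive := fun _ => Bool)
      (anyM (mvI 2560 LS (app w (w.flatMap sg)) []) [13,1338,698,0])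
      (fun _ _ _ => band (inL GS u) (eqI LS [13,1338,698,0] (app w (app hw (u.map sw))) u)) u)

theorem of_chk {l c : List (List ℕ)} (e : allZ chk l c = true) : ∀ w ∈ l, Q (evw el w) := by
  intro w hw'
  obtain ⟨u, e⟩ := of_allZ e w hw'
  obtain ⟨e1, e3⟩ := band_iff.1 e
  obtain ⟨e1, e2⟩ := band_iff.1 e1
  have e2 := neH e2
  rw [app_eq, app_eq, evw_append, evw_append, evw_cons, evw_nil, mul_one,
    ← (τ_el 33 (by decide)).1] at e2
  refine ⟨e2, fun h => ?_⟩
  rcases u with _ | ⟨a, u⟩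
  · refine absurd ?_ (neH e3)
    rw [app_eq, evw_append, ← τ_ev (of_inL e1), h, evw_nil]
  · obtain ⟨e3, e4⟩ := band_iff.1 e3
    have e4 := eqH e4
    rw [app_eq, app_eq, evw_append, evw_append, ← σ_ev e3, ← mul_assoc] at e4
    exact ⟨_, e4⟩

theorem c0 : allZ chk (mapApp [] (prods [AT1, AT2, AT3]) []) [[11,10,11,13,9,10,11,9,10,11,13],[11,14,9,10,11,13,12,11,9,10,11,12,9,10,11,14,10,11,13],[],[],
  [],[],[],[],[],[],[],[],[13,11,12,11,10,11,13,8,9,10,11,10,11,9,10,11,13],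
  [11,13,14,9,10,11,8,9,10,11,9,10,11,14,13],[],[],[],[],[],[],[],[],[],[],[],[],[],[],[],[],[],
  [],[],[],[],[],[],[],[],[],[],[],[],[],[],[],[],[],[],[],[],[],[],[],[],[],[],[],[],[],[],[],[],
  [],[],[],[],[],[14,11,13,11,10,11,9,10,11,14,12,10,11,9,10,11,8,9,10,11,13],
  [13,10,11,10,11,9,10,11,14,11,12,11,10,11,9,10,11,14,13],
  [12,11,14,11,13,11,10,11,12,9,10,11,13,12,11,10,11,9,10,11,14],
  [9,10,11,13,11,14,10,11,10,11,9,10,11,13],[],[],[],[],[],[],[],[],[],[],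
  [13,12,11,10,11,8,9,10,11,13,11,9,10,11,9,10,11,13],
  [12,11,14,12,10,11,10,11,9,10,11,12,10,11,13],[],[],[],[],[],[],[],[],[],[],
  [11,14,11,9,10,11,12,10,11,8,9,10,11,13,10,11,14],
  [13,11,14,11,10,11,9,10,11,14,11,12,11,10,11,13,9,10,11,14],[],[],[],[],[],[],[],[],
  [11,13,14,11,9,10,11,10,11,9,10,11,10,11,14,13,11,9,10,11,14],
  [13,10,11,12,9,10,11,13,9,10,11,14,10,11,9,10,11,13],
  [9,10,11,14,10,11,10,11,9,10,11,13,9,10,11,9,10,11,13],
  [13,10,11,10,11,9,10,11,14,12,11,13,10,11,14,9,10,11,13],[],[],[],[],[],[],[],[],[],[],[],[],[],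
  [],[],[],[],[],[],[]] = true := by
  decide +kernel

theorem c1 : allZ chk (mapApp [34] (prods [AT1, AT2, AT3]) []) [[],[],[],[],[],[],[],[],[],[],[],[],[],[],[],[],[],[],[],[],[],[],[],[],[],[],[],[],[],[],[],[],
  [],[],[],[],[],[],[],[],[],[],[],[],[],[],[],[],[],[],[],[],[],[],[],[],[],[],[],[],[],[],[],[],
  [],[],[],[],[],[],[],[],[],[],[],[],[],[],[],[],[],[],[],[],[],[],[],[],[],[],[],[],[],[],[],[],
  [],[],[],[],[],[],[],[],[],[],[],[],[],[],[],[],[],[],[],[],[],[],[],[],[],[],[],[],[],[],[],[]] = true := by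
  decide +kernel

theorem c2 : allZ chk (mapApp [33] (prods [AT1, AT2, AT3]) []) [[],[],[],[],[],[],[],[],[],[],[],[],[],[],[],[],[],[],[],[],[],[],[],[],[],[],[],[],[],[],[],[],
  [],[],[],[],[],[],[],[],[],[],[],[],[],[],[],[],[],[],[],[],[],[],[],[],[],[],[],[],[],[],[],[],
  [],[],[],[],[],[],[],[],[],[],[],[],[],[],[],[],[],[],[],[],[],[],[],[],[],[],[],[],[],[],[],[],
  [],[],[],[],[],[],[],[],[],[],[],[],[],[],[],[],[],[],[],[],[],[],[],[],[],[],[],[],[],[],[],[]] = true := by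
  decide +kernel

theorem c3 : allZ chk (mapApp [32] (prods [AT1, AT2, AT3]) []) [[14,11,10,11,12,11,9,10,11,13,11,10,11,9,10,11,14,12,11,13],
  [9,10,11,13,10,11,14,12,9,10,11,13,10,11,14,9,10,11,13],[],[],[],[],[],[],[],[],[],[],
  [13,10,11,10,11,13,11,14,10,11,9,10,11,13],[11,13,12,10,11,14,8,9,10,11,10,11,9,10,11,14,13],[],
  [],[],[],[],[],[],[],[],[],[],[],[],[],[],[],[],[],[],[],[],[],[],[],[],[],[],[],[],[],[],[],[],
  [],[],[],[],[],[],[],[],[],[],[],[],[],[],[],[],[],[],[],[],[],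
  [11,13,10,11,14,10,11,9,10,11,14,13,11,12,9,10,11,9,10,11,13],
  [12,11,13,10,11,9,10,11,13,14,11,13,12,11,10,11,9,10,11,14],
  [13,11,14,13,10,11,10,11,9,10,11,9,10,11,14,11,10,11,9,10,11,13],
  [11,13,9,10,11,12,9,10,11,9,10,11,14,13],[],[],[],[],[],[],[],[],[],[],[],[],[],[],[],[],
  [10,11,9,10,11,14,10,11,12,11,10,11,13,9,10,11,14],
  [11,10,11,12,10,11,9,10,11,14,10,11,9,10,11,14],
  [14,10,11,13,14,9,10,11,10,11,9,10,11,14,9,10,11,10,11,13],
  [11,14,10,11,9,10,11,14,11,9,10,11,13],[],[],[],[],[],[],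
  [12,10,11,13,11,10,11,9,10,11,13,12,11,14,10,11,8,9,10,11,13],
  [14,11,10,11,13,10,11,9,10,11,9,10,11,14,13],[],[],[],[],[],[],[],[],[],[],
  [11,9,10,11,13,11,14,11,9,10,11,9,10,11,13],
  [11,13,14,10,11,9,10,11,10,11,13,11,14,10,11,9,10,11,14],[],[],[],[],[],[],[],[],[],[],[],[],[],
  [],[],[]] = true := by
  decide +kernel

theorem c4 : allZ chk (mapApp [33,34] (prods [AT1, AT2, AT3]) []) [[12,11,14,12,10,11,13,8,9,10,11,9,10,11,13],[9,10,11,12,11,10,11,13,11,10,11,9,10,11,13],[],[],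
  [],[],[9,10,11,14,13,11,10,11,13,8,9,10,11,10,11,14,13],
  [13,11,14,13,11,10,11,9,10,11,14,13,11,9,10,11,9,10,11,13],[],[],[],[],[],[],[],[],
  [11,10,11,13,12,9,10,11,10,11,9,10,11,13],
  [11,12,11,10,11,13,10,11,14,9,10,11,13,12,10,11,8,9,10,11,13],[],[],[],[],
  [14,12,11,8,9,10,11,9,10,11,14,13,11,10,11,9,10,11,13],
  [13,10,11,9,10,11,14,12,11,8,9,10,11,9,10,11,14,13],[],[],[],[],[],[],[],[],[],[],[],[],
  [10,11,13,11,10,11,8,9,10,11,9,10,11,14,13],
  [12,11,9,10,11,14,13,11,9,10,11,13,14,11,10,11,9,10,11,14],[],[],[],[],[],[],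
  [14,12,11,13,14,9,10,11,13,9,10,11,14,10,11,9,10,11,14],
  [11,10,11,13,12,11,8,9,10,11,9,10,11,13],[],[],[],[],[],[],[],[],[],[],[],[],[],[],[],[],[],[],
  [],[],[],[],[14,11,13,9,10,11,10,11,9,10,11,8,9,10,11,14,13],
  [13,14,11,10,11,9,10,11,14,9,10,11,12,10,11,14,9,10,11,13],[],[],[],[],[],[],
  [10,11,13,11,10,11,14,9,10,11,12,10,11,13,10,11,8,9,10,11,13],
  [9,10,11,9,10,11,12,9,10,11,14,13,11,10,11,8,9,10,11,13],[],[],[],[],[],[],[],[],[],[],[],[],[],
  [],[],[],[],[],[],[],[],[],[],[],[],[],[],[],[],[],[],[],[],[],[],[],[],[],[],[],[],[],[],[],[],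
  [],[],[],[],[]] = true := by
  decide +kernel

theorem c5 : allZ chk (mapApp [32,34] (prods [AT1, AT2, AT3]) []) [[],[],[],[],[],[],[],[],[],[],[],[],[],[],[],[],[],[],[],[],[],[],[],[],[],[],[],[],[],[],[],[],
  [],[],[],[],[],[],[],[],[],[],[],[],[],[],[],[],[],[],[],[],[],[],[],[],[],[],[],[],[],[],[],[],
  [],[],[],[],[],[],[],[],[],[],[],[],[],[],[],[],[],[],[],[],[],[],[],[],[],[],[],[],[],[],[],[],
  [],[],[],[],[],[],[],[],[],[],[],[],[],[],[],[],[],[],[],[],[],[],[],[],[],[],[],[],[],[],[],[]] = true := by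
  decide +kernel

theorem c6 : allZ chk (mapApp [34,33] (prods [AT1, AT2, AT3]) []) [[],[],[],[],[10,11,13,10,11,14,9,10,11,8,9,10,11,13,10,11,9,10,11,13],
  [11,13,8,9,10,11,14,10,11,9,10,11,8,9,10,11,14,13],[],[],[],[],[],[],
  [14,9,10,11,10,11,13,12,11,9,10,11,14,10,11,13,9,10,11,14],
  [14,9,10,11,8,9,10,11,14,13,11,14,9,10,11,10,11,9,10,11,13],[],[],
  [10,11,13,11,10,11,14,12,10,11,8,9,10,11,13],
  [10,11,13,10,11,10,11,9,10,11,10,11,13,14,11,9,10,11,13],[],[],[],[],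
  [10,11,9,10,11,9,10,11,9,10,11,13,11,10,11,14,8,9,10,11,13],
  [11,12,9,10,11,10,11,14,10,11,9,10,11,9,10,11,13],[],[],[],[],[],[],[],[],[],[],[],[],
  [13,14,11,10,11,9,10,11,13,10,11,8,9,10,11,13],
  [13,14,11,9,10,11,12,10,11,9,10,11,13,10,11,14,8,9,10,11,13],[],[],[],[],[],[],
  [12,11,14,9,10,11,10,11,9,10,11,9,10,11,9,10,11,13],
  [11,14,11,10,11,13,14,9,10,11,12,10,11,9,10,11,9,10,11,14],[],[],[],[],[],[],[],[],[],[],[],[],
  [],[],[],[],[],[],[11,14,11,10,11,8,9,10,11,14,9,10,11,10,11,13],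
  [11,13,11,10,11,12,9,10,11,13,12,11,14,10,11,9,10,11,13],[],[],[],[],
  [14,12,11,13,12,11,14,10,11,13,12,11,10,11,9,10,11,14],
  [11,13,11,14,11,10,11,13,11,9,10,11,14,9,10,11,9,10,11,14],[],[],[],[],[],[],[],[],[],[],[],[],
  [],[],[],[],[],[],[],[],[],[],[],[],[],[],[],[],[],[],[],[],[],[],[],[],[],[],[],[],[],[],[],[],
  [],[],[],[],[],[],[],[],[],[],[],[]] = true := by
  decide +kernel

theorem c7 : allZ chk (mapApp [32,33] (prods [AT1, AT2, AT3]) []) [[],[],[],[],[],[],[],[],[],[],[],[],[],[],[],[],[],[],[],[],[],[],[],[],[],[],[],[],[],[],[],[],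
  [],[],[],[],[],[],[],[],[],[],[],[],[],[],[],[],[],[],[],[],[],[],[],[],[],[],[],[],[],[],[],[],
  [],[],[],[],[],[],[],[],[],[],[],[],[],[],[],[],[],[],[],[],[],[],[],[],[],[],[],[],[],[],[],[],
  [],[],[],[],[],[],[],[],[],[],[],[],[],[],[],[],[],[],[],[],[],[],[],[],[],[],[],[],[],[],[],[]] = true := by
  decide +kernel

theorem allQ : ∀ x ∈ gen el TS, Q x :=
  all_of_chunks (fun e he => H71.He.inj (by rw [ρ_ev, ρ_ev]; exact rCT e he)) oCT
    (List.forall_mem_cons.2 ⟨of_chk c0, List.forall_mem_cons.2 ⟨of_chk c1, List.forall_mem_cons.2 ⟨of_chk c2, List.forall_mem_cons.2 ⟨of_chk c3, List.forall_mem_cons.2 ⟨of_chk c4, List.forall_mem_cons.2 ⟨of_chk c5, List.forall_mem_cons.2 ⟨of_chk c6, List.forall_mem_cons.2 ⟨of_chk c7, fun _ h => absurd h List.not_mem_nil⟩⟩⟩⟩⟩⟩⟩⟩)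

theorem card_T : Nat.card (gen el TS) = 2 ^ 10 :=
  (card_of_map H71.He.inj (map_gen _ fun l _ => ρ_el l)).trans cardT

theorem center_bot : center He = ⊥ :=
  (H71.He.simple.eq_bot_or_eq_top_of_normal _ inferInstance).resolve_right fun h =>
    (allQ 1 (one_mem _)).1 (by
      have k : ∀ x y : He, x * y = y * x := fun x y => mem_center_iff.1 (h ▸ mem_top y) x
      have e : evw el [13, 11, 13, 11] ≠ evw el [] := neH (by decide +kernel)
      have e2 : evw el [13, 13, 11, 11] = evw el [] := eqH (by decide +kernel)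
      simp only [evw_cons, evw_nil, mul_one] at e e2
      exact absurd (by rw [← e2, ← mul_assoc (el 11), k (el 11), mul_assoc]) e)

theorem conj_inj : Function.Injective (MulAut.conj : He →* MulAut He) :=
  (injective_iff_map_eq_one _).2 fun g hg => mem_bot.1 (center_bot ▸ mem_center_iff.2 fun x =>
    (mul_inv_eq_iff_eq_mul.1 (DFunLike.congr_fun hg x)).symm)

/-- An outer involution of `Aut(He)` is conjugate to `σ`. -/
theorem key (α : MulAut He) (h2 : α * α = 1) (hα : α ∉ Cfsg.Inn He) :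
    ∃ c : MulAut He, ∀ y, σ y = y → α (c y) = c y := by
  haveI : Finite (MulAut He) := Finite.of_injective _ DFunLike.coe_injective
  set P := (gen el TS).map (MulAut.conj : He →* MulAut He) with hP
  have cj : ∀ (β : MulAut He) (x : He), β * MulAut.conj x * β⁻¹ = MulAut.conj (β x) :=
    fun β x => MulEquiv.ext fun y => by simp
  have hn : τ ∈ normalizer (P : Set (MulAut He)) := mem_normalizer_fintype (by
    rintro _ ⟨x, hx, rfl⟩
    refine ⟨τ x, ?_, (cj τ x).symm⟩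
    exact (gen_le (B := (gen el TS).comap τ.toMonoidHom) fun l hl => by
      show τ (el l) ∈ gen el TS
      rw [(τ_el l hl).1]; exact evw_mem fun m hm => mem_gen _ ((τ_el l hl).2 m hm)) hx)
  have ho : τ ∉ P := by
    rintro ⟨x, hx, e⟩
    exact (allQ x hx).1 (by rw [← e]; simp)
  have hc := H85.card_sup_zpowers_two (τ_sq ▸ one_mem P) hn ho
  rw [← card_of_map conj_inj hP.symm, card_T, ← pow_succ'] at hc
  obtain ⟨c, -, h⟩ := conj_into (B := ⊤) le_top Nat.prime_two hc (by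
    rw [card_top, H56.card_mulAut_eq _ center_bot, Cfsg.Agent.S2075.result, H71.He.card]
    norm_num) (mem_top α) (by rw [pow_two, h2])
  obtain ⟨_, ⟨x, hx, rfl⟩, b, hb, e⟩ := (H7.mem_sup_iff_of_le_normalizer (zpowers_le.2 hn)).1 h
  rcases (H85.mem_zpowers_of_sq τ_sq).1 hb with rfl | rfl
  · refine absurd ?_ hα
    have := (Cfsg.innNormal He).conj_mem _ ⟨x, rfl⟩ c⁻¹
    rw [mul_one] at e
    rwa [← e, show c⁻¹ * (c * α * c⁻¹) * c⁻¹⁻¹ = α by group] at this
  · have e2 : MulAut.conj (x * τ x) = MulAut.conj (1 : He) := by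
      rw [map_mul, ← cj, map_one, inv_eq_of_mul_eq_one_right τ_sq, ← mul_assoc, ← mul_assoc,
        mul_assoc (_ * τ), ← e]
      rw [show c * α * c⁻¹ * (c * α * c⁻¹) = c * (α * α) * c⁻¹ by group, h2]; simp
    obtain ⟨u, hu⟩ := (allQ x hx).2 (conj_inj e2)
    refine ⟨c⁻¹ * MulAut.conj u, fun y hy => c.injective ?_⟩
    have e3 : (c * α * c⁻¹) (u * y * u⁻¹) = x * τ (u * y * u⁻¹) * x⁻¹ := by rw [e]; rfl
    show (c * α * c⁻¹) (u * y * u⁻¹) = (c * c⁻¹) (u * y * u⁻¹)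
    rw [e3, mul_inv_cancel, MulAut.one_apply, τ_apply, map_mul, map_mul, map_inv, hy]
    conv_rhs => rw [← hu]
    group

end H73.IHe
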