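import Cfsg.Agent.H73.J4B
/-! Kernel checks. -/
set_option maxRecDepth 1000000
set_option Elab.async false
set_option linter.unusedVariables false
namespace H73.J4T
open H71 (Tr nth evw linv gen maskL winv mkRule Sat)
theorem b_env : envOK (mul2 112) (ones (Nat.succ 112) 112) 12544 CB (2 * 1) 4 = true := by decide +kernel
theorem b_rel0 : relsE (mul2 112) 12544 CB 2 (maskL LB) J4s.R 0 [((.l 2),(.l 2)),((.l 0),(.s (.l 1))),((.l 2),(.m (.m (.m (.l 1) (.s (.m (.l 2) (.l 1)))) (.s (.s (.m (.l 2) (.l 1))))) (.s (.s (.s (.s (.m (.l 2) (.l 1)))))))),((.l 2),(.m (.m (.l 1) (.s (.s (.s (.m (.m (.l 2) (.l 0)) (.m (.l 2) (.l 1))))))) (.m (.s (.m (.m (.l 2) (.l 0)) (.m (.l 2) (.l 1)))) (.m (.m (.m (.l 2) (.l 0)) (.m (.l 2) (.l 1))) (.m (.l 2) (.l 0)))))),((.l 2),(.m (.m (.l 1) (.m (.l 2) (.l 1))) (.m (.s (.m (.m (.m (.l 2) (.l 0)) (.m (.m (.l 2) (.l 0))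 (.m (.l 2) (.l 1)))) (.m (.l 2) (.l 1)))) (.m (.s (.m (.m (.m (.l 2) (.l 0)) (.m (.m (.l 2) (.l 0)) (.m (.l 2) (.l 1)))) (.m (.l 2) (.l 1)))) (.s (.m (.l 2) (.l 0))))))),((.m (.s (.m (.m (.m (.l 2) (.l 0)) (.m (.m (.l 2) (.l 0)) (.m (.l 2) (.l 1)))) (.s (.m (.m (.l 2) (.l 0)) (.m (.l 2) (.l 1)))))) (.m (.m (.m (.m (.l 2) (.l 0)) (.m (.m (.l 2) (.l 0)) (.m (.l 2) (.l 1)))) (.s (.m (.m (.l 2) (.l 0)) (.m (.l 2) (.l 1))))) (.l 2))),(.m (.m (.l 0) (.m (.l 2) (.l 1))) (.m (.s (.m (.m (.l 2) (.l 0)) (.m (.l 2) (.l 1)))) (.m (.l 2) (.l 1))))),((.m (.s (.m (.m (.l 2) (.l 0)) (.m (.m (.l 2) (.l 0)) (.m (.l 2) (.l 1))))) (.m (.m (.l 2) (.l 0)) (.m (.m (.l 2) (.l 0)) (.m (.l 2) (.l 1))))),(.m (.m (.l 0) (.m (.m (.l 2) (.l 0)) (.m (.l 2) (.l 1)))) (.m (.s (.m (.m (.l 2) (.l 0)) (.m (.m (.l 2) (.l 0)) (.m (.l 2) (.l 1))))) (.l 2)))),((.l 3),(.l 3)),((.m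 (.l 3) (.m (.m (.l 1) (.s (.m (.l 2) (.l 1)))) (.m (.m (.m (.l 2) (.l 0)) (.m (.m (.l 2) (.l 0)) (.m (.l 2) (.l 1)))) (.m (.l 2) (.l 1))))),(.m (.m (.m (.l 1) (.s (.m (.l 2) (.l 1)))) (.m (.m (.m (.l 2) (.l 0)) (.m (.m (.l 2) (.l 0)) (.m (.l 2) (.l 1)))) (.m (.l 2) (.l 1)))) (.l 3))),((.l 3),(.m (.m (.l 2) (.l 3)) (.l 2))),((.l 0),(.m (.s (.m (.m (.m (.m (.s (.m (.m (.l 2) (.l 0)) (.m (.l 2) (.l 1)))) (.l 3)) (.m (.l 0) (.m (.l 2) (.l 1)))) (.m (.m (.l 2) (.l 0)) (.m (.l 2) (.l 1)))) (.m (.l 2) (.l 1)))) (.m (.m (.m (.m (.s (.m (.m (.l 2) (.l 0)) (.m (.l 2) (.l 1)))) (.l 3)) (.m (.l 0) (.m (.l 2) (.l 1)))) (.m (.m (.l 2) (.l 0)) (.m (.l 2) (.l 1)))) (.l 2)))),((.m (.m (.m (.s (.m (.m (.l 0) (.s (.m (.l 2) (.l 0)))) (.m (.l 2) (.l 0)))) (.m (.m (.l 0) (.s (.m (.l 2) (.l 0)))) (.m (.l 2) (.l 0)))) (.l 3)) (.m (.m (.m (.m (.m (.m (.m (.m (.m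 (.m (.l 1) (.m (.m (.l 1) (.s (.m (.l 2) (.l 1)))) (.s (.s (.m (.l 2) (.l 1)))))) (.m (.l 1) (.s (.m (.l 2) (.l 1))))) (.m (.l 2) (.l 3))) (.s (.m (.l 2) (.l 0)))) (.m (.l 2) (.l 0))) (.m (.l 0) (.s (.m (.l 2) (.l 0))))) (.s (.m (.l 2) (.l 0)))) (.s (.m (.l 2) (.l 0)))) (.l 0)) (.m (.m (.s (.m (.m (.l 0) (.s (.m (.l 2) (.l 0)))) (.m (.l 2) (.l 0)))) (.m (.m (.l 0) (.s (.m (.l 2) (.l 0)))) (.m (.l 2) (.l 0)))) (.l 3)))),(.m (.m (.m (.m (.m (.m (.m (.m (.m (.l 1) (.m (.m (.l 1) (.s (.m (.l 2) (.l 1)))) (.s (.s (.m (.l 2) (.l 1)))))) (.m (.l 1) (.s (.m (.l 2) (.l 1))))) (.m (.l 2) (.l 3))) (.s (.m (.l 2) (.l 0)))) (.m (.l 2) (.l 0))) (.m (.l 0) (.s (.m (.l 2) (.l 0))))) (.s (.m (.l 2) (.l 0)))) (.s (.m (.l 2) (.l 0)))) (.l 0)))] = true := by decide +kernel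
theorem b_E : Nat.beq ((mul2 112) E E) E = true := by decide +kernel
theorem b_stab : stabL (mul2 112) 12544 CB E [0,1,2] = true := by decide +kernel
theorem b_mov : movesE (mul2 112) (ones (Nat.succ 112) 112) 12544 CB (maskL LB) E 1 LV 20 uw = true := by decide +kernel
theorem b_ord0a : ordE (mul2 112) (ones (Nat.succ 112) 112) 12544 CB (maskL LB) (.m (.m (.l 1) (.m (.l 2) (.l 1))) (.m (.l 3) (.m (.l 0) (.l 3)))) [true,false,true,false,false,true] = true := by decide +kernel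
theorem b_ord0b : ordE (mul2 112) (ones (Nat.succ 112) 112) 12544 CB (maskL LB) (.m (.m (.l 3) (.l 1)) (.m (.l 3) (.s (.m (.l 0) (.l 2))))) [true,false,true,false,false,true] = true := by decide +kernel
theorem b_ord1a : ordE (mul2 112) (ones (Nat.succ 112) 112) 12544 CB (maskL LB) (.m (.l 1) (.m (.l 3) (.l 2))) [true,false,true,false,false,true] = true := by decide +kernel
theorem b_ord1b : ordE (mul2 112) (ones (Nat.succ 112) 112) 12544 CB (maskL LB) (.m (.m (.l 2) (.l 3)) (.s (.l 0))) [true,false,true,false,false,true] = true := by decide +kernel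
theorem b_ord2b : ordE (mul2 112) (ones (Nat.succ 112) 112) 12544 CB (maskL LB) (.m (.l 1) (.m (.l 2) (.l 3))) [true,false,true,false,false,true] = true := by decide +kernel
theorem b_W : stabW (mul2 112) (ones (Nat.succ 112) 112) 12544 CB (maskL LB) E [[2],[0],[1],W0,W0i] = true := by decide +kernel
theorem b_E2 : Nat.beq ((mul2 112) E2 E2) E2 = true := by decide +kernel
theorem b_stab2 : stabL (mul2 112) 12544 CB E2 [0,1,2] = true := by decide +kernel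
theorem b_span : spanOK (mul2 112) (ones (Nat.succ 112) 112) 12544 CB (maskL LB) SpB SpBi 112 tr = true := by decide +kernel
theorem b_uw : stabW (mul2 112) (ones (Nat.succ 112) 112) 12544 CB (maskL LB) E [[3,0,2,1,2,1,2,0,2,1,2,0,2,1,2,0,2,1,2,0,2,0,3,0,2,1,3],[3,0,2,1,2,1,2,0,2,1,2,0,2,1,2,0,2,1,2,0,2,0,3,0,2,1,3,0,2,1,2,0,3,0,2,1,2,1,2,0,2,1,2,0,2,1,2,0,2,1,2,0,2,0,3,0,2,1,3]] = true := by decide +kernel
theorem b_mov2 : movesE (mul2 112) (ones (Nat.succ 112) 112) 12544 CB (maskL LB) E2 E2 LV2 4 uw2 = true := by decide +kernel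
end H73.J4T
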