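import Cfsg.Agent.H73.J4D
/-! Kernel checks. -/
set_option maxRecDepth 1000000
set_option Elab.async false
set_option linter.unusedVariables false
namespace H73.J4T
open H71 (Tr nth evw linv gen maskL winv mkRule Sat)
theorem c_env : envOK (mul2 24) (ones (Nat.succ 24) 24) 576 CV (2 * 1) 4 = true := by decide +kernel
theorem c_relC : relsOne (mul2 24) (ones (Nat.succ 24) 24) 576 CV (maskL LL) (J4s.R.take 7) = true := by decide +kernel
theorem c_wa : wordsL (mul2 24) (ones (Nat.succ 24) 24) 576 CV (maskL LL) PA wa = true := by decide +kernel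
theorem c_wb : wordsL (mul2 24) (ones (Nat.succ 24) 24) 576 CV (maskL LL) PB wb = true := by decide +kernel
theorem c_conj : conjW 2 3 wa wb (([73728,65536] : List ℕ).map (mkRule 2 RR)) = true := by decide +kernel
theorem c_inv : band (beqL (mkRule 2 RR 57344) (3 :: ([] ++ 3 :: []))) (band (inM (maskL LL) []) (inM (maskL LL) [])) = true := by decide +kernel
theorem c_slpA0 : slpT (mul2 24) (ones (Nat.succ 24) 24) 576 PA 2722 23 PR 2 2720 = true := by decide +kernel
theorem c_sorted : sortedOK (canM (mul2 24) (ones (Nat.succ 24) 24)) 576 T 3795 = true := by decide +kernel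
theorem c_chain : chainOK (relC (mul2 24)) 576 PA 2722 576 T 3795 1 KC [] = true := by decide +kernel
theorem c_kfix : fixOK (relC (mul2 24)) 576 PA 2 be 4 KF = true := by decide +kernel
theorem c_rw : wordsL (mul2 24) (ones (Nat.succ 24) 24) 576 CV (maskL LL) RT RW = true := by decide +kernel
theorem c_rfix : fixOK (relC (mul2 24)) 576 RT 1 be 4 RF = true := by decide +kernel
theorem c_valid : validOK (mul2 24) (ones (Nat.succ 24) 24) 576 CV (maskL LL) dd.kA dd.VT dd.nv vw = true := by decide +kernel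
theorem c_defs : defsOK (mul2 24) (ones (Nat.succ 24) 24) 576 CV (maskL LL) 3 dd.VT dd.defs dw uw = true := by decide +kernel
theorem c_rels : relsOK (mul2 24) (spl (mul2 24) (ones (Nat.succ 24) 24) 576 CV 3 3 (evL (mul2 24) (ones (Nat.succ 24) 24) 576 CV []) (evL (mul2 24) (ones (Nat.succ 24) 24) 576 CV [])) (maskL (3 :: 3 :: LL)) (([57347,81940,90198,90282,90324,90156,82012] : List ℕ).map (mkRule 2 RR)) dd.rels = true := by decide +kernel
theorem c_subs : subsOK (spl (mul2 24) (ones (Nat.succ 24) 24) 576 CV 3 3 (evL (mul2 24) (ones (Nat.succ 24) 24) 576 CV []) (evL (mul2 24) (ones (Nat.succ 24) 24) 576 CV [])) (maskL (3 :: 3 :: LL)) subW dd.subs = true := by decide +kernel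
theorem c_dce0 : dd.chkRange TJ 0 1428 = true := by decide +kernel
theorem c_dce1 : dd.chkRange TJ 1428 1309 = true := by decide +kernel
theorem c_dce2 : dd.chkRange TJ 2737 1168 = true := by decide +kernel
theorem c_dce3 : dd.chkRange TJ 3905 418 = true := by decide +kernel
theorem c_for0_0 : forestOK (relC (mul2 24)) (labE 576 F ML0) (rIdx 9 RI0 3795) 576 T 19 Rc0 2 1 3795 41 1 0 119 = true := by decide +kernel
theorem c_lab0 : labsOK F 4323 (fld LV 0) ML0 2 = true := by decide +kernel
theorem c_root0_0 : rootsOK (relC (mul2 24)) (mul2 24) 576 F 4323 (fld LV 0) LV 20 be 576 T 3795 RT 1 9 RI0 1 ET0 0 1 = true := by decide +kernel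
theorem c_tot0 : Nat.beq (rowTot (eCol 1 ET0 1 20) 1 1099511627776 19 Rc0 2 1 3795 41) (nth tots 0 0) = true := by decide +kernel
theorem c_for1_0 : forestOK (relC (mul2 24)) (labE 576 F ML1) (rIdx 12 RI1 3795) 576 T 19 Rc1 2 1 3795 15 5 0 119 = true := by decide +kernel
theorem c_lab1 : labsOK F 4323 (fld LV 1) ML1 2 = true := by decide +kernel
theorem c_root1_0 : rootsOK (relC (mul2 24)) (mul2 24) 576 F 4323 (fld LV 1) LV 20 be 576 T 3795 RT 1 12 RI1 17 ET1 0 5 = true := by decide +kernel
theorem c_tot1 : Nat.beq (rowTot (eCol 17 ET1 1 20) 1 1099511627776 19 Rc1 2 1 3795 15) (nth tots 0 1) = true := by decide +kernel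
theorem c_for2_0 : forestOK (relC (mul2 24)) (labE 576 F ML2) (rIdx 12 RI2 3795) 576 T 22 Rc2 3 1 3795 11 20 0 119 = true := by decide +kernel
theorem c_lab2 : labsOK F 4323 (fld LV 2) ML2 3 = true := by decide +kernel
theorem c_root2_0 : rootsOK (relC (mul2 24)) (mul2 24) 576 F 4323 (fld LV 2) LV 20 be 576 T 3795 RT 1 12 RI2 16 ET2 0 20 = true := by decide +kernel
theorem c_tot2 : Nat.beq (rowTot (eCol 16 ET2 1 20) 1 1099511627776 22 Rc2 3 1 3795 11) (nth tots 0 2) = true := by decide +kernel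
theorem c_for3_0 : forestOK (relC (mul2 24)) (labE 576 F ML3) (rIdx 12 RI3 3795) 576 T 24 Rc3 3 1 3795 7 121 0 119 = true := by decide +kernel
theorem c_lab3 : labsOK F 4323 (fld LV 3) ML3 3 = true := by decide +kernel
theorem c_root3_0 : rootsOK (relC (mul2 24)) (mul2 24) 576 F 4323 (fld LV 3) LV 20 be 576 T 3795 RT 1 12 RI3 17 ET3 0 121 = true := by decide +kernel
theorem c_tot3 : Nat.beq (rowTot (eCol 17 ET3 1 20) 1 1099511627776 24 Rc3 3 1 3795 7) (nth tots 0 3) = true := by decide +kernel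
theorem c_for4_0 : forestOK (relC (mul2 24)) (labE 576 F ML4) (rIdx 12 RI4 3795) 576 T 22 Rc4 2 1 3795 11 31 0 119 = true := by decide +kernel
theorem c_lab4 : labsOK F 4323 (fld LV 4) ML4 2 = true := by decide +kernel
theorem c_root4_0 : rootsOK (relC (mul2 24)) (mul2 24) 576 F 4323 (fld LV 4) LV 20 be 576 T 3795 RT 1 12 RI4 17 ET4 0 31 = true := by decide +kernel
theorem c_tot4 : Nat.beq (rowTot (eCol 17 ET4 1 20) 1 1099511627776 22 Rc4 2 1 3795 11) (nth tots 0 4) = true := by decide +kernel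
theorem c_for5_0 : forestOK (relC (mul2 24)) (labE 576 F ML5) (rIdx 12 RI5 3795) 576 T 23 Rc5 3 1 3795 9 60 0 119 = true := by decide +kernel
theorem c_lab5 : labsOK F 4323 (fld LV 5) ML5 3 = true := by decide +kernel
theorem c_root5_0 : rootsOK (relC (mul2 24)) (mul2 24) 576 F 4323 (fld LV 5) LV 20 be 576 T 3795 RT 1 12 RI5 17 ET5 0 60 = true := by decide +kernel
theorem c_tot5 : Nat.beq (rowTot (eCol 17 ET5 1 20) 1 1099511627776 23 Rc5 3 1 3795 9) (nth tots 0 5) = true := by decide +kernel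
theorem c_for6_0 : forestOK (relC (mul2 24)) (labE 576 F ML6) (rIdx 12 RI6 3795) 576 T 25 Rc6 2 1 3795 2 1275 0 119 = true := by decide +kernel
theorem c_lab6 : labsOK F 4323 (fld LV 6) ML6 2 = true := by decide +kernel
end H73.J4T
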