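import Cfsg.Agent.H73.J4D
/-! Kernel checks. -/
set_option maxRecDepth 1000000
set_option Elab.async false
set_option linter.unusedVariables false
namespace H73.J4T
open H71 (Tr nth evw linv gen maskL winv mkRule Sat)
theorem c_root6_0 : rootsOK (relC (mul2 24)) (mul2 24) 576 F 4323 (fld LV 6) LV 20 be 576 T 3795 RT 1 12 RI6 17 ET6 0 1275 = true := by decide +kernel
theorem c_tot6 : Nat.beq (rowTot (eCol 17 ET6 1 20) 1 1099511627776 25 Rc6 2 1 3795 2) (nth tots 0 6) = true := by decide +kernel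
theorem c_for7_0 : forestOK (relC (mul2 24)) (labE 576 F ML7) (rIdx 12 RI7 3795) 576 T 24 Rc7 3 1 3795 5 287 0 119 = true := by decide +kernel
theorem c_lab7 : labsOK F 4323 (fld LV 7) ML7 3 = true := by decide +kernel
theorem c_root7_0 : rootsOK (relC (mul2 24)) (mul2 24) 576 F 4323 (fld LV 7) LV 20 be 576 T 3795 RT 1 12 RI7 17 ET7 0 287 = true := by decide +kernel
theorem c_tot7 : Nat.beq (rowTot (eCol 17 ET7 1 20) 1 1099511627776 24 Rc7 3 1 3795 5) (nth tots 0 7) = true := by decide +kernel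
theorem c_for8_0 : forestOK (relC (mul2 24)) (labE 576 F ML8) (rIdx 12 RI8 3795) 576 T 25 Rc8 2 1 3795 4 687 0 119 = true := by decide +kernel
theorem c_lab8 : labsOK F 4323 (fld LV 8) ML8 2 = true := by decide +kernel
theorem c_root8_0 : rootsOK (relC (mul2 24)) (mul2 24) 576 F 4323 (fld LV 8) LV 20 be 576 T 3795 RT 1 12 RI8 17 ET8 0 687 = true := by decide +kernel
theorem c_tot8 : Nat.beq (rowTot (eCol 17 ET8 1 20) 1 1099511627776 25 Rc8 2 1 3795 4) (nth tots 0 8) = true := by decide +kernel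
theorem c_for9_0 : forestOK (relC (mul2 24)) (labE 576 F ML9) (rIdx 12 RI9 3795) 576 T 22 Rc9 3 1 3795 10 31 0 119 = true := by decide +kernel
theorem c_lab9 : labsOK F 4323 (fld LV 9) ML9 3 = true := by decide +kernel
theorem c_root9_0 : rootsOK (relC (mul2 24)) (mul2 24) 576 F 4323 (fld LV 9) LV 20 be 576 T 3795 RT 1 12 RI9 17 ET9 0 31 = true := by decide +kernel
theorem c_tot9 : Nat.beq (rowTot (eCol 17 ET9 1 20) 1 1099511627776 22 Rc9 3 1 3795 10) (nth tots 0 9) = true := by decide +kernel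
theorem c_for10_0 : forestOK (relC (mul2 24)) (labE 576 F ML10) (rIdx 12 RI10 3795) 576 T 23 Rc10 2 1 3795 12 72 0 119 = true := by decide +kernel
theorem c_lab10 : labsOK F 4323 (fld LV 10) ML10 2 = true := by decide +kernel
theorem c_root10_0 : rootsOK (relC (mul2 24)) (mul2 24) 576 F 4323 (fld LV 10) LV 20 be 576 T 3795 RT 1 12 RI10 17 ET10 0 72 = true := by decide +kernel
theorem c_tot10 : Nat.beq (rowTot (eCol 17 ET10 1 20) 1 1099511627776 23 Rc10 2 1 3795 12) (nth tots 0 10) = true := by decide +kernel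
theorem c_for11_0 : forestOK (relC (mul2 24)) (labE 576 F ML11) (rIdx 12 RI11 3795) 576 T 24 Rc11 3 1 3795 7 167 0 119 = true := by decide +kernel
theorem c_lab11 : labsOK F 4323 (fld LV 11) ML11 3 = true := by decide +kernel
theorem c_root11_0 : rootsOK (relC (mul2 24)) (mul2 24) 576 F 4323 (fld LV 11) LV 20 be 576 T 3795 RT 1 12 RI11 17 ET11 0 167 = true := by decide +kernel
theorem c_tot11 : Nat.beq (rowTot (eCol 17 ET11 1 20) 1 1099511627776 24 Rc11 3 1 3795 7) (nth tots 0 11) = true := by decide +kernel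
theorem c_for12_0 : forestOK (relC (mul2 24)) (labE 576 F ML12) (rIdx 12 RI12 3795) 576 T 24 Rc12 2 1 3795 6 218 0 119 = true := by decide +kernel
theorem c_lab12 : labsOK F 4323 (fld LV 12) ML12 2 = true := by decide +kernel
theorem c_root12_0 : rootsOK (relC (mul2 24)) (mul2 24) 576 F 4323 (fld LV 12) LV 20 be 576 T 3795 RT 1 12 RI12 17 ET12 0 218 = true := by decide +kernel
theorem c_tot12 : Nat.beq (rowTot (eCol 17 ET12 1 20) 1 1099511627776 24 Rc12 2 1 3795 6) (nth tots 0 12) = true := by decide +kernel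
theorem c_for13_0 : forestOK (relC (mul2 24)) (labE 576 F ML13) (rIdx 12 RI13 3795) 576 T 22 Rc13 3 1 3795 13 18 0 119 = true := by decide +kernel
theorem c_lab13 : labsOK F 4323 (fld LV 13) ML13 3 = true := by decide +kernel
theorem c_root13_0 : rootsOK (relC (mul2 24)) (mul2 24) 576 F 4323 (fld LV 13) LV 20 be 576 T 3795 RT 1 12 RI13 17 ET13 0 18 = true := by decide +kernel
theorem c_tot13 : Nat.beq (rowTot (eCol 17 ET13 1 20) 1 1099511627776 22 Rc13 3 1 3795 13) (nth tots 0 13) = true := by decide +kernel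
theorem c_for14_0 : forestOK (relC (mul2 24)) (labE 576 F ML14) (rIdx 12 RI14 3795) 576 T 23 Rc14 3 1 3795 8 82 0 119 = true := by decide +kernel
theorem c_lab14 : labsOK F 4323 (fld LV 14) ML14 3 = true := by decide +kernel
theorem c_root14_0 : rootsOK (relC (mul2 24)) (mul2 24) 576 F 4323 (fld LV 14) LV 20 be 576 T 3795 RT 1 12 RI14 17 ET14 0 82 = true := by decide +kernel
theorem c_tot14 : Nat.beq (rowTot (eCol 17 ET14 1 20) 1 1099511627776 23 Rc14 3 1 3795 8) (nth tots 0 14) = true := by decide +kernel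
theorem c_for15_0 : forestOK (relC (mul2 24)) (labE 576 F ML15) (rIdx 12 RI15 3795) 576 T 21 Rc15 2 1 3795 11 15 0 119 = true := by decide +kernel
theorem c_lab15 : labsOK F 4323 (fld LV 15) ML15 2 = true := by decide +kernel
theorem c_root15_0 : rootsOK (relC (mul2 24)) (mul2 24) 576 F 4323 (fld LV 15) LV 20 be 576 T 3795 RT 1 12 RI15 17 ET15 0 15 = true := by decide +kernel
theorem c_tot15 : Nat.beq (rowTot (eCol 17 ET15 1 20) 1 1099511627776 21 Rc15 2 1 3795 11) (nth tots 0 15) = true := by decide +kernel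
theorem c_for16_0 : forestOK (relC (mul2 24)) (labE 576 F ML16) (rIdx 12 RI16 3795) 576 T 21 Rc16 3 1 3795 14 10 0 119 = true := by decide +kernel
theorem c_lab16 : labsOK F 4323 (fld LV 16) ML16 3 = true := by decide +kernel
theorem c_root16_0 : rootsOK (relC (mul2 24)) (mul2 24) 576 F 4323 (fld LV 16) LV 20 be 576 T 3795 RT 1 12 RI16 17 ET16 0 10 = true := by decide +kernel
theorem c_tot16 : Nat.beq (rowTot (eCol 17 ET16 1 20) 1 1099511627776 21 Rc16 3 1 3795 14) (nth tots 0 16) = true := by decide +kernel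
theorem c_for17_0 : forestOK (relC (mul2 24)) (labE 576 F ML17) (rIdx 12 RI17 3795) 576 T 21 Rc17 3 1 3795 23 7 0 119 = true := by decide +kernel
theorem c_lab17 : labsOK F 4323 (fld LV 17) ML17 3 = true := by decide +kernel
theorem c_root17_0 : rootsOK (relC (mul2 24)) (mul2 24) 576 F 4323 (fld LV 17) LV 20 be 576 T 3795 RT 1 12 RI17 17 ET17 0 7 = true := by decide +kernel
theorem c_tot17 : Nat.beq (rowTot (eCol 17 ET17 1 20) 1 1099511627776 21 Rc17 3 1 3795 23) (nth tots 0 17) = true := by decide +kernel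
end H73.J4T
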