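import Cfsg.Agent.H73.J4E
/-! Kernel checks. -/
set_option maxRecDepth 1000000
set_option Elab.async false
set_option linter.unusedVariables false
namespace H73.J4T
open H71 (Tr nth evw linv gen maskL winv mkRule Sat)
theorem Y.c_valid : validOK (mul2 24) (ones (Nat.succ 24) 24) 576 CV (maskL LL) dd.kA dd.VT dd.nv vw = true := by decide +kernel
theorem Y.c_defs : defsOK (mul2 24) (ones (Nat.succ 24) 24) 576 CV (maskL LL) 3 dd.VT dd.defs dw uw = true := by decide +kernel
theorem Y.c_rels : relsOK (mul2 24) (spl (mul2 24) (ones (Nat.succ 24) 24) 576 CV 3 3 (evL (mul2 24) (ones (Nat.succ 24) 24) 576 CV []) (evL (mul2 24) (ones (Nat.succ 24) 24) 576 CV [])) (maskL (3 :: 3 :: LL)) (([57347,81940,82012,90324,90156,90282,90198] : List ℕ).map (mkRule 2 RR)) dd.rels = true := by decide +kernel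
theorem Y.c_subs : subsOK (spl (mul2 24) (ones (Nat.succ 24) 24) 576 CV 3 3 (evL (mul2 24) (ones (Nat.succ 24) 24) 576 CV []) (evL (mul2 24) (ones (Nat.succ 24) 24) 576 CV [])) (maskL (3 :: 3 :: LL)) subW dd.subs = true := by decide +kernel
theorem Y.c_dce0 : dd.chkRange TJ 0 724 = true := by decide +kernel
theorem Z.c_slpA0 : slpT (mul2 24) (ones (Nat.succ 24) 24) 576 PA 1550 22 PR 3 1547 = true := by decide +kernel
theorem Z.c_sorted : sortedOK (canM (mul2 24) (ones (Nat.succ 24) 24)) 576 T 1771 = true := by decide +kernel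
theorem Z.c_chain : chainOK (relC (mul2 24)) 576 PA 1550 576 T 1771 1 KC [] = true := by decide +kernel
theorem Z.c_kfix : fixOK (relC (mul2 24)) 576 PA 3 be 4 KF = true := by decide +kernel
theorem Z.c_rw : wordsL (mul2 24) (ones (Nat.succ 24) 24) 576 CV (maskL LL) RT RW = true := by decide +kernel
theorem Z.c_rfix : fixOK (relC (mul2 24)) 576 RT 1 be 4 RF = true := by decide +kernel
theorem Z.c_for0_0 : forestOK (relC (mul2 24)) (labE 576 F ML0) (rIdx 9 RI0 1771) 576 T 17 Rc0 2 1 1771 34 1 0 56 = true := by decide +kernel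
theorem Z.c_lab0 : labsOK F 14 (fld LV 0) ML0 2 = true := by decide +kernel
theorem Z.c_root0_0 : rootsOK (relC (mul2 24)) (mul2 24) 576 F 14 (fld LV 0) LV 3 be 576 T 1771 RT 1 9 RI0 3 ET0 0 1 = true := by decide +kernel
theorem Z.c_tot0 : Nat.beq (rowTot (eCol 3 ET0 1 3) 1 4194304 17 Rc0 2 1 1771 34) (nth tots 0 0) = true := by decide +kernel
theorem Z.c_for1_0 : forestOK (relC (mul2 24)) (labE 576 F ML1) (rIdx 11 RI1 1771) 576 T 18 Rc1 3 1 1771 11 4 0 56 = true := by decide +kernel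
theorem Z.c_lab1 : labsOK F 14 (fld LV 1) ML1 3 = true := by decide +kernel
theorem Z.c_root1_0 : rootsOK (relC (mul2 24)) (mul2 24) 576 F 14 (fld LV 1) LV 3 be 576 T 1771 RT 1 11 RI1 5 ET1 0 4 = true := by decide +kernel
theorem Z.c_tot1 : Nat.beq (rowTot (eCol 5 ET1 1 3) 1 4194304 18 Rc1 3 1 1771 11) (nth tots 0 1) = true := by decide +kernel
theorem Z.c_for2_0 : forestOK (relC (mul2 24)) (labE 576 F ML2) (rIdx 11 RI2 1771) 576 T 17 Rc2 2 1 1771 18 2 0 56 = true := by decide +kernel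
theorem Z.c_lab2 : labsOK F 14 (fld LV 2) ML2 2 = true := by decide +kernel
theorem Z.c_root2_0 : rootsOK (relC (mul2 24)) (mul2 24) 576 F 14 (fld LV 2) LV 3 be 576 T 1771 RT 1 11 RI2 6 ET2 0 2 = true := by decide +kernel
theorem Z.c_tot2 : Nat.beq (rowTot (eCol 6 ET2 1 3) 1 4194304 17 Rc2 2 1 1771 18) (nth tots 0 2) = true := by decide +kernel
theorem Z.c_lab : labW (mul2 24) (ones (Nat.succ 24) 24) 576 CV (maskL LL) (labE 576 F ML0) lab0 = true := by decide +kernel
theorem Z.c_beta : Nat.beq (get2 576 T (rIdx 9 RI0 1771 0)) be = true := by decide +kernel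
theorem Z.c_stat : statOK 3 (1771 * 1) 4194304 (nth ns 0) (nth tots 0) = true := by decide +kernel
theorem Z.c_sub : subsetOK 2048 (nth ns 0) 2 1 = true := by decide +kernel
theorem Z.c_wf : wfOK Y.dd 724 (spl (mul2 24) (ones (Nat.succ 24) 24) 576 CV 3 3 (evL (mul2 24) (ones (Nat.succ 24) 24) 576 CV []) (evL (mul2 24) (ones (Nat.succ 24) 24) 576 CV []) W0) F TJ 14 = true := by decide +kernel
theorem Z.c_conjL : conjL (mul2 24) 576 F 14 (fld LV 1) ML1 PA 3 6 = true := by decide +kernel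
end H73.J4T
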