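import Cfsg.Agent.H73.J4C0
import Cfsg.Agent.H73.J4C1
import Cfsg.Agent.H73.J4C2
import Cfsg.Agent.H74.M24P
/-! The double coset table of J4. -/
set_option maxRecDepth 1000000
set_option Elab.async false
set_option linter.unusedVariables false
namespace H73.J4T
open H71 (Tr nth evw linv gen maskL winv mkRule Sat)
theorem  hJ : J4s.JobC := H74.M24P.jobC
noncomputable abbrev S := (sys2 24 (by decide))
noncomputable abbrev Q := (ptsC S)
noncomputable def cv := (exists_env S (fun _ => rfl) c_env).choose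
theorem hcv : ∀ l < 4, S.R (get2 576 CV l) (cv l) := (exists_env S (fun _ => rfl) c_env).choose_spec.1
theorem hcL : ∀ l ∈ LL, S.R (get2 576 CV l) (cv l) := fun l hl => hcv l ((by decide : ∀ l ∈ LL, l < 4) l hl)
theorem satC : Sat 2 4 (J4s.R.take 7) cv := ⟨(exists_env S (fun _ => rfl) c_env).choose_spec.2.2,
  (exists_env S (fun _ => rfl) c_env).choose_spec.2.1 4 le_rfl, relsOne_spec hcL c_relC⟩
def dR : List (List ℕ) := []
theorem dR_sub : ∀ r ∈ dR, r ∈ J4s.R.take 7 := by decide +kernel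
noncomputable abbrev H := gen cv LG
noncomputable instance : Fintype H := Fintype.ofFinite _
noncomputable abbrev K := tgen S 576 PA 2
theorem letIn : LetIn S H 576 CV LL := letIn_of_mem hcv (ext_mem satC.hv (fun r hr => satC.hR r (dR_sub r hr))
  (fun l hl => H71.mem_gen cv hl) (by decide +kernel)) (by decide +kernel)
theorem KH : TabIn S 576 PA 2 H := wordsL_in letIn c_wa
theorem PAK : TabIn S 576 PA 2722 K := (KH.self.step c_slpA0 (hi := 2722) rfl)
theorem for0 : Forest Q.rel (labE 576 F ML0) (rIdx 9 RI0 3795) 576 T 19 Rc0 2 1 3795 41 1 0 3808 := (forestOK_spec c_for0_0)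
theorem for1 : Forest Q.rel (labE 576 F ML1) (rIdx 12 RI1 3795) 576 T 19 Rc1 2 1 3795 15 5 0 3808 := (forestOK_spec c_for1_0)
theorem for2 : Forest Q.rel (labE 576 F ML2) (rIdx 12 RI2 3795) 576 T 22 Rc2 3 1 3795 11 20 0 3808 := (forestOK_spec c_for2_0)
theorem for3 : Forest Q.rel (labE 576 F ML3) (rIdx 12 RI3 3795) 576 T 24 Rc3 3 1 3795 7 121 0 3808 := (forestOK_spec c_for3_0)
theorem for4 : Forest Q.rel (labE 576 F ML4) (rIdx 12 RI4 3795) 576 T 22 Rc4 2 1 3795 11 31 0 3808 := (forestOK_spec c_for4_0)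
theorem for5 : Forest Q.rel (labE 576 F ML5) (rIdx 12 RI5 3795) 576 T 23 Rc5 3 1 3795 9 60 0 3808 := (forestOK_spec c_for5_0)
theorem for6 : Forest Q.rel (labE 576 F ML6) (rIdx 12 RI6 3795) 576 T 25 Rc6 2 1 3795 2 1275 0 3808 := (forestOK_spec c_for6_0)
theorem for7 : Forest Q.rel (labE 576 F ML7) (rIdx 12 RI7 3795) 576 T 24 Rc7 3 1 3795 5 287 0 3808 := (forestOK_spec c_for7_0)
theorem for8 : Forest Q.rel (labE 576 F ML8) (rIdx 12 RI8 3795) 576 T 25 Rc8 2 1 3795 4 687 0 3808 := (forestOK_spec c_for8_0)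
theorem for9 : Forest Q.rel (labE 576 F ML9) (rIdx 12 RI9 3795) 576 T 22 Rc9 3 1 3795 10 31 0 3808 := (forestOK_spec c_for9_0)
theorem for10 : Forest Q.rel (labE 576 F ML10) (rIdx 12 RI10 3795) 576 T 23 Rc10 2 1 3795 12 72 0 3808 := (forestOK_spec c_for10_0)
theorem for11 : Forest Q.rel (labE 576 F ML11) (rIdx 12 RI11 3795) 576 T 24 Rc11 3 1 3795 7 167 0 3808 := (forestOK_spec c_for11_0)
theorem for12 : Forest Q.rel (labE 576 F ML12) (rIdx 12 RI12 3795) 576 T 24 Rc12 2 1 3795 6 218 0 3808 := (forestOK_spec c_for12_0)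
theorem for13 : Forest Q.rel (labE 576 F ML13) (rIdx 12 RI13 3795) 576 T 22 Rc13 3 1 3795 13 18 0 3808 := (forestOK_spec c_for13_0)
theorem for14 : Forest Q.rel (labE 576 F ML14) (rIdx 12 RI14 3795) 576 T 23 Rc14 3 1 3795 8 82 0 3808 := (forestOK_spec c_for14_0)
theorem for15 : Forest Q.rel (labE 576 F ML15) (rIdx 12 RI15 3795) 576 T 21 Rc15 2 1 3795 11 15 0 3808 := (forestOK_spec c_for15_0)
theorem for16 : Forest Q.rel (labE 576 F ML16) (rIdx 12 RI16 3795) 576 T 21 Rc16 3 1 3795 14 10 0 3808 := (forestOK_spec c_for16_0)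
theorem for17 : Forest Q.rel (labE 576 F ML17) (rIdx 12 RI17 3795) 576 T 21 Rc17 3 1 3795 23 7 0 3808 := (forestOK_spec c_for17_0)
theorem for18 : Forest Q.rel (labE 576 F ML18) (rIdx 12 RI18 3795) 576 T 21 Rc18 3 1 3795 14 10 0 3808 := (forestOK_spec c_for18_0)
theorem for19 : Forest Q.rel (labE 576 F ML19) (rIdx 12 RI19 3795) 576 T 20 Rc19 3 1 3795 16 4 0 3808 := (forestOK_spec c_for19_0)
theorem low : LowH Q H K be 3795 576 T 576 RT 1 64512 :=
  ⟨for0.reach1 Q (by decide) (by decide) (labW_spec letIn c_lab) c_beta, sortedOK_spec Q c_sorted, fixOK_spec Q KH c_kfix,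
   fixT_spec Q (wordsL_in letIn c_rw) c_rfix, SepC.one, lowK_of_chain Q PAK (sortedOK_spec Q c_sorted) c_chain (by decide)⟩
theorem satS : Sat 2 4 (J4s.R.take 7) (H71.pairVal J4s.val cv) := (J4s.sat.mono fun r hr => List.mem_of_mem_take hr).pair satC
theorem exφ : Nat.card H = 244823040 ∧ ∃ φ : H →* Cfsg.Spor.J4, (∀ l (h : l ∈ LG), φ ⟨cv l, H71.mem_gen cv h⟩ = J4s.val l) ∧ φ.range = gen J4s.val LG :=
  (exists_hom_of_bound J4s.val cv LG (hJ satS) low.card).2
noncomputable def φ : H →* Cfsg.Spor.J4 := exφ.2.choose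
theorem range_φ : φ.range = gen J4s.val LG := exφ.2.choose_spec.2
theorem lets : Lets S φ J4s.val 576 CV LL := lets_of_graph hcv (by decide) fun l hl =>
  ext_mem (A := graphS φ) (L := LG) satS.hv (fun r hr => satS.hR r (dR_sub r hr)) (fun l hl => ⟨⟨cv l, H71.mem_gen cv hl⟩, Prod.ext (exφ.2.choose_spec.1 l hl) rfl⟩)
    (by decide +kernel) l ((by decide +kernel : ∀ l ∈ LL, l ∈ extL 2 dR LG) l hl)
theorem hRR : ∀ r ∈ RR, evw J4s.val r = 1 := fun r hr => J4s.sat.hR r (by simpa [RR] using hr)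
theorem hGH : gen J4s.val LG ≤ Ht := by
  have h0 : J4s.val 0 ∈ Ht := by unfold Ht; simpa using mem_genW J4s.val (ws := [[2],[0],W0]) (w := [0]) (by simp)
  have h2 : J4s.val 2 ∈ Ht := by unfold Ht; simpa using mem_genW J4s.val (ws := [[2],[0],W0]) (w := [2]) (by simp)
  refine H71.gen_le ?_
  simp only [LG, List.forall_mem_cons, List.not_mem_nil]
  exact ⟨h0, (J4s.hv 0).symm ▸ inv_mem h0, h2, fun _ h => h.elim⟩
theorem hH (c : H) : φ c ∈ Ht := hGH (range_φ ▸ ⟨c, rfl⟩)
theorem pair0 : PTab S (pairSub φ (J4s.val 3)) 576 PA PB 2 :=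
  PTab.init lets c_wa c_wb rfl (conjW_spec J4s.hv (H71.evw_rules J4s.hv hRR _) c_conj)
theorem pairs : PTab S (pairSub φ (J4s.val 3)) 576 PA PB 2722 := (pair0.step c_slpA0 c_slpA0 (hi := 2722) rfl)
theorem hinv : ∃ b0 b1 : H, S.R (evL S.mul S.one 576 CV []) b0 ∧ S.R (evL S.mul S.one 576 CV []) b1 ∧
  (J4s.val 3)⁻¹ = φ b1 * J4s.val 3 * φ b0 := inv_rel lets (H71.evw_mkRule J4s.hv hRR _) c_inv
theorem dhyp : DHyp S φ (J4s.val 3) (om J4s.val uw Ht) dd :=
  dhyp_mk lets (Ht := Ht) hH (J4s.hv 3) hinv dd rfl rfl rfl (kapT_spec (o := 4) (n := 2688) (offs := [(2698,24)]) pairs (by decide)) c_valid c_defs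
    (H71.evw_rules J4s.hv hRR _) c_rels (fun w hw => mem_genW _ ((by decide : ∀ w ∈ subW, w ∈ [[2],[0],W0]) w hw)) c_subs
theorem holds : ∀ i < 4323, Holds S φ (J4s.val 3) (om J4s.val uw Ht) 576 (F i) := (chkRange_spec dhyp (chkRange_spec dhyp (chkRange_spec dhyp (chkRange_spec dhyp holds_zero c_dce0 (hi := 1428) rfl) c_dce1 (hi := 2737) rfl) c_dce2 (hi := 3905) rfl) c_dce3 (hi := 4323) rfl)
theorem exa : SubOrb Q H K be 3795 576 T 576 RT 1 ∧ Nat.card K = 64512 ∧ ∀ A, A ≤ K → (∀ g ∈ H, ∀ n ∈ A, g * n * g⁻¹ ∈ A) → A = ⊥ := low.exact (by rw [exφ.1])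
theorem RTH : TabIn S 576 RT 1 H := wordsL_in letIn c_rw
theorem row0 : RowA φ 20 (fun a => om J4s.val uw Ht (fld LV a)) (J4s.val 3) (Nat.card K) (3795 * 1) 1099511627776 0 (nth tots 0 0) :=
  rowA_of_facts exa.1 pair0.conj holds (by decide) for0 (by decide) (by decide) c_lab0 (Roots.step holds RTH (by decide) (Roots.zero Q) c_root0_0 (hi := 1) rfl) c_tot0
theorem row1 : RowA φ 20 (fun a => om J4s.val uw Ht (fld LV a)) (J4s.val 3) (Nat.card K) (3795 * 1) 1099511627776 1 (nth tots 0 1) :=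
  rowA_of_facts exa.1 pair0.conj holds (by decide) for1 (by decide) (by decide) c_lab1 (Roots.step holds RTH (by decide) (Roots.zero Q) c_root1_0 (hi := 5) rfl) c_tot1
theorem row2 : RowA φ 20 (fun a => om J4s.val uw Ht (fld LV a)) (J4s.val 3) (Nat.card K) (3795 * 1) 1099511627776 2 (nth tots 0 2) :=
  rowA_of_facts exa.1 pair0.conj holds (by decide) for2 (by decide) (by decide) c_lab2 (Roots.step holds RTH (by decide) (Roots.zero Q) c_root2_0 (hi := 20) rfl) c_tot2
theorem row3 : RowA φ 20 (fun a => om J4s.val uw Ht (fld LV a)) (J4s.val 3) (Nat.card K) (3795 * 1) 1099511627776 3 (nth tots 0 3) :=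
  rowA_of_facts exa.1 pair0.conj holds (by decide) for3 (by decide) (by decide) c_lab3 (Roots.step holds RTH (by decide) (Roots.zero Q) c_root3_0 (hi := 121) rfl) c_tot3
theorem row4 : RowA φ 20 (fun a => om J4s.val uw Ht (fld LV a)) (J4s.val 3) (Nat.card K) (3795 * 1) 1099511627776 4 (nth tots 0 4) :=
  rowA_of_facts exa.1 pair0.conj holds (by decide) for4 (by decide) (by decide) c_lab4 (Roots.step holds RTH (by decide) (Roots.zero Q) c_root4_0 (hi := 31) rfl) c_tot4
theorem row5 : RowA φ 20 (fun a => om J4s.val uw Ht (fld LV a)) (J4s.val 3) (Nat.card K) (3795 * 1) 1099511627776 5 (nth tots 0 5) :=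
  rowA_of_facts exa.1 pair0.conj holds (by decide) for5 (by decide) (by decide) c_lab5 (Roots.step holds RTH (by decide) (Roots.zero Q) c_root5_0 (hi := 60) rfl) c_tot5
theorem row6 : RowA φ 20 (fun a => om J4s.val uw Ht (fld LV a)) (J4s.val 3) (Nat.card K) (3795 * 1) 1099511627776 6 (nth tots 0 6) :=
  rowA_of_facts exa.1 pair0.conj holds (by decide) for6 (by decide) (by decide) c_lab6 (Roots.step holds RTH (by decide) (Roots.zero Q) c_root6_0 (hi := 1275) rfl) c_tot6
theorem row7 : RowA φ 20 (fun a => om J4s.val uw Ht (fld LV a)) (J4s.val 3) (Nat.card K) (3795 * 1) 1099511627776 7 (nth tots 0 7) :=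
  rowA_of_facts exa.1 pair0.conj holds (by decide) for7 (by decide) (by decide) c_lab7 (Roots.step holds RTH (by decide) (Roots.zero Q) c_root7_0 (hi := 287) rfl) c_tot7
theorem row8 : RowA φ 20 (fun a => om J4s.val uw Ht (fld LV a)) (J4s.val 3) (Nat.card K) (3795 * 1) 1099511627776 8 (nth tots 0 8) :=
  rowA_of_facts exa.1 pair0.conj holds (by decide) for8 (by decide) (by decide) c_lab8 (Roots.step holds RTH (by decide) (Roots.zero Q) c_root8_0 (hi := 687) rfl) c_tot8
theorem row9 : RowA φ 20 (fun a => om J4s.val uw Ht (fld LV a)) (J4s.val 3) (Nat.card K) (3795 * 1) 1099511627776 9 (nth tots 0 9) :=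
  rowA_of_facts exa.1 pair0.conj holds (by decide) for9 (by decide) (by decide) c_lab9 (Roots.step holds RTH (by decide) (Roots.zero Q) c_root9_0 (hi := 31) rfl) c_tot9
theorem row10 : RowA φ 20 (fun a => om J4s.val uw Ht (fld LV a)) (J4s.val 3) (Nat.card K) (3795 * 1) 1099511627776 10 (nth tots 0 10) :=
  rowA_of_facts exa.1 pair0.conj holds (by decide) for10 (by decide) (by decide) c_lab10 (Roots.step holds RTH (by decide) (Roots.zero Q) c_root10_0 (hi := 72) rfl) c_tot10
theorem row11 : RowA φ 20 (fun a => om J4s.val uw Ht (fld LV a)) (J4s.val 3) (Nat.card K) (3795 * 1) 1099511627776 11 (nth tots 0 11) :=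
  rowA_of_facts exa.1 pair0.conj holds (by decide) for11 (by decide) (by decide) c_lab11 (Roots.step holds RTH (by decide) (Roots.zero Q) c_root11_0 (hi := 167) rfl) c_tot11
theorem row12 : RowA φ 20 (fun a => om J4s.val uw Ht (fld LV a)) (J4s.val 3) (Nat.card K) (3795 * 1) 1099511627776 12 (nth tots 0 12) :=
  rowA_of_facts exa.1 pair0.conj holds (by decide) for12 (by decide) (by decide) c_lab12 (Roots.step holds RTH (by decide) (Roots.zero Q) c_root12_0 (hi := 218) rfl) c_tot12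
theorem row13 : RowA φ 20 (fun a => om J4s.val uw Ht (fld LV a)) (J4s.val 3) (Nat.card K) (3795 * 1) 1099511627776 13 (nth tots 0 13) :=
  rowA_of_facts exa.1 pair0.conj holds (by decide) for13 (by decide) (by decide) c_lab13 (Roots.step holds RTH (by decide) (Roots.zero Q) c_root13_0 (hi := 18) rfl) c_tot13
theorem row14 : RowA φ 20 (fun a => om J4s.val uw Ht (fld LV a)) (J4s.val 3) (Nat.card K) (3795 * 1) 1099511627776 14 (nth tots 0 14) :=
  rowA_of_facts exa.1 pair0.conj holds (by decide) for14 (by decide) (by decide) c_lab14 (Roots.step holds RTH (by decide) (Roots.zero Q) c_root14_0 (hi := 82) rfl) c_tot14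
theorem row15 : RowA φ 20 (fun a => om J4s.val uw Ht (fld LV a)) (J4s.val 3) (Nat.card K) (3795 * 1) 1099511627776 15 (nth tots 0 15) :=
  rowA_of_facts exa.1 pair0.conj holds (by decide) for15 (by decide) (by decide) c_lab15 (Roots.step holds RTH (by decide) (Roots.zero Q) c_root15_0 (hi := 15) rfl) c_tot15
theorem row16 : RowA φ 20 (fun a => om J4s.val uw Ht (fld LV a)) (J4s.val 3) (Nat.card K) (3795 * 1) 1099511627776 16 (nth tots 0 16) :=
  rowA_of_facts exa.1 pair0.conj holds (by decide) for16 (by decide) (by decide) c_lab16 (Roots.step holds RTH (by decide) (Roots.zero Q) c_root16_0 (hi := 10) rfl) c_tot16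
theorem row17 : RowA φ 20 (fun a => om J4s.val uw Ht (fld LV a)) (J4s.val 3) (Nat.card K) (3795 * 1) 1099511627776 17 (nth tots 0 17) :=
  rowA_of_facts exa.1 pair0.conj holds (by decide) for17 (by decide) (by decide) c_lab17 (Roots.step holds RTH (by decide) (Roots.zero Q) c_root17_0 (hi := 7) rfl) c_tot17
theorem row18 : RowA φ 20 (fun a => om J4s.val uw Ht (fld LV a)) (J4s.val 3) (Nat.card K) (3795 * 1) 1099511627776 18 (nth tots 0 18) :=
  rowA_of_facts exa.1 pair0.conj holds (by decide) for18 (by decide) (by decide) c_lab18 (Roots.step holds RTH (by decide) (Roots.zero Q) c_root18_0 (hi := 10) rfl) c_tot18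
theorem row19 : RowA φ 20 (fun a => om J4s.val uw Ht (fld LV a)) (J4s.val 3) (Nat.card K) (3795 * 1) 1099511627776 19 (nth tots 0 19) :=
  rowA_of_facts exa.1 pair0.conj holds (by decide) for19 (by decide) (by decide) c_lab19 (Roots.step holds RTH (by decide) (Roots.zero Q) c_root19_0 (hi := 4) rfl) c_tot19
theorem rows : ∀ a < 20, RowA φ 20 (fun a => om J4s.val uw Ht (fld LV a)) (J4s.val 3) (Nat.card K) (3795 * 1) 1099511627776 a (nth tots 0 a) := by
  intro a ha
  interval_cases a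
  exacts [row0, row1, row2, row3, row4, row5, row6, row7, row8, row9, row10, row11, row12, row13, row14, row15, row16, row17, row18, row19]
theorem htop (A : Subgroup Cfsg.Spor.J4) (h1 : ∀ c, φ c ∈ A) (h2 : J4s.val 3 ∈ A) : A = ⊤ := by
  rw [eq_top_iff, ← J4s.top]
  refine H71.gen_le fun l hl => ?_
  rcases (by decide : ∀ l ∈ [0,2,3], l = 3 ∨ l ∈ LL) l hl with rfl | h
  · exact h2
  · obtain ⟨c, -, e⟩ := lets l h
    exact e ▸ h1 c
end H73.J4T
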