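import Cfsg.Agent.H73.J4S
import Cfsg.Agent.H73.J4E0
/-! The cosets of M24 in 2^11:M24. -/
set_option maxRecDepth 1000000
set_option Elab.async false
set_option linter.unusedVariables false
namespace H73.J4T
open H71 (Tr nth evw linv gen maskL winv mkRule Sat)
namespace Y
theorem dhyp : DHyp S φ (J4s.val 3) (om J4s.val uw φ.range) dd :=
  dhyp_mk lets (Ht := φ.range) (fun c => ⟨c, rfl⟩) (J4s.hv 3) hinv dd rfl rfl rfl (kapT_spec (o := 4) (n := 2688) (offs := [(2698,24)]) pairs (by decide)) c_valid c_defs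
    (H71.evw_rules J4s.hv hRR _) c_rels (fun w hw => absurd hw List.not_mem_nil) c_subs
theorem holds : ∀ i < 724, Holds S φ (J4s.val 3) (om J4s.val uw φ.range) 576 (F i) := (chkRange_spec dhyp holds_zero c_dce0 (hi := 724) rfl)
end Y
namespace Z
theorem splW : SplP S φ (J4s.val 3) (spl S.mul S.one 576 CV 3 3 (evL S.mul S.one 576 CV []) (evL S.mul S.one 576 CV []) W0) (evw J4s.val W0) := by
  obtain ⟨b0, b1, h0, h1, hi⟩ := hinv
  exact spl_spec lets h0 h1 ((J4s.hv 3).trans hi) (by decide)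
theorem holds : ∀ i < 14, Holds S φ (evw J4s.val W0) (om J4s.val uw φ.range) 576 (F i) := wfOK_spec Y.dhyp Y.holds splW c_wf
noncomputable abbrev K := tgen S 576 PA 3
theorem cj : TabIn S 576 PA 3 H ∧ ∀ κ : H, (κ : (Matrix (Fin 24) (Fin 24) (ZMod 2))ˣ) ∈ K → ∃ h : H, evw J4s.val W0 * φ κ = φ h * evw J4s.val W0 :=
  conjL_spec (by show evw _ (uw.getD 0 []) • _ = _; rw [show uw.getD 0 [] = [] from rfl]; simp) holds c_conjL
theorem KH : TabIn S 576 PA 3 H := cj.1
theorem PAK : TabIn S 576 PA 1550 K := (KH.self.step c_slpA0 (hi := 1550) rfl)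
theorem for0 : Forest Q.rel (labE 576 F ML0) (rIdx 9 RI0 1771) 576 T 17 Rc0 2 1 1771 34 1 0 1792 := (forestOK_spec c_for0_0)
theorem for1 : Forest Q.rel (labE 576 F ML1) (rIdx 11 RI1 1771) 576 T 18 Rc1 3 1 1771 11 4 0 1792 := (forestOK_spec c_for1_0)
theorem for2 : Forest Q.rel (labE 576 F ML2) (rIdx 11 RI2 1771) 576 T 17 Rc2 2 1 1771 18 2 0 1792 := (forestOK_spec c_for2_0)
theorem low : LowH Q H K be 1771 576 T 576 RT 1 138240 :=
  ⟨for0.reach1 Q (by decide) (by decide) (labW_spec letIn c_lab) c_beta, sortedOK_spec Q c_sorted, fixOK_spec Q KH c_kfix,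
   fixT_spec Q (wordsL_in letIn c_rw) c_rfix, SepC.one, lowK_of_chain Q PAK (sortedOK_spec Q c_sorted) c_chain (by decide)⟩
theorem exa : SubOrb Q H K be 1771 576 T 576 RT 1 ∧ Nat.card K = 138240 ∧ ∀ A, A ≤ K → (∀ g ∈ H, ∀ n ∈ A, g * n * g⁻¹ ∈ A) → A = ⊥ := low.exact (by rw [exφ.1])
theorem RTH : TabIn S 576 RT 1 H := wordsL_in letIn c_rw
theorem row0 : RowA φ 3 (fun a => om J4s.val uw φ.range (fld LV a)) (evw J4s.val W0) (Nat.card K) (1771 * 1) 4194304 0 (nth tots 0 0) :=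
  rowA_of_facts exa.1 cj.2 holds (by decide) for0 (by decide) (by decide) c_lab0 (Roots.step holds RTH (by decide) (Roots.zero Q) c_root0_0 (hi := 1) rfl) c_tot0
theorem row1 : RowA φ 3 (fun a => om J4s.val uw φ.range (fld LV a)) (evw J4s.val W0) (Nat.card K) (1771 * 1) 4194304 1 (nth tots 0 1) :=
  rowA_of_facts exa.1 cj.2 holds (by decide) for1 (by decide) (by decide) c_lab1 (Roots.step holds RTH (by decide) (Roots.zero Q) c_root1_0 (hi := 4) rfl) c_tot1
theorem row2 : RowA φ 3 (fun a => om J4s.val uw φ.range (fld LV a)) (evw J4s.val W0) (Nat.card K) (1771 * 1) 4194304 2 (nth tots 0 2) :=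
  rowA_of_facts exa.1 cj.2 holds (by decide) for2 (by decide) (by decide) c_lab2 (Roots.step holds RTH (by decide) (Roots.zero Q) c_root2_0 (hi := 2) rfl) c_tot2
theorem rows : ∀ a < 3, RowA φ 3 (fun a => om J4s.val uw φ.range (fld LV a)) (evw J4s.val W0) (Nat.card K) (1771 * 1) 4194304 a (nth tots 0 a) := by
  intro a ha
  interval_cases a
  exacts [row0, row1, row2]
end Z
end H73.J4T
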