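import Cfsg.Agent.H21.L43K
import Cfsg.Agent.H42.McK
import Cfsg.Agent.H57.SLCard

/-! `L₄(3)`: coordinates on the parabolic subgroup `PP` and the basic facts on its subgroups. -/

set_option autoImplicit false
set_option maxRecDepth 100000
open Cfsg H56.L3 H47.L43 Subgroup H98

namespace H73.L43

/-- determinant of a `3 × 3` matrix -/
def d3 (a b c d e f g h i : F3) : F3 := a * e * i - a * f * h - b * d * i + b * f * g + c * d * h - c * e * g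

/-- the general element of `PP` -/
def mP (x y z a b c d e f g h i : F3) (hd : d3 a b c d e f g h i = 1) : PP :=
  ⟨⟨!![1, x, y, z; 0, a, b, c; 0, d, e, f; 0, g, h, i], by
    refine Eq.trans ?_ hd
    simp [d3, Matrix.det_succ_column_zero, Fin.sum_univ_succ, Fin.succAbove]
    ring⟩, by
    change Matrix.mulVec _ (Pi.single 0 1) = Pi.single 0 1
    ext k; fin_cases k <;> simp⟩

theorem exists_mP (p : PP) : ∃ x y z a b c d e f g h i hd, p = mP x y z a b c d e f g h i hd := by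
  obtain ⟨B, x, y, z, e⟩ := H21.L43.PP_dec p.2
  have hB := B.2
  rw [Matrix.det_fin_three] at hB
  refine ⟨x, y, z, B 0 0, B 0 1, B 0 2, B 1 0, B 1 1, B 1 2, B 2 0, B 2 1, B 2 2, hB,
    Subtype.ext (e.trans (Subtype.ext ?_))⟩
  rw [Matrix.SpecialLinearGroup.coe_mul, H21.L43.blk_val, H21.L43.up_val]
  ext k l
  fin_cases k <;> fin_cases l <;> simp [mP, Matrix.mul_apply, Fin.sum_univ_four]

section
variable {x y z a b c d e f g h i x' y' z' a' b' c' d' e' f' g' h' i' : F3}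

theorem d3_mul (hd : d3 a b c d e f g h i = 1) (hd' : d3 a' b' c' d' e' f' g' h' i' = 1) :
    d3 (a * a' + b * d' + c * g') (a * b' + b * e' + c * h') (a * c' + b * f' + c * i')
      (d * a' + e * d' + f * g') (d * b' + e * e' + f * h') (d * c' + e * f' + f * i')
      (g * a' + h * d' + i * g') (g * b' + h * e' + i * h') (g * c' + h * f' + i * i') = 1 := by
  rw [← one_mul (1 : F3)]
  nth_rewrite 1 [← hd, ← hd']
  simp only [d3]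
  ring

theorem mP_mul (hd : d3 a b c d e f g h i = 1) (hd' : d3 a' b' c' d' e' f' g' h' i' = 1) :
    mP x y z a b c d e f g h i hd * mP x' y' z' a' b' c' d' e' f' g' h' i' hd' =
    mP (x' + x * a' + y * d' + z * g') (y' + x * b' + y * e' + z * h')
      (z' + x * c' + y * f' + z * i')
      (a * a' + b * d' + c * g') (a * b' + b * e' + c * h') (a * c' + b * f' + c * i')
      (d * a' + e * d' + f * g') (d * b' + e * e' + f * h') (d * c' + e * f' + f * i')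
      (g * a' + h * d' + i * g') (g * b' + h * e' + i * h') (g * c' + h * f' + i * i')
      (d3_mul hd hd') := by
  refine Subtype.ext (Subtype.ext ?_)
  rw [Subgroup.coe_mul, Matrix.SpecialLinearGroup.coe_mul]
  ext k l
  fin_cases k <;> fin_cases l <;> simp [mP, Matrix.mul_apply, Fin.sum_univ_four]

theorem mP_inj {hd : d3 a b c d e f g h i = 1} {hd' : d3 a' b' c' d' e' f' g' h' i' = 1} :
    mP x y z a b c d e f g h i hd = mP x' y' z' a' b' c' d' e' f' g' h' i' hd' ↔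
    x = x' ∧ y = y' ∧ z = z' ∧ a = a' ∧ b = b' ∧ c = c' ∧ d = d' ∧ e = e' ∧ f = f' ∧ g = g' ∧
      h = h' ∧ i = i' := by
  refine ⟨fun e => ?_, ?_⟩
  · have k := fun i j => congrArg (fun g : PP => g.1.1 i j) e
    exact ⟨k 0 1, k 0 2, k 0 3, k 1 1, k 1 2, k 1 3, k 2 1, k 2 2, k 2 3, k 3 1, k 3 2, k 3 3⟩
  · rintro ⟨rfl, rfl, rfl, rfl, rfl, rfl, rfl, rfl, rfl, rfl, rfl, rfl⟩
    rfl

theorem d3_up (d e f : F3) : d3 1 d e 0 1 f 0 0 1 = 1 := by simp [d3]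

theorem uP_eq (a b c d e f : F3) : uP a b c d e f = mP a b c 1 d e 0 1 f 0 0 1 (d3_up d e f) := rfl

theorem one_eq : (1 : PP) = mP 0 0 0 1 0 0 0 1 0 0 0 1 (d3_up 0 0 0) := uP_zero.symm

theorem t2_eq : t2 = mP 0 0 0 (-1) 0 0 0 (-1) 0 0 0 1 (by decide) := rfl

theorem t3_eq : t3 = mP 0 0 0 1 0 0 0 (-1) 0 0 0 (-1) (by decide) := rfl

theorem uP_inj : uP a b c d e f = uP a' b' c' d' e' f' ↔
    a = a' ∧ b = b' ∧ c = c' ∧ d = d' ∧ e = e' ∧ f = f' :=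
  ⟨H21.L43.uP_inj, by rintro ⟨rfl, rfl, rfl, rfl, rfl, rfl⟩; rfl⟩

/-- `SL₂(3)` on the coordinates `2, 3` -/
def l2 (a b c d : F3) (h : a * d - b * c = 1) : PP :=
  mP 0 0 0 a b 0 c d 0 0 0 1 (by rw [d3]; linear_combination h)

/-- `SL₂(3)` on the coordinates `3, 4` -/
def l3 (a b c d : F3) (h : a * d - b * c = 1) : PP :=
  mP 0 0 0 1 0 0 0 a b 0 c d (by rw [d3]; linear_combination h)

theorem t2_sq : t2 * t2 = 1 := by decide +kernel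
theorem t3_sq : t3 * t3 = 1 := by decide +kernel
theorem t2_t3 : t2 * t3 = t3 * t2 := by decide +kernel
theorem t2_inv : t2⁻¹ = t2 := inv_eq_of_mul_eq_one_left t2_sq
theorem t3_inv : t3⁻¹ = t3 := inv_eq_of_mul_eq_one_left t3_sq
theorem l2_one (h : (1 : F3) * 1 - 0 * 0 = 1) : l2 1 0 0 1 h = 1 := one_eq.symm
theorem l3_one (h : (1 : F3) * 1 - 0 * 0 = 1) : l3 1 0 0 1 h = 1 := one_eq.symm
theorem l2_neg (h : (-1 : F3) * -1 - 0 * 0 = 1) : l2 (-1) 0 0 (-1) h = t2 := rfl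
theorem l3_neg (h : (-1 : F3) * -1 - 0 * 0 = 1) : l3 (-1) 0 0 (-1) h = t3 := rfl
theorem l2_up (h : (1 : F3) * 1 - d * 0 = 1) : l2 1 d 0 1 h = uP 0 0 0 d 0 0 := rfl
theorem l3_up (h : (1 : F3) * 1 - f * 0 = 1) : l3 1 f 0 1 h = uP 0 0 0 0 0 f := rfl

theorem t2_conj (a b c d e f : F3) :
    t2 * uP a b c d e f * t2⁻¹ = uP (-a) (-b) c d (-e) (-f) := by
  rw [mul_inv_eq_iff_eq_mul, t2_eq, uP_eq, uP_eq, mP_mul, mP_mul, mP_inj]; simp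

theorem t3_conj (a b c d e f : F3) :
    t3 * uP a b c d e f * t3⁻¹ = uP a (-b) (-c) (-d) (-e) f := by
  rw [mul_inv_eq_iff_eq_mul, t3_eq, uP_eq, uP_eq, mP_mul, mP_mul, mP_inj]; simp

theorem l2_conj {α β γ δ : F3} (h : α * δ - β * γ = 1) (a b c e f : F3) :
    l2 α β γ δ h * uP a b c 0 e f * (l2 α β γ δ h)⁻¹ =
      uP (a * δ - b * γ) (b * α - a * β) c 0 (α * e + β * f) (γ * e + δ * f) := by
  rw [mul_inv_eq_iff_eq_mul, l2, uP_eq, uP_eq, mP_mul, mP_mul, mP_inj]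
  refine ⟨?_, ?_, ?_, ?_, ?_, ?_, ?_, ?_, ?_, ?_, ?_, ?_⟩
  · linear_combination (-a) * h
  · linear_combination (-b) * h
  all_goals ring

theorem l3_conj {α β γ δ : F3} (h : α * δ - β * γ = 1) (a b c d e : F3) :
    l3 α β γ δ h * uP a b c d e 0 * (l3 α β γ δ h)⁻¹ =
      uP a (b * δ - c * γ) (c * α - b * β) (d * δ - e * γ) (e * α - d * β) 0 := by
  rw [mul_inv_eq_iff_eq_mul, l3, uP_eq, uP_eq, mP_mul, mP_mul, mP_inj]
  refine ⟨?_, ?_, ?_, ?_, ?_, ?_, ?_, ?_, ?_, ?_, ?_, ?_⟩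
  rotate_left
  · linear_combination (-b) * h
  · linear_combination (-c) * h
  rotate_left
  · linear_combination (-d) * h
  · linear_combination (-e) * h
  all_goals ring

/-- `E₁` is normal in `PP`. -/
theorem conj_E1 (p : PP) (a b c : F3) :
    ∃ a' b' c', p * uP a b c 0 0 0 * p⁻¹ = uP a' b' c' 0 0 0 := by
  have key : ∀ (q : PP) a b c, ∃ a' b' c', uP a b c 0 0 0 * q = q * uP a' b' c' 0 0 0 := by
    intro q a b c
    obtain ⟨x, y, z, m1, m2, m3, m4, m5, m6, m7, m8, m9, hd, rfl⟩ := exists_mP q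
    refine ⟨a * m1 + b * m4 + c * m7, a * m2 + b * m5 + c * m8, a * m3 + b * m6 + c * m9, ?_⟩
    rw [uP_eq, uP_eq, mP_mul, mP_mul, mP_inj]
    refine ⟨?_, ?_, ?_, ?_, ?_, ?_, ?_, ?_, ?_, ?_, ?_, ?_⟩ <;> ring
  obtain ⟨a', b', c', e⟩ := key p⁻¹ a b c
  exact ⟨a', b', c', by rw [mul_assoc, e, mul_inv_cancel_left]⟩

/-- `PP` is transitive on the non-trivial elements of `E₁`. -/
theorem trans_E1 (h : ¬ (a = 0 ∧ b = 0 ∧ c = 0)) :
    ∃ p : PP, p * uP a b c 0 0 0 * p⁻¹ = uP 0 0 1 0 0 0 := by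
  obtain ⟨m1, m2, m3, m4, m5, m6, hd⟩ := (by decide +kernel : ∀ a b c : F3,
    ¬ (a = 0 ∧ b = 0 ∧ c = 0) → ∃ m1 m2 m3 m4 m5 m6 : F3, d3 m1 m2 m3 m4 m5 m6 a b c = 1) a b c h
  refine ⟨mP 0 0 0 m1 m2 m3 m4 m5 m6 a b c hd, ?_⟩
  rw [mul_inv_eq_iff_eq_mul, uP_eq, uP_eq, mP_mul, mP_mul, mP_inj]
  refine ⟨?_, ?_, ?_, ?_, ?_, ?_, ?_, ?_, ?_, ?_, ?_, ?_⟩ <;> ring

/-- The normaliser of `⟨z⟩` in `PP`. -/
theorem nor_z (p : PP) (h : p * uP 0 0 1 0 0 0 = uP 0 0 c 0 0 0 * p) :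
    ∃ a b c' e f α β γ δ hd, (c = 1 ∧ p = uP a b c' 0 e f * l2 α β γ δ hd) ∨
      (c = -1 ∧ p = uP a b c' 0 e f * l2 α β γ δ hd * t3) := by
  obtain ⟨x, y, z, m1, m2, m3, m4, m5, m6, m7, m8, m9, hd, rfl⟩ := exists_mP p
  rw [uP_eq, uP_eq, mP_mul, mP_mul, mP_inj] at h
  obtain ⟨h1, h2, h3, -⟩ := h
  have h4 : c * m9 = 1 := by linear_combination -h3
  obtain rfl : m7 = 0 := by linear_combination -m9 * h1 - m7 * h4
  obtain rfl : m8 = 0 := by linear_combination -m9 * h2 - m8 * h4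
  rw [d3] at hd
  rcases (by decide : ∀ c m : F3, c * m = 1 → (c = 1 ∧ m = 1) ∨ (c = -1 ∧ m = -1)) c m9 h4 with
    ⟨rfl, rfl⟩ | ⟨rfl, rfl⟩
  · have h5 : m1 * m5 - m2 * m4 = 1 := by linear_combination hd
    refine ⟨x * m5 - y * m4, y * m1 - x * m2, z, m3, m6, m1, m2, m4, m5, h5, .inl ⟨rfl, ?_⟩⟩
    rw [uP_eq, l2, mP_mul, mP_inj]
    refine ⟨?_, ?_, ?_, ?_, ?_, ?_, ?_, ?_, ?_, ?_, ?_, ?_⟩
    · linear_combination (-x) * h5
    · linear_combination (-y) * h5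
    all_goals ring
  · have h5 : m1 * -m5 - -m2 * m4 = 1 := by linear_combination hd
    refine ⟨y * m4 - x * m5, x * m2 - y * m1, -z, -m3, -m6, m1, -m2, m4, -m5, h5,
      .inr ⟨rfl, ?_⟩⟩
    rw [uP_eq, l2, t3_eq, mP_mul, mP_mul, mP_inj]
    refine ⟨?_, ?_, ?_, ?_, ?_, ?_, ?_, ?_, ?_, ?_, ?_, ?_⟩
    · linear_combination (-x) * h5
    · linear_combination (-y) * h5
    all_goals ring

theorem card_PP : Nat.card PP = 151632 := by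
  have h := H57.card_sl_fin_eq (F := F3) 3
  rw [ZMod.card] at h
  let f : (F3 × F3 × F3) × Matrix.SpecialLinearGroup (Fin 3) F3 → PP := fun v =>
    mP v.1.1 v.1.2.1 v.1.2.2 (v.2 0 0) (v.2 0 1) (v.2 0 2) (v.2 1 0) (v.2 1 1) (v.2 1 2) (v.2 2 0)
      (v.2 2 1) (v.2 2 2) (by have := v.2.2; rwa [Matrix.det_fin_three] at this)
  have hf : Function.Bijective f := by
    refine ⟨fun v w e => ?_, fun p => ?_⟩
    · obtain ⟨h1, h2, h3, h4⟩ := mP_inj.1 e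
      refine Prod.ext (Prod.ext h1 (Prod.ext h2 h3)) (Subtype.ext ?_)
      ext k l
      fin_cases k <;> fin_cases l <;> tauto
    · obtain ⟨x, y, z, m1, m2, m3, m4, m5, m6, m7, m8, m9, hd, rfl⟩ := exists_mP p
      exact ⟨((x, y, z), ⟨!![m1, m2, m3; m4, m5, m6; m7, m8, m9], by
        rw [Matrix.det_fin_three]; exact hd⟩), rfl⟩
  rw [← Nat.card_eq_of_bijective f hf, Nat.card_prod, h]
  simp
  decide

end

section General

variable {G : Type*} [Group G]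

theorem card_le_of_param {ι : Type*} [Finite ι] {H : Subgroup G} (F : ι → G)
    (h : ∀ x ∈ H, ∃ i, x = F i) : Nat.card H ≤ Nat.card ι := by
  choose k hk using h
  exact Nat.card_le_card_of_injective (fun x : H => k x x.2) fun x y e =>
    Subtype.ext ((hk x x.2).trans (by rw [show k x x.2 = k y y.2 from e]; exact (hk y y.2).symm))

theorem card_eq_of_param {ι : Type*} {H : Subgroup G} (F : ι → G) (hF : Function.Injective F)
    (h : ∀ x, x ∈ H ↔ ∃ i, x = F i) : Nat.card H = Nat.card ι :=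
  (Nat.card_eq_of_bijective (fun i => (⟨F i, (h _).2 ⟨i, rfl⟩⟩ : H))
    ⟨fun _ _ e => hF (congrArg Subtype.val e), fun x => by
      obtain ⟨i, e⟩ := (h x).1 x.2
      exact ⟨i, Subtype.ext e.symm⟩⟩).symm

/-- an element of odd order whose square lies in `H` lies in `H` -/
theorem mem_of_sq {H : Subgroup G} {g : G} {k : ℕ} (h : g ^ 3 ^ k = 1) (h2 : g * g ∈ H) :
    g ∈ H := by
  obtain ⟨n, hn⟩ : Odd (3 ^ k) := Odd.pow (by decide)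
  have : g = ((g * g) ^ n)⁻¹ := by
    rw [eq_inv_iff_mul_eq_one, ← pow_two, ← pow_mul, ← pow_succ', ← hn, h]
  exact this ▸ inv_mem (pow_mem h2 n)

theorem conj_mem_of_mem {H : Subgroup G} {x g : G} (hx : x ∈ H) (hg : g ∈ H) : g * x * g⁻¹ ∈ H :=
  mul_mem (mul_mem hg hx) (inv_mem hg)

theorem mem_zp3 {x y : G} (h : x ^ 3 = 1) : y ∈ zpowers x ↔ y = 1 ∨ y = x ∨ y = x⁻¹ := by
  refine ⟨fun hy => ?_, ?_⟩
  · obtain ⟨k, rfl⟩ :=
      (isOfFinOrder_iff_pow_eq_one.2 ⟨3, three_pos, h⟩).mem_powers_iff_mem_zpowers.2 hy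
    have h1 := Nat.mod_lt k three_pos
    beta_reduce
    rw [pow_eq_pow_mod k h]
    generalize k % 3 = i at h1
    interval_cases i
    exacts [.inl (pow_zero _), .inr (.inl (pow_one _)),
      .inr (.inr (eq_inv_of_mul_eq_one_left ((pow_succ x 2).symm.trans h)))]
  · rintro (rfl | rfl | rfl)
    exacts [one_mem _, mem_zpowers _, inv_mem (mem_zpowers _)]

end General

section Model

variable {G : Type*} [Group G] {φ : PP →* G} {g : G}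
  {a b c d e f a' b' c' d' e' f' α β γ δ : F3}

theorem s_mem (a b c d e f : F3) : s φ a b c d e f ∈ φ.range := ⟨_, rfl⟩
theorem s_mem_SS (a b c d e f : F3) : s φ a b c d e f ∈ SS φ := ⟨_, _, _, _, _, _, rfl⟩

theorem s_congr (h1 : a = a') (h2 : b = b') (h3 : c = c') (h4 : d = d') (h5 : e = e')
    (h6 : f = f') : s φ a b c d e f = s φ a' b' c' d' e' f' := by
  rw [h1, h2, h3, h4, h5, h6]

theorem s_conj (a b c d e f a' b' c' d' e' f' : F3) :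
    s φ a b c d e f * s φ a' b' c' d' e' f' * (s φ a b c d e f)⁻¹ =
      s φ a' (b' + a * d' - a' * d) (c' + a * e' + b * f' - a' * e - (b' + a * d' - a' * d) * f) d'
        (e' + d * f' - d' * f) f' := by
  rw [mul_inv_eq_iff_eq_mul, s_mul, s_mul]
  refine s_congr ?_ ?_ ?_ ?_ ?_ ?_ <;> ring

theorem s_cube (a b c d e f : F3) : s φ a b c d e f ^ 3 = s φ 0 0 (a * d * f) 0 0 0 := by
  have h3 : (3 : F3) = 0 := rfl
  rw [pow_succ, pow_two, s_mul, s_mul]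
  refine s_congr ?_ ?_ ?_ ?_ ?_ ?_
  · linear_combination a * h3
  · linear_combination (b + a * d) * h3
  · linear_combination (c + a * e + b * f) * h3
  · linear_combination d * h3
  · linear_combination (e + d * f) * h3
  · linear_combination f * h3

theorem s_nine (a b c d e f : F3) : s φ a b c d e f ^ 3 ^ 2 = 1 := by
  rw [pow_two, pow_mul, s_cube, s_cube, ← s_zero φ]; simp

theorem s_t2 (a b c d e f : F3) :
    φ t2 * s φ a b c d e f * (φ t2)⁻¹ = s φ (-a) (-b) c d (-e) (-f) := by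
  rw [s, ← map_inv, ← map_mul, ← map_mul, t2_conj, s]

theorem s_t3 (a b c d e f : F3) :
    φ t3 * s φ a b c d e f * (φ t3)⁻¹ = s φ a (-b) (-c) (-d) (-e) f := by
  rw [s, ← map_inv, ← map_mul, ← map_mul, t3_conj, s]

theorem s_l2 (h : α * δ - β * γ = 1) (a b c e f : F3) :
    φ (l2 α β γ δ h) * s φ a b c 0 e f * (φ (l2 α β γ δ h))⁻¹ =
      s φ (a * δ - b * γ) (b * α - a * β) c 0 (α * e + β * f) (γ * e + δ * f) := by
  rw [s, ← map_inv, ← map_mul, ← map_mul, l2_conj, s]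

theorem s_l3 (h : α * δ - β * γ = 1) (a b c d e : F3) :
    φ (l3 α β γ δ h) * s φ a b c d e 0 * (φ (l3 α β γ δ h))⁻¹ =
      s φ a (b * δ - c * γ) (c * α - b * β) (d * δ - e * γ) (e * α - d * β) 0 := by
  rw [s, ← map_inv, ← map_mul, ← map_mul, l3_conj, s]

theorem mem_Z : g ∈ zpowers (zz φ) ↔ ∃ c, g = s φ 0 0 c 0 0 0 := by
  rw [mem_zp3 (by rw [s_cube, ← s_zero φ]; simp)]
  constructor
  · rintro (rfl | rfl | rfl)
    exacts [⟨0, (s_zero φ).symm⟩, ⟨1, rfl⟩, ⟨-1, by rw [s_inv]; simp⟩]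
  · rintro ⟨c, rfl⟩
    rcases (by decide : ∀ c : F3, c = 0 ∨ c = 1 ∨ c = -1) c with rfl | rfl | rfl
    exacts [.inl (s_zero φ), .inr (.inl rfl), .inr (.inr (by rw [s_inv]; simp))]

theorem SS_le : SS φ ≤ φ.range := by rintro _ ⟨a, b, c, d, e, f, rfl⟩; exact s_mem ..
theorem QQ_le : QQ φ ≤ SS φ := by rintro _ ⟨a, b, c, e, f, rfl⟩; exact s_mem_SS ..
theorem JJ_le : JJ φ ≤ SS φ := by rintro _ ⟨b, c, d, e, rfl⟩; exact s_mem_SS ..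
theorem E1_le : E1 φ ≤ QQ φ := by rintro _ ⟨a, b, c, rfl⟩; exact ⟨_, _, _, _, _, rfl⟩
theorem E2_le : E2 φ ≤ QQ φ := by rintro _ ⟨a, b, c, rfl⟩; exact ⟨_, _, _, _, _, rfl⟩
theorem Z_le_E1 : zpowers (zz φ) ≤ E1 φ := zpowers_le.2 ⟨_, _, _, rfl⟩
theorem Z_le_E2 : zpowers (zz φ) ≤ E2 φ := zpowers_le.2 ⟨_, _, _, rfl⟩
theorem Z_le_JJ : zpowers (zz φ) ≤ JJ φ := zpowers_le.2 ⟨_, _, _, _, rfl⟩
theorem z_mem_Q : zz φ ∈ QQ φ := ⟨_, _, _, _, _, rfl⟩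

theorem SS_three : IsPGroup 3 (SS φ) := isPGroup_iff_forall.2 (by
  rintro _ ⟨a, b, c, d, e, f, rfl⟩; exact ⟨2, s_nine ..⟩)
theorem QQ_three : IsPGroup 3 (QQ φ) := SS_three.to_le QQ_le
theorem JJ_three : IsPGroup 3 (JJ φ) := SS_three.to_le JJ_le
theorem E1_three : IsPGroup 3 (E1 φ) := QQ_three.to_le E1_le
theorem E2_three : IsPGroup 3 (E2 φ) := QQ_three.to_le E2_le

theorem QQ_cube (h : g ∈ QQ φ) : g ^ 3 = 1 := by
  obtain ⟨a, b, c, e, f, rfl⟩ := h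
  rw [s_cube, ← s_zero φ]; simp

theorem JJ_cube (h : g ∈ JJ φ) : g ^ 3 = 1 := by
  obtain ⟨b, c, d, e, rfl⟩ := h
  rw [s_cube, ← s_zero φ]; simp

theorem SS_le_Ce : SS φ ≤ Ce (zz φ) := by
  rintro _ ⟨a, b, c, d, e, f, rfl⟩
  rw [H42.L3.mem_Ce', s_conj]; simp

theorem l2_mem_Ce (h : α * δ - β * γ = 1) : φ (l2 α β γ δ h) ∈ Ce (zz φ) := by
  rw [H42.L3.mem_Ce', s_l2]; simp

theorem l2_conj_Q (h : α * δ - β * γ = 1) {x : G} (hx : x ∈ QQ φ) :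
    φ (l2 α β γ δ h) * x * (φ (l2 α β γ δ h))⁻¹ ∈ QQ φ := by
  obtain ⟨a, b, c, e, f, rfl⟩ := hx
  exact ⟨_, _, _, _, _, s_l2 ..⟩

theorem t3_conj_Q {x : G} (hx : x ∈ QQ φ) : φ t3 * x * (φ t3)⁻¹ ∈ QQ φ := by
  obtain ⟨a, b, c, e, f, rfl⟩ := hx
  exact ⟨_, _, _, _, _, by rw [s_t3, neg_zero]⟩

theorem JJ_comm : JJ φ ≤ Cn (JJ φ) := by
  rintro _ ⟨b, c, d, e, rfl⟩ _ ⟨b', c', d', e', rfl⟩
  rw [s_mul, s_mul]
  refine s_congr ?_ ?_ ?_ ?_ ?_ ?_ <;> ring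

theorem E1_comm : E1 φ ≤ Cn (E1 φ) := by
  rintro _ ⟨b, c, d, rfl⟩ _ ⟨b', c', d', rfl⟩
  rw [s_mul, s_mul]
  refine s_congr ?_ ?_ ?_ ?_ ?_ ?_ <;> ring

theorem E2_comm : E2 φ ≤ Cn (E2 φ) := by
  rintro _ ⟨b, c, d, rfl⟩ _ ⟨b', c', d', rfl⟩
  rw [s_mul, s_mul]
  refine s_congr ?_ ?_ ?_ ?_ ?_ ?_ <;> ring

theorem conj_mem_E1 (hg : g ∈ φ.range) {x : G} (hx : x ∈ E1 φ) : g * x * g⁻¹ ∈ E1 φ := by
  obtain ⟨p, rfl⟩ := hg
  obtain ⟨a, b, c, rfl⟩ := hx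
  obtain ⟨a', b', c', e⟩ := conj_E1 p a b c
  exact ⟨a', b', c', by rw [s, ← map_inv, ← map_mul, ← map_mul, e, s]⟩

theorem range_le_nr_E1 : φ.range ≤ Nr (E1 φ) := fun g hg => mem_normalizer_iff.2 fun x =>
  ⟨conj_mem_E1 hg, fun h => by simpa [mul_assoc] using conj_mem_E1 (inv_mem hg) h⟩

/-- every non-trivial element of `E₁` is conjugate to `z` in `P₀` -/
theorem conj_z_E1 (h : g ∈ E1 φ) (h1 : g ≠ 1) : ∃ k ∈ φ.range, k * g * k⁻¹ = zz φ := by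
  obtain ⟨a, b, c, rfl⟩ := h
  obtain ⟨p, e⟩ := trans_E1 (a := a) (b := b) (c := c) (by
    rintro ⟨rfl, rfl, rfl⟩; exact h1 (s_zero φ))
  exact ⟨φ p, ⟨p, rfl⟩, by rw [s, ← map_inv, ← map_mul, ← map_mul, e, zz, s]⟩

/-- `C(z)` is transitive on `E₂ ∖ ⟨z⟩` -/
theorem conj_f0 (h : ¬ (e = 0 ∧ f = 0)) :
    ∃ k ∈ Ce (zz φ) ⊓ φ.range, k * s φ 0 0 c 0 e f * k⁻¹ = f0 φ := by
  obtain ⟨α, β, γ, δ, h1, h2, h3⟩ := (by decide +kernel : ∀ e f : F3, ¬ (e = 0 ∧ f = 0) →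
    ∃ α β γ δ : F3, α * δ - β * γ = 1 ∧ α * e + β * f = 1 ∧ γ * e + δ * f = 0) e f h
  refine ⟨s φ (-c) 0 0 0 0 0 * φ (l2 α β γ δ h1),
    mul_mem ⟨SS_le_Ce (s_mem_SS ..), s_mem ..⟩ ⟨l2_mem_Ce h1, _, rfl⟩, ?_⟩
  calc _ = s φ (-c) 0 0 0 0 0 * (φ (l2 α β γ δ h1) * s φ 0 0 c 0 e f * (φ (l2 α β γ δ h1))⁻¹) *
      (s φ (-c) 0 0 0 0 0)⁻¹ := by group
    _ = _ := by rw [s_l2, h2, h3, s_conj]; simp

theorem SS_le_nr_of {H : Subgroup G} [Finite G] (h : ∀ a b c d e f, ∀ x ∈ H,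
    s φ a b c d e f * x * (s φ a b c d e f)⁻¹ ∈ H) : SS φ ≤ Nr H := by
  rintro _ ⟨a, b, c, d, e, f, rfl⟩
  exact mem_normalizer_fintype (h a b c d e f)

theorem SS_le_nr_Q [Finite G] : SS φ ≤ Nr (QQ φ) := SS_le_nr_of (by
  rintro a b c d e f _ ⟨a', b', c', e', f', rfl⟩
  exact ⟨_, _, _, _, _, s_conj ..⟩)

theorem SS_le_nr_J [Finite G] : SS φ ≤ Nr (JJ φ) := SS_le_nr_of (by
  rintro a b c d e f _ ⟨b', c', d', e', rfl⟩
  exact ⟨_, _, _, _, s_conj ..⟩)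

theorem SS_le_nr_E2 [Finite G] : SS φ ≤ Nr (E2 φ) := SS_le_nr_of (by
  rintro a b c d e f _ ⟨c', e', f', rfl⟩
  exact ⟨_, _, _, (s_conj ..).trans (s_congr rfl (by ring) rfl rfl rfl rfl)⟩)

/-- coordinates on `J` -/
def vJ (φ : PP →* G) (x : Fin 4 → F3) : G := s φ 0 (x 0) (x 1) (x 2) (x 3) 0

section Inj

variable (hi : Function.Injective φ)
include hi

theorem s_inj : s φ a b c d e f = s φ a' b' c' d' e' f' ↔
    a = a' ∧ b = b' ∧ c = c' ∧ d = d' ∧ e = e' ∧ f = f' := by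
  rw [s, s, hi.eq_iff, uP_inj]

theorem s_eq_one : s φ a b c d e f = 1 ↔ a = 0 ∧ b = 0 ∧ c = 0 ∧ d = 0 ∧ e = 0 ∧ f = 0 := by
  rw [← s_zero φ, s_inj hi]

theorem s_comm : s φ a b c d e f * s φ a' b' c' d' e' f' = s φ a' b' c' d' e' f' * s φ a b c d e f ↔
    a * d' = a' * d ∧ a * e' + b * f' = a' * e + b' * f ∧ d * f' = d' * f := by
  rw [s_mul, s_mul, s_inj hi]
  refine ⟨fun ⟨_, h1, h2, _, h3, _⟩ => ⟨?_, ?_, ?_⟩, fun ⟨h1, h2, h3⟩ => ⟨?_, ?_, ?_, ?_, ?_, ?_⟩⟩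
  exacts [by linear_combination h1, by linear_combination h2, by linear_combination h3, by ring,
    by linear_combination h1, by linear_combination h2, by ring, by linear_combination h3, by ring]

theorem s_mem_Q : s φ a b c d e f ∈ QQ φ ↔ d = 0 :=
  ⟨fun ⟨_, _, _, _, _, h⟩ => ((s_inj hi).1 h).2.2.2.1, fun h => h ▸ ⟨_, _, _, _, _, rfl⟩⟩

theorem s_mem_J : s φ a b c d e f ∈ JJ φ ↔ a = 0 ∧ f = 0 :=
  ⟨fun ⟨_, _, _, _, h⟩ => ⟨((s_inj hi).1 h).1, ((s_inj hi).1 h).2.2.2.2.2⟩, by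
    rintro ⟨rfl, rfl⟩; exact ⟨_, _, _, _, rfl⟩⟩

theorem s_mem_E1 : s φ a b c d e f ∈ E1 φ ↔ d = 0 ∧ e = 0 ∧ f = 0 :=
  ⟨fun ⟨_, _, _, h⟩ => ((s_inj hi).1 h).2.2.2, by
    rintro ⟨rfl, rfl, rfl⟩; exact ⟨_, _, _, rfl⟩⟩

theorem s_mem_E2 : s φ a b c d e f ∈ E2 φ ↔ a = 0 ∧ b = 0 ∧ d = 0 :=
  ⟨fun ⟨_, _, _, h⟩ => ⟨((s_inj hi).1 h).1, ((s_inj hi).1 h).2.1, ((s_inj hi).1 h).2.2.2.1⟩, by
    rintro ⟨rfl, rfl, rfl⟩; exact ⟨_, _, _, rfl⟩⟩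

theorem s_mem_Z : s φ a b c d e f ∈ zpowers (zz φ) ↔ a = 0 ∧ b = 0 ∧ d = 0 ∧ e = 0 ∧ f = 0 := by
  rw [mem_Z]
  exact ⟨fun ⟨_, h⟩ => ⟨((s_inj hi).1 h).1, ((s_inj hi).1 h).2.1, ((s_inj hi).1 h).2.2.2⟩, by
    rintro ⟨rfl, rfl, rfl, rfl, rfl⟩; exact ⟨_, rfl⟩⟩

theorem z_ne : zz φ ≠ 1 := fun h => absurd ((s_eq_one hi).1 h).2.2.1 (by decide)

theorem orderOf_z : orderOf (zz φ) = 3 := orderOf_eq_prime (QQ_cube z_mem_Q) (z_ne hi)

theorem card_Z : Nat.card (zpowers (zz φ)) = 3 := by rw [Nat.card_zpowers, orderOf_z hi]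

theorem card_range : Nat.card φ.range = 151632 := by
  rw [← card_PP, ← Nat.card_congr (MonoidHom.ofInjective hi).toEquiv]

theorem card_SS : Nat.card (SS φ) = 729 :=
  (card_eq_of_param (fun v : F3 × F3 × F3 × F3 × F3 × F3 =>
    s φ v.1 v.2.1 v.2.2.1 v.2.2.2.1 v.2.2.2.2.1 v.2.2.2.2.2)
    (fun _ _ h => by simpa [Prod.ext_iff] using (s_inj hi).1 h)
    (fun _ => by simp only [Prod.exists]; rfl)).trans (by simp)

theorem card_QQ : Nat.card (QQ φ) = 243 :=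
  (card_eq_of_param (fun v : F3 × F3 × F3 × F3 × F3 =>
    s φ v.1 v.2.1 v.2.2.1 0 v.2.2.2.1 v.2.2.2.2)
    (fun _ _ h => by simpa [Prod.ext_iff] using (s_inj hi).1 h)
    (fun _ => by simp only [Prod.exists]; rfl)).trans (by simp)

theorem card_JJ : Nat.card (JJ φ) = 81 :=
  (card_eq_of_param (fun v : F3 × F3 × F3 × F3 => s φ 0 v.1 v.2.1 v.2.2.1 v.2.2.2 0)
    (fun _ _ h => by simpa [Prod.ext_iff] using (s_inj hi).1 h)
    (fun _ => by simp only [Prod.exists]; rfl)).trans (by simp)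

theorem card_E1 : Nat.card (E1 φ) = 27 :=
  (card_eq_of_param (fun v : F3 × F3 × F3 => s φ v.1 v.2.1 v.2.2 0 0 0)
    (fun _ _ h => by simpa [Prod.ext_iff] using (s_inj hi).1 h)
    (fun _ => by simp only [Prod.exists]; rfl)).trans (by simp)

theorem card_E2 : Nat.card (E2 φ) = 27 :=
  (card_eq_of_param (fun v : F3 × F3 × F3 => s φ 0 0 v.1 0 v.2.1 v.2.2)
    (fun _ _ h => by simpa [Prod.ext_iff] using (s_inj hi).1 h)
    (fun _ => by simp only [Prod.exists]; rfl)).trans (by simp)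

theorem isSyl_range : IsSyl 3 (SS φ) φ.range := by
  have : Finite φ.range := Nat.finite_of_card_ne_zero (by rw [card_range hi]; decide)
  refine isSyl_of_not_dvd_relIndex SS_le SS_three ?_
  have := H42.L3.relIndex_mul_card (SS_le (φ := φ))
  rw [card_SS hi, card_range hi] at this
  rw [show (SS φ).relIndex φ.range = 208 by omega]
  decide

/-- `Z(S) = ⟨z⟩` -/
theorem center_SS (h : g ∈ SS φ) (hc : g ∈ Cn (QQ φ)) : g ∈ zpowers (zz φ) := by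
  obtain ⟨a, b, c, d, e, f, rfl⟩ := h
  have h1 := (s_comm hi).1 (hc (s φ 1 0 0 0 0 0) ⟨_, _, _, _, _, rfl⟩)
  have h2 := (s_comm hi).1 (hc (s φ 0 1 0 0 0 0) ⟨_, _, _, _, _, rfl⟩)
  have h3 := (s_comm hi).1 (hc (s φ 0 0 0 0 1 0) ⟨_, _, _, _, _, rfl⟩)
  have h4 := (s_comm hi).1 (hc (s φ 0 0 0 0 0 1) ⟨_, _, _, _, _, rfl⟩)
  simp at h1 h2 h3 h4
  exact (s_mem_Z hi).2 ⟨h3.symm, h4.1.symm, h1.1, h1.2, h2⟩

theorem coordJ : H47.MC.Coord (vJ φ) (JJ φ) where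
  add x y := by simp [vJ, s_mul]
  inj x y h := by
    obtain ⟨-, h0, h1, h2, h3, -⟩ := (s_inj hi).1 h
    ext i; fin_cases i <;> assumption
  mem g := ⟨fun ⟨b, c, d, e, h⟩ => ⟨![b, c, d, e], h.symm⟩, fun ⟨_, h⟩ => ⟨_, _, _, _, h.symm⟩⟩

/-- elements of `P₀` normalising `⟨z⟩` -/
theorem dec_nz (hg : g ∈ φ.range) (h : g * zz φ * g⁻¹ ∈ zpowers (zz φ)) :
    ∃ q ∈ QQ φ, ∃ α β γ δ hd, (g ∈ Ce (zz φ) ∧ g = q * φ (l2 α β γ δ hd)) ∨
      (g * zz φ * g⁻¹ = (zz φ)⁻¹ ∧ g = q * φ (l2 α β γ δ hd) * φ t3) := by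
  obtain ⟨p, rfl⟩ := hg
  obtain ⟨c, hc⟩ := mem_Z.1 h
  obtain ⟨a, b, c', e, f, α, β, γ, δ, hd, h⟩ := nor_z (c := c) p (hi (by
    rw [map_mul, map_mul]; exact mul_inv_eq_iff_eq_mul.1 hc))
  refine ⟨s φ a b c' 0 e f, ⟨_, _, _, _, _, rfl⟩, α, β, γ, δ, hd, h.imp ?_ ?_⟩
  · rintro ⟨rfl, h1⟩
    exact ⟨H42.L3.mem_Ce'.2 hc, by rw [h1, map_mul, s]⟩
  · rintro ⟨rfl, h1⟩
    exact ⟨by rw [hc, s_inv]; simp, by rw [h1, map_mul, map_mul, s]⟩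

end Inj

section HL

variable (hl : HL φ)
include hl

/-- `C(z) = Q L₂` -/
theorem dec_cz (h : g ∈ Ce (zz φ)) : ∃ q ∈ QQ φ, ∃ α β γ δ hd, g = q * φ (l2 α β γ δ hd) := by
  obtain ⟨q, hq, α, β, γ, δ, hd, h1 | h1⟩ :=
    dec_nz hl.inj (hl.cen h) (by rw [H42.L3.mem_Ce'.1 h]; exact mem_zpowers _)
  · exact ⟨q, hq, α, β, γ, δ, hd, h1.2⟩
  · have h2 := h1.1
    rw [H42.L3.mem_Ce'.1 h, s_inv, s_inj hl.inj] at h2
    exact absurd h2.2.2.1 (by decide)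

/-- `N(⟨z⟩) ≤ P₀` -/
theorem nz_range (h : g * zz φ * g⁻¹ ∈ zpowers (zz φ)) : g ∈ φ.range := by
  obtain ⟨c, hc⟩ := mem_Z.1 h
  rcases (by decide : ∀ c : F3, c = 0 ∨ c = 1 ∨ c = -1) c with rfl | rfl | rfl
  · exact absurd (by simpa [s_zero] using hc) (z_ne hl.inj)
  · exact hl.cen (H42.L3.mem_Ce'.2 hc)
  · have h1 : φ t3 * g ∈ Ce (zz φ) := H42.L3.mem_Ce'.2 (by
      calc _ = φ t3 * (g * zz φ * g⁻¹) * (φ t3)⁻¹ := by group
        _ = _ := by rw [hc, s_t3]; simp)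
    exact (mul_mem_cancel_left (show φ t3 ∈ φ.range from ⟨t3, rfl⟩)).1 (hl.cen h1)

theorem nz_conj_Q (h : g * zz φ * g⁻¹ ∈ zpowers (zz φ)) {x : G} (hx : x ∈ QQ φ) :
    g * x * g⁻¹ ∈ QQ φ := by
  obtain ⟨a, b, c, e, f, rfl⟩ := hx
  obtain ⟨q, hq, α, β, γ, δ, hd, ⟨-, rfl⟩ | ⟨-, rfl⟩⟩ := dec_nz hl.inj (nz_range hl h) h
  · have := conj_mem_of_mem (l2_conj_Q hd (x := s φ a b c 0 e f) ⟨_, _, _, _, _, rfl⟩) hq
    simpa [mul_assoc] using this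
  · have := conj_mem_of_mem (l2_conj_Q hd (t3_conj_Q (x := s φ a b c 0 e f)
      ⟨_, _, _, _, _, rfl⟩)) hq
    simpa [mul_assoc] using this

/-- `N(⟨z⟩) ≤ N(Q)` -/
theorem nz_nr_Q [Finite G] (h : g * zz φ * g⁻¹ ∈ zpowers (zz φ)) : g ∈ Nr (QQ φ) :=
  mem_normalizer_fintype fun _ hx => nz_conj_Q hl h hx

theorem cn_Q : Cn (QQ φ) ≤ zpowers (zz φ) := fun g hg => by
  obtain ⟨b, c, d, e, f, rfl⟩ := H21.L43.cV hl (hg _ z_mem_Q).symm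
    (hg (f0 φ) ⟨_, _, _, _, _, rfl⟩).symm
  exact center_SS hl.inj (s_mem_SS ..) hg

theorem cn_J : Cn (JJ φ) ≤ JJ φ := fun g hg => by
  obtain ⟨b, c, d, e, f, rfl⟩ := H21.L43.cV hl (hg (zz φ) ⟨_, _, _, _, rfl⟩).symm
    (hg (f0 φ) ⟨_, _, _, _, rfl⟩).symm
  have := (s_comm hl.inj).1 (hg (s φ 0 1 0 0 0 0) ⟨_, _, _, _, rfl⟩)
  simp at this
  exact (s_mem_J hl.inj).2 ⟨rfl, this⟩

/-- centralisers of non-trivial elements of `E₁` lie in `P₀` -/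
theorem nE {x : G} (hx : x ∈ E1 φ) (h1 : x ≠ 1) (h : g * x * g⁻¹ ∈ E1 φ) : g ∈ φ.range := by
  obtain ⟨k, hk, e1⟩ := conj_z_E1 hx h1
  obtain ⟨l, hl', e2⟩ := conj_z_E1 h (by simpa using h1)
  have h2 : l * g * k⁻¹ ∈ Ce (zz φ) := H42.L3.mem_Ce'.2 (by
    nth_rewrite 1 [← e1]
    rw [← e2]; group)
  simpa [mul_assoc] using mul_mem (mul_mem (inv_mem hl') (hl.cen h2)) hk

theorem Ce_E1 {x : G} (hx : x ∈ E1 φ) (h1 : x ≠ 1) : Ce x ≤ φ.range := fun _ hg =>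
  nE hl hx h1 (by rwa [H42.L3.mem_Ce'.1 hg])

/-- `S` is a Sylow `3`-subgroup of `G`. -/
theorem isSyl_top [Finite G] : IsSyl 3 (SS φ) ⊤ :=
  isSyl_of_isSyl_normalizer ((isSyl_range hl.inj).of_le (le_inf le_top le_normalizer) fun g hg =>
    nz_range hl (center_SS hl.inj (conj_mem_of_mem_normalizer hg.2 (s_mem_SS ..)) fun x hx => by
      have := H42.L3.mem_Ce.1 (SS_le_Ce (conj_mem_of_mem_normalizer' hg.2 (QQ_le hx)))
      calc _ = g * (g⁻¹ * x * g * zz φ) * g⁻¹ := by group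
        _ = _ := by rw [this]; group))

end HL

end Model

end H73.L43
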