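import Cfsg.Agent.H73.L43K
import Cfsg.Agent.H12.Basic
import Cfsg.Agent.H7.Frobenius

/-! `L₄(3)`: the jobs `X` and `I0` of `blueprints/LOCAL3C.md`. -/

set_option autoImplicit false
set_option maxRecDepth 100000
set_option synthInstance.maxSize 2048
open Cfsg H56.L3 H47.L43 Subgroup H98 H14
open H42.L3 (mem_Ce mem_Ce' conj_mem_Ce)

namespace H73.L43

universe u

section General

variable {G : Type*} [Group G] [Finite G] {A K L T H : Subgroup G} {x y : G}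

/-- Generation by centralisers of elements of a non-cyclic elementary abelian `3`-group. -/
theorem gen2 (hc : A ≤ Cn A) (h3 : ∀ a ∈ A, a ^ 3 = 1) (hx : x ∈ A) (hy : y ∈ A) (h1 : x ≠ 1)
    (h2 : y ∉ zpowers x) (hn : A ≤ Nr K) (hK : (Nat.card K).Coprime 3)
    (hL : ∀ a ∈ A, a ≠ 1 → K ⊓ Ce a ≤ L) : K ≤ L := by
  have : IsMulCommutative A := le_centralizer_iff_isMulCommutative.1 hc
  obtain ⟨n, e⟩ := IsPGroup.iff_card.1
    (isPGroup_iff_forall.2 fun a ha => ⟨1, by rw [pow_one, h3 a ha]⟩ : IsPGroup 3 A)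
  refine H1.le_of_noncyclic_centralizer_le (fun hA => h2 ?_) hn (e ▸ hK.symm.pow_left n) L hL
  obtain ⟨⟨g, hg⟩, h⟩ := hA.exists_zpow_surjective
  have k : ∀ a ∈ A, a ∈ zpowers g := fun a ha => by
    obtain ⟨m, hm⟩ := h ⟨a, ha⟩
    exact ⟨m, congrArg Subtype.val hm⟩
  refine zpowers_le.2 ?_ (k y hy)
  rcases (mem_zp3 (h3 g hg)).1 (k x hx) with e | rfl | rfl
  exacts [absurd e h1, mem_zpowers _, inv_mem_iff.1 (mem_zpowers _)]

theorem eq_one_of_coprime (hK : (Nat.card K).Coprime 3) (hT : IsPGroup 3 T) (h1 : x ∈ K)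
    (h2 : x ∈ T) : x = 1 := by
  obtain ⟨k, hk⟩ := isPGroup_iff_forall.1 hT x h2
  exact orderOf_eq_one_iff.1 (Nat.eq_one_of_dvd_coprimes (hK.pow_right k)
    (orderOf_dvd_natCard K h1) (orderOf_dvd_of_pow_eq_one hk))

/-- A Sylow subgroup controlling its own fusion has a normal complement. -/
theorem le_of_ctrl {p : ℕ} [Fact p.Prime] (hT : IsSyl p T H)
    (h : ∀ x ∈ T, ∀ g ∈ H, g * x * g⁻¹ ∈ T → ∃ v ∈ T, v * x * v⁻¹ = g * x * g⁻¹)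
    (h1 : T ≤ K) (h2 : opp p H ≤ K) : H ≤ K := by
  have hn : HasNormalPComplement p H := by
    obtain ⟨P, hP⟩ := hT.exists_sylow
    refine H7.hasNPC_of_controls_fusion P fun x hx g hg => ?_
    rw [hP] at hx hg ⊢
    obtain ⟨v, hv, e⟩ := h x hx g g.2 hg
    exact ⟨⟨v, hT.le hv⟩, hv, Subtype.ext e⟩
  have i1 : K.relIndex H ∣ p ^ (Nat.card H).factorization p := by
    rw [← H36.index_pPrimeCore_of_hasNPC hn, ← opp_subgroupOf]
    exact relIndex_dvd_of_le_left H h2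
  obtain ⟨k, -, hk⟩ := (Nat.dvd_prime_pow Fact.out).1 i1
  have i2 : ¬ p ∣ K.relIndex H := fun e =>
    hT.not_dvd_relIndex (e.trans (relIndex_dvd_of_le_left H h1))
  rcases k with _ | k
  · exact relIndex_eq_one.1 hk
  · exact absurd (hk ▸ dvd_pow_self p k.succ_ne_zero) i2

end General

variable {G : Type*} [Group G] [Finite G] {φ : PP →* G} {g : G} {a b c d e f : F3}

/-- `J` is the only abelian subgroup of order at least `81` of `S`. -/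
theorem ab_J (hi : Function.Injective φ) {B : Subgroup G} (hB : B ≤ SS φ)
    (hc : ∀ a ∈ B, ∀ b ∈ B, a * b = b * a) (h : 81 ≤ Nat.card B) : B = JJ φ := by
  refine eq_of_le_of_card_ge (fun g hg => ?_) (by rwa [card_JJ hi])
  by_contra hn
  obtain ⟨a, b, c, d, e, f, rfl⟩ := hB hg
  rw [s_mem_J hi] at hn
  have h1 := H12.card_sup_mul_card_inf (hB.trans (SS_le_nr_J (φ := φ)))
  have h2 : B ⊔ JJ φ ≤ SS φ := sup_le hB JJ_le
  rw [card_JJ hi] at h1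
  have h9 : Nat.card (B ⊓ JJ φ : Subgroup G) ≤ 9 :=
    (card_le_of_param (fun v : F3 × F3 => s φ 0 (v.1 * a) v.2 0 (v.1 * f) 0) (by
      rintro _ ⟨hx, b', c', d', e', rfl⟩
      obtain ⟨k1, k2, k3⟩ := (s_comm hi).1 (hc _ hg _ hx)
      obtain ⟨k, h4, h5, h6⟩ := (by decide +kernel : ∀ a f b d e : F3, ¬ (a = 0 ∧ f = 0) →
        a * d = 0 → a * e = b * f → d * f = 0 → ∃ k, b = k * a ∧ d = 0 ∧ e = k * f) a f b' d' e' hn
        (by simpa using k1) (by simpa using k2) (by simpa using k3.symm)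
      exact ⟨(k, c'), s_congr rfl h4 rfl h5 h6 rfl⟩)).trans (by simp)
  rcases h2.eq_or_lt with h3 | h3
  · have h4 : Nat.card (B ⊓ JJ φ : Subgroup G) ≤ 3 := by
      rw [← card_Z hi]
      refine card_le_of_le fun x hx => center_SS hi (hB hx.1) (centralizer_anti (QQ_le.trans h3.ge) ?_)
      rw [centralizer_sup]
      exact ⟨fun y hy => hc y hy x hx.1, JJ_comm hx.2⟩
    rw [h3, card_SS hi] at h1
    omega
  · have h4 : Nat.card (B ⊔ JJ φ : Subgroup G) < 729 := by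
      rw [← card_SS hi]
      exact lt_of_le_of_ne (card_le_of_le h2) fun e => h3.ne (eq_of_le_of_card_ge h2 e.ge)
    nlinarith

variable (hl : HL φ)
include hl

theorem wcJ : H47.MC.WC (JJ φ) := fun P A hP hJ hA hc h81 => by
  obtain ⟨g, -, hg⟩ := (isSyl_top hl).exists_cj_le hP le_top
  have k : ∀ B ≤ P, B ≤ Cn B → Nat.card B = 81 → H98.cj g B = JJ φ := fun B h1 h2 h3 =>
    ab_J hl.inj ((cj_mono g h1).trans hg)
      (fun _ ha _ hb => ((cj_mono g h2).trans (cj_centralizer g _).le) hb _ ha)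
      (by rw [card_cj, h3])
  exact cj_inj.1 ((k A hA (fun x hx y hy => hc y hy x hx) h81).trans
    (k _ hJ JJ_comm (card_JJ hl.inj)).symm)

theorem fus {j : G} (hj : j ∈ JJ φ) (hg : g * j * g⁻¹ ∈ JJ φ) :
    ∃ n ∈ Nr (JJ φ), n⁻¹ * g ∈ Ce j := by
  obtain ⟨n, hn, h⟩ := H42.MC.wc2 (coordJ hl.inj) (wcJ hl) (g := g) (zpowers_le.2 hj) (by
    rw [H98.cj, MonoidHom.map_zpowers]; exact zpowers_le.2 hg)
  exact ⟨n, hn, mem_Ce.2 (h j (mem_zpowers j)).symm⟩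

omit [Finite G] in
theorem zq (h : g * zz φ * g⁻¹ ∈ QQ φ) : g * zz φ * g⁻¹ ∈ E1 φ ∨ g * zz φ * g⁻¹ ∈ E2 φ := by
  by_cases h1 : g * zz φ * g⁻¹ ∈ zpowers (zz φ)
  · exact .inl (Z_le_E1 h1)
  · exact (hl.ab g h h1).2.imp (fun e => e.le ⟨h, conj_mem_cj z_mem_Q⟩)
      fun e => e.le ⟨h, conj_mem_cj z_mem_Q⟩

omit [Finite G] in
/-- `C(z, y) ≤ S` -/
theorem cyz (h1 : g ∈ Ce (zz φ)) (h2 : g ∈ Ce (s φ 0 1 0 0 0 0)) : g ∈ SS φ := by
  obtain ⟨_, ⟨a, b, c, e, f, rfl⟩, α, β, γ, δ, hd, rfl⟩ := dec_cz hl h1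
  have h3 := mem_Ce'.1 h2
  rw [show ∀ q l y : G, q * l * y * (q * l)⁻¹ = q * (l * y * l⁻¹) * q⁻¹ from fun _ _ _ => by group,
    s_l2, s_conj, s_inj hl.inj] at h3
  obtain rfl : γ = 0 := by linear_combination -h3.1
  obtain rfl : α = 1 := by linear_combination h3.2.1
  obtain rfl : δ = 1 := by linear_combination hd
  exact mul_mem (s_mem_SS ..) (s_mem_SS 0 0 0 β 0 0)

omit [Finite G] in
/-- a `3'`-subgroup normalised by `x ∈ E₁`: its elements in `P₀` centralise `x` -/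
theorem mem_Ce_of_nr {K : Subgroup G} [Finite G] (hK : (Nat.card K).Coprime 3) {x : G}
    (hx : x ∈ E1 φ) (hn : x ∈ Nr K) (h1 : g ∈ K) (h2 : g ∈ φ.range) : g ∈ Ce x := by
  rw [mem_Ce', ← mul_inv_eq_one]
  refine eq_one_of_coprime hK (E1_three (φ := φ)) ?_ (mul_mem (conj_mem_E1 h2 hx) (inv_mem hx))
  simpa [mul_assoc] using mul_mem h1 (conj_mem_of_mem_normalizer hn (inv_mem h1))

/-- `⟨y, z⟩` normalises no non-trivial `3'`-subgroup. -/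
theorem sig_yz {K : Subgroup G} (hK : (Nat.card K).Coprime 3) (hn : JJ φ ⊓ E1 φ ≤ Nr K) :
    K = ⊥ := by
  have hz : zz φ ∈ JJ φ ⊓ E1 φ := ⟨⟨_, _, _, _, rfl⟩, _, _, _, rfl⟩
  have hy : s φ 0 1 0 0 0 0 ∈ JJ φ ⊓ E1 φ := ⟨⟨_, _, _, _, rfl⟩, _, _, _, rfl⟩
  refine eq_bot_iff.2 (gen2 (A := JJ φ ⊓ E1 φ) (fun x hx y hy => JJ_comm hx.1 y hy.1)
    (fun x hx => JJ_cube hx.1) hz hy
    (z_ne hl.inj) (fun e => absurd ((s_mem_Z hl.inj).1 e).2.1 (by decide)) hn hK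
    fun x hx h1 k hk => ?_)
  have h2 := Ce_E1 hl hx.2 h1 hk.2
  exact eq_one_of_coprime hK SS_three hk.1 (cyz hl (mem_Ce_of_nr hl hK hz.2 (hn hz) hk.1 h2)
    (mem_Ce_of_nr hl hK hy.2 (hn hy) hk.1 h2))

theorem sigJ : Sig (JJ φ) := fun _ hK h =>
  sig_yz hl hK fun j hj => mem_normalizer_fintype (h j hj.1)

section Cx

variable (hk : a * e + b * f ≠ 0)
include hk

omit [Finite G] in
theorem cx_nz (h1 : g ∈ Ce (s φ a b c 0 e f)) (h : g * zz φ * g⁻¹ ∈ zpowers (zz φ)) :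
    g ∈ QQ φ := by
  have h3 := mem_Ce'.1 h1
  obtain ⟨_, ⟨a', b', c', e', f', rfl⟩, α, β, γ, δ, hd, ⟨-, rfl⟩ | ⟨-, rfl⟩⟩ :=
    dec_nz hl.inj (nz_range hl h) h
  · rw [show ∀ q l y : G, q * l * y * (q * l)⁻¹ = q * (l * y * l⁻¹) * q⁻¹ from
      fun _ _ _ => by group, s_l2, s_conj, s_inj hl.inj] at h3
    obtain ⟨rfl, rfl, rfl, rfl⟩ := (by decide +kernel : ∀ α β γ δ : F3, α * δ - β * γ = 1 →
      ∀ a b : F3, a * δ - b * γ = a → b * α - a * β = b → ∀ e f : F3, α * e + β * f = e →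
      γ * e + δ * f = f → a * e + b * f ≠ 0 → α = 1 ∧ β = 0 ∧ γ = 0 ∧ δ = 1) α β γ δ hd a b h3.1
      (by linear_combination h3.2.1) e f (by linear_combination h3.2.2.2.2.1) h3.2.2.2.2.2 hk
    rw [l2_one, map_one, mul_one]
    exact ⟨_, _, _, _, _, rfl⟩
  · rw [show ∀ q l t y : G, q * l * t * y * (q * l * t)⁻¹ = q * (l * (t * y * t⁻¹) * l⁻¹) * q⁻¹ from
      fun _ _ _ _ => by group, s_t3, neg_zero, s_l2, s_conj, s_inj hl.inj] at h3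
    exact absurd ((by decide +kernel : ∀ α β γ δ : F3, α * δ - β * γ = 1 →
      ∀ a b : F3, a * δ - -b * γ = a → -b * α - a * β = b → ∀ e f : F3, α * -e + β * f = e →
      γ * -e + δ * f = f → a * e + b * f = 0) α β γ δ hd a b h3.1
      (by linear_combination h3.2.1) e f (by linear_combination h3.2.2.2.2.1) h3.2.2.2.2.2) hk

omit [Finite G] in
theorem cx_wc (h1 : g ∈ Ce (s φ a b c 0 e f)) (h : g * zz φ * g⁻¹ ∈ QQ φ) : g ∈ QQ φ := by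
  refine cx_nz hl hk h1 ?_
  by_contra hn
  have hx : s φ a b c 0 e f ∈ QQ φ := ⟨_, _, _, _, _, rfl⟩
  have h2 : s φ a b c 0 e f ∈ QQ φ ⊓ H47.L43.cj g (QQ φ) :=
    ⟨hx, mem_Ce'.1 h1 ▸ conj_mem_cj hx⟩
  rcases (hl.ab g h hn).2 with e1 | e1 <;> rw [e1] at h2
  · obtain ⟨-, rfl, rfl⟩ := (s_mem_E1 hl.inj).1 h2
    simp at hk
  · obtain ⟨rfl, rfl, -⟩ := (s_mem_E2 hl.inj).1 h2
    simp at hk

theorem cx : Ce (s φ a b c 0 e f) ≤ QQ φ := by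
  set x := s φ a b c 0 e f with hx
  have hz : zz φ ∈ QQ φ ⊓ Ce x := ⟨z_mem_Q, mem_Ce.2 (mem_Ce.1 (SS_le_Ce (s_mem_SS ..))).symm⟩
  have hp : IsPGroup 3 (QQ φ ⊓ Ce x : Subgroup G) := QQ_three.to_inf_left
  have hS : IsSyl 3 (QQ φ ⊓ Ce x) (Ce x) := isSyl_of_isSyl_normalizer ((isSyl_self hp).of_le
    (le_inf inf_le_right le_normalizer) fun g hg =>
      ⟨cx_wc hl hk hg.1 (conj_mem_of_mem_normalizer hg.2 hz).1, hg.1⟩)
  have h1 : ∀ P ≤ Ce x, IsPGroup 3 P → zz φ ∈ P → P ≤ QQ φ := fun P h1 h2 h3 => by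
    obtain ⟨m, hm, h4⟩ := hS.exists_cj_le h2 h1
    have h5 := cx_wc hl hk hm (h4 (conj_mem_cj h3)).1
    exact (cj_le_iff.1 (h4.trans inf_le_left)).trans (cj_eq_self_of_mem (inv_mem h5)).le
  refine le_of_ctrl hS (fun v hv g hg hv' => ?_) inf_le_left ?_
  · have hz' : zz φ ∈ Ce x ⊓ Ce (g * v * g⁻¹) :=
      ⟨hz.2, mem_Ce.2 (mem_Ce.1 (SS_le_Ce (QQ_le hv'.1))).symm⟩
    obtain ⟨P, hP, h2⟩ := exists_isSyl_le (p := 3) (QQ_three.to_le (zpowers_le.2 z_mem_Q))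
      (zpowers_le.2 hz')
    obtain ⟨m, hm, h3⟩ := hP.exists_cj_le (Q := H98.cj g (zpowers (zz φ)))
      (isPGroup_cj g (QQ_three.to_le (zpowers_le.2 z_mem_Q))) (by
        rw [H98.cj, MonoidHom.map_zpowers]
        exact zpowers_le.2 ⟨conj_mem_of_mem hz.2 hg,
          conj_mem_Ce (mem_Ce.2 (mem_Ce.1 (SS_le_Ce (QQ_le hv.1))).symm) g⟩)
    rw [cj_cj] at h3
    have h4 := mul_mem hm.1 hg
    refine ⟨m * g, ⟨cx_wc hl hk h4 (h1 P (hP.le.trans inf_le_left) hP.isPGroup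
      (h2 (mem_zpowers _)) (h3 (conj_mem_cj (mem_zpowers _)))), h4⟩, ?_⟩
    rw [← mem_Ce'.1 hm.2]
    group
  · have hK := coprime_card_opp (p := 3) (Ce x)
    have hn : E1 φ ⊓ Ce x ≤ Nr (opp 3 (Ce x)) := inf_le_right.trans (self_le_normalizer_opp _)
    have hz' : zz φ ∈ E1 φ ⊓ Ce x := ⟨⟨_, _, _, rfl⟩, hz.2⟩
    refine gen2 (A := E1 φ ⊓ Ce x) (y := s φ f (-e) 0 0 0 0) (fun x hx y hy => E1_comm hx.1 y hy.1)
      (fun x hx => QQ_cube (E1_le hx.1)) hz' ⟨⟨_, _, _, rfl⟩, mem_Ce.2 ((s_comm hl.inj).2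
        ⟨by ring, by ring, by ring⟩)⟩ (z_ne hl.inj) (fun e1 => hk ?_) hn hK fun y hy h2 k hk' => ?_
    · obtain ⟨rfl, h2, -⟩ := (s_mem_Z hl.inj).1 e1
      linear_combination (-a) * h2
    · refine cx_wc hl hk (opp_le _ hk'.1) ?_
      rw [mem_Ce'.1 (mem_Ce_of_nr hl hK hz'.1 (hn hz') hk'.1 (Ce_E1 hl hy.1 h2 hk'.2))]
      exact z_mem_Q

theorem xJ (g : G) : g * s φ a b c 0 e f * g⁻¹ ∉ JJ φ := fun h => by
  have h1 : H98.cj g⁻¹ (JJ φ) ≤ QQ φ := by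
    refine le_trans ?_ (cx hl hk (c := c))
    rintro _ ⟨j, hj, rfl⟩
    simpa [mul_assoc] using conj_mem_Ce (mem_Ce.2 (JJ_comm h j hj)) g⁻¹
  rw [ab_J hl.inj (h1.trans QQ_le)
    (fun _ ha _ hb => ((cj_mono g⁻¹ JJ_comm).trans (cj_centralizer g⁻¹ _).le) hb _ ha)
    (by rw [card_cj, card_JJ hl.inj])] at h1
  exact absurd ((s_mem_Q hl.inj).1 (h1 ⟨0, 0, 1, 0, rfl⟩)) (by decide)

end Cx

omit [Finite G] in
theorem uz (h : b * e - c * d ≠ 0) : ¬ IsConj (zz φ) (s φ 0 b c d e 0) := fun h1 => by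
  obtain ⟨α, β, γ, δ, hd, h2, h3, h4⟩ := (by decide +kernel : ∀ b c d e : F3, b * e - c * d ≠ 0 →
    ∃ α β γ δ : F3, α * δ - β * γ = 1 ∧ d * δ - e * γ = 0 ∧ b * δ - c * γ ≠ 0 ∧
      e * α - d * β ≠ 0) b c d e h
  obtain ⟨k, hk⟩ := isConj_iff.1 (h1.trans (isConj_iff.2 ⟨_, s_l3 hd 0 b c d e⟩))
  have h5 := zq hl (g := k) (by rw [hk]; exact (s_mem_Q hl.inj).2 h2)
  rw [hk, s_mem_E1 hl.inj, s_mem_E2 hl.inj] at h5
  exact h5.elim (fun h => h4 h.2.1) fun h => h3 h.2.1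

theorem fx : Fx φ where
  syl := by simpa using (isSyl_top hl).not_dvd_relIndex
  nE _ h1 h2 _ h3 := nE hl h1 h2 h3
  zq _ := zq hl
  cJ := cn_J hl
  ab _ := ab_J hl.inj
  fus j hj g hg := by
    obtain ⟨n, hn, h⟩ := fus hl hj hg
    refine ⟨n, hn, ?_⟩
    nth_rewrite 1 [← mem_Ce'.1 h]
    group
  sig := sigJ hl
  cx _ _ _ _ _ h := cx hl h
  xJ _ _ _ _ _ h := xJ hl h
  uz _ _ _ _ := uz hl

section I0

variable (hn : ¬ IsConj (zz φ) (f0 φ))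
include hn

omit hl [Finite G] in
theorem not_conj_E2 (h : ¬ (e = 0 ∧ f = 0)) : ¬ IsConj (zz φ) (s φ 0 0 c 0 e f) := fun h1 => by
  obtain ⟨k, -, hk⟩ := conj_f0 (φ := φ) (c := c) h
  exact hn (h1.trans (isConj_iff.2 ⟨k, hk⟩))

omit [Finite G] in
theorem mem_E1_of_Q {x : G} (h1 : IsConj (zz φ) x) (h : x ∈ QQ φ) : x ∈ E1 φ := by
  obtain ⟨g, rfl⟩ := isConj_iff.1 h1
  refine (zq hl h).elim id fun ⟨c, e, f, h2⟩ => ?_
  rw [h2] at h1 ⊢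
  by_contra h3
  exact not_conj_E2 hn (fun h4 => h3 ((s_mem_E1 hl.inj).2 ⟨rfl, h4⟩)) h1

theorem not_conj_df (hd : d ≠ 0) (hf : f ≠ 0) : g * zz φ * g⁻¹ ≠ s φ 0 b c d e f := fun h => by
  have hf' : f * f = 1 := (by decide : ∀ f : F3, f ≠ 0 → f * f = 1) f hf
  obtain ⟨m, hm, h1⟩ := ((isSyl_top hl).of_le SS_le_Ce le_top).exists_cj_le
    (Q := H98.cj g⁻¹ (JJ φ ⊓ E2 φ)) (isPGroup_cj _ JJ_three.to_inf_left) (by
      rintro _ ⟨_, ⟨hj, c', e', f', rfl⟩, rfl⟩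
      obtain rfl := ((s_mem_J hl.inj).1 hj).2
      have h2 : s φ 0 0 c' 0 e' 0 ∈ Ce (g * zz φ * g⁻¹) := by
        rw [h]; exact mem_Ce.2 ((s_comm hl.inj).2 ⟨by ring, by ring, by ring⟩)
      simpa [mul_assoc] using conj_mem_Ce h2 g⁻¹)
  rw [cj_cj] at h1
  have h2 : (m * g⁻¹) * s φ 0 b c d e f * (m * g⁻¹)⁻¹ = zz φ := by
    rw [← h]
    nth_rewrite 2 [← mem_Ce'.1 hm]
    group
  generalize m * g⁻¹ = k at h1 h2
  have hV : ∀ c e, s φ 0 0 c 0 e 0 ∈ JJ φ ⊓ E2 φ := fun c e => ⟨⟨_, _, _, _, rfl⟩, _, _, _, rfl⟩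
  obtain ⟨a1, b1, c1, d1, e1, f1, h3⟩ := h1 (conj_mem_cj (hV 1 0))
  have h4 : d1 ≠ 0 := fun e0 => by
    have h4 : k * zz φ * k⁻¹ ∈ QQ φ := h3 ▸ (s_mem_Q hl.inj).2 e0
    refine hd ((s_mem_Q hl.inj).1 (?_ : s φ 0 b c d e f ∈ QQ φ))
    rw [show s φ 0 b c d e f = k⁻¹ * zz φ * k by rw [← h2]; group]
    by_cases h5 : k * zz φ * k⁻¹ ∈ zpowers (zz φ)
    · exact conj_mem_of_mem_normalizer' (nz_nr_Q hl h5) z_mem_Q
    · exact mem_cj.1 (hl.ab k h4 h5).1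
  obtain ⟨i, hi⟩ : ∃ i, k * s φ 0 0 i 0 1 0 * k⁻¹ ∈ QQ φ := by
    obtain ⟨a2, b2, c2, d2, e2, f2, h5⟩ := h1 (conj_mem_cj (hV 0 1))
    have h6 : ∀ x y : G, k * (x * y) * k⁻¹ = k * x * k⁻¹ * (k * y * k⁻¹) := fun _ _ => by group
    rcases (by decide : ∀ x y : F3, x ≠ 0 → y = 0 ∨ x + y = 0 ∨ x + (x + y) = 0) d1 d2 h4 with
      h7 | h7 | h7
    · exact ⟨0, h5 ▸ (s_mem_Q hl.inj).2 h7⟩
    · refine ⟨1, ?_⟩
      rw [show s φ 0 0 1 0 1 0 = s φ 0 0 1 0 0 0 * s φ 0 0 0 0 1 0 by rw [s_mul]; simp, h6, h3, h5,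
        s_mul]
      exact (s_mem_Q hl.inj).2 h7
    · refine ⟨1 + 1, ?_⟩
      rw [show s φ 0 0 (1 + 1) 0 1 0 = s φ 0 0 1 0 0 0 * (s φ 0 0 1 0 0 0 * s φ 0 0 0 0 1 0) by
        rw [s_mul, s_mul]; simp, h6, h6, h3, h5, s_mul, s_mul]
      exact (s_mem_Q hl.inj).2 h7
  have h5 : IsConj (zz φ) (zz φ * (k * s φ 0 0 i 0 1 0 * k⁻¹)) := by
    refine (isConj_iff.2 ⟨g, h⟩).trans
      ((isConj_iff.2 ⟨_, s_conj 0 (i * f) 0 f 0 0 0 b c d e f⟩).trans (isConj_iff.2 ⟨k, ?_⟩))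
    rw [← h2, show ∀ x y : G, k * x * k⁻¹ * (k * y * k⁻¹) = k * (x * y) * k⁻¹ from
      fun _ _ => by group, s_mul]
    congr 2
    refine s_congr ?_ ?_ ?_ ?_ ?_ ?_
    exacts [by ring, by ring, by linear_combination i * hf', by ring, by linear_combination hf',
      by ring]
  obtain ⟨l, -, h6⟩ := conj_z_E1 ((mul_mem_cancel_left (Z_le_E1 (mem_zpowers _))).1
    (mem_E1_of_Q hl hn h5 (mul_mem z_mem_Q hi))) (by
      simpa using fun e => absurd ((s_eq_one hl.inj).1 e).2.2.2.2.1 (by decide))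
  exact not_conj_E2 hn (c := i) (e := 1) (f := 0) (by decide)
    ((isConj_iff.2 ⟨k, rfl⟩).trans (isConj_iff.2 ⟨l, h6⟩)).symm

theorem sc : SC φ := fun g hg => by
  have : Finite φ.range := inferInstance
  obtain ⟨m, hm, h1⟩ := (isSyl_range hl.inj).exists_cj_le (Q := H98.cj g (zpowers (zz φ)))
    (isPGroup_cj g (QQ_three.to_le (zpowers_le.2 z_mem_Q))) (by
      rw [H98.cj, MonoidHom.map_zpowers]; exact zpowers_le.2 hg)
  rw [cj_cj] at h1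
  refine (mul_mem_cancel_left hm).1 ?_
  obtain ⟨a, b, c, d, e, f, h⟩ := h1 (conj_mem_cj (mem_zpowers _))
  generalize m * g = k at h
  have h2 : a * d * f = 0 := by
    have := s_cube (φ := φ) a b c d e f
    rw [← h, conj_pow, QQ_cube z_mem_Q, mul_one, mul_inv_cancel, eq_comm, s_eq_one hl.inj] at this
    exact this.2.2.1
  have key : ∀ k : G, k * zz φ * k⁻¹ ∈ QQ φ → k ∈ φ.range := fun k hk =>
    nE hl (Z_le_E1 (mem_zpowers _)) (z_ne hl.inj) (mem_E1_of_Q hl hn (isConj_iff.2 ⟨k, rfl⟩) hk)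
  by_cases hd : d = 0
  · exact key k (h ▸ (s_mem_Q hl.inj).2 hd)
  by_cases hf : f = 0
  · subst hf
    obtain ⟨α, β, γ, δ, h3, h4⟩ := (by decide +kernel : ∀ d e : F3,
      ∃ α β γ δ : F3, α * δ - β * γ = 1 ∧ d * δ - e * γ = 0) d e
    refine (mul_mem_cancel_left (show φ (l3 α β γ δ h3) ∈ φ.range from ⟨_, rfl⟩)).1 (key _ ?_)
    rw [show ∀ l : G, l * k * zz φ * (l * k)⁻¹ = l * (k * zz φ * k⁻¹) * l⁻¹ from
      fun _ => by group, h, s_l3]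
    exact (s_mem_Q hl.inj).2 h4
  · obtain rfl : a = 0 := by simpa [hd, hf] using h2
    exact absurd h (not_conj_df hl hn hd hf)

end I0

omit hl in
theorem jobX : JobX.{u} := fun _ _ _ _ hl => fx hl

omit hl in
theorem jobI0 : JobI0.{u} := fun _ _ _ _ hl _ hn => sc hl hn

end H73.L43
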