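import Cfsg.Agent.H73.LyB
/-! Kernel checks. -/
set_option maxRecDepth 1000000
set_option Elab.async false
set_option linter.unusedVariables false
namespace H73.LyT
open H71 (Tr nth evw linv gen maskL winv mkRule Sat)
theorem b_env : envOK PL.mul PL.one 160173 CB (2 * 38) 77 = true := by decide +kernel
theorem b_rel0 : relsE PL.mul 160173 CB 76 (maskL LB) Lys.R 0 [((.l 0),(.m (.s (.s (.l 1))) (.m (.s (.l 1)) (.l 1)))),((.l 2),(.s (.s (.l 3)))),((.l 0),(.m (.s (.m (.l 3) (.l 1))) (.m (.m (.l 3) (.l 1)) (.l 3)))),((.s (.l 1)),(.m (.m (.l 3) (.l 1)) (.m (.l 1) (.l 2)))),((.l 1),(.m (.s (.m (.m (.l 3) (.l 1)) (.m (.l 2) (.l 0)))) (.m (.m (.l 3) (.l 1)) (.l 2)))),((.l 8),(.l 4)),((.l 10),(.m (.l 1) (.m (.l 4) (.l 0)))),((.l 12),(.m (.l 3) (.m (.l 4) (.l 2)))),((.l 14),(.m (.l 2) (.m (.l 4) (.l 3)))),((.l 16),(.m (.m (.l 9)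 (.l 11)) (.m (.l 8) (.l 10)))),((.l 8),(.s (.s (.l 9)))),((.l 16),(.s (.s (.l 17)))),((.l 9),(.m (.l 17) (.m (.l 9) (.l 16)))),((.l 11),(.m (.l 17) (.m (.l 11) (.l 16)))),((.l 13),(.m (.m (.l 17) (.l 13)) (.l 16))),((.l 15),(.m (.m (.l 17) (.l 15)) (.l 16))),((.l 9),(.m (.m (.s (.l 17)) (.l 13)) (.m (.l 9) (.l 12)))),((.l 9),(.m (.s (.l 16)) (.m (.m (.l 15) (.l 9)) (.l 14)))),((.l 11),(.m (.m (.l 17) (.l 13)) (.m (.l 11) (.l 12)))),((.l 11),(.m (.l 15) (.m (.l 11) (.l 14)))),((.l 13),(.m (.m (.l 17) (.l 15)) (.m (.l 13) (.l 14)))),((.l 1),(.m (.s (.l 9)) (.m (.l 1) (.l 11)))),((.l 1),(.m (.s (.l 13)) (.m (.m (.m (.l 8) (.l 14)) (.l 1)) (.l 13)))),((.l 1),(.m (.m (.l 8) (.l 11)) (.m (.m (.l 13) (.l 14)) (.m (.m (.m (.l 8) (.l 14)) (.l 1)) (.l 15))))),((.l 1),(.m (.s (.l 16)) (.m (.l 1) (.l 17)))),((.l 3),(.m (.m (.l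 10) (.m (.l 12) (.m (.l 15) (.l 9)))) (.m (.l 15) (.m (.l 3) (.l 11))))),((.l 3),(.m (.m (.l 8) (.m (.l 8) (.l 14))) (.m (.s (.l 13)) (.m (.l 3) (.l 13))))),((.l 3),(.m (.l 16) (.m (.l 3) (.l 17)))),((.m (.m (.m (.l 76) (.l 7)) (.m (.m (.l 9) (.l 7)) (.l 2))) (.m (.m (.l 1) (.l 3)) (.m (.m (.l 9) (.l 7)) (.m (.l 1) (.m (.l 9) (.l 0)))))),(.m (.m (.l 3) (.m (.l 3) (.l 1))) (.m (.m (.l 9) (.l 0)) (.l 8)))),((.l 76),(.l 76)),((.s (.m (.l 76) (.l 8))),(.m (.l 2) (.m (.l 12) (.l 2)))),((.l 76),(.m (.m (.m (.l 2) (.m (.l 2) (.l 0))) (.m (.l 10) (.l 9))) (.m (.m (.l 15) (.l 1)) (.m (.l 76) (.l 13))))),((.l 76),(.m (.s (.l 2)) (.m (.m (.l 13) (.l 14)) (.m (.l 76) (.l 15))))),((.l 76),(.m (.m (.m (.l 8) (.l 13)) (.l 8)) (.m (.m (.l 15) (.l 76)) (.l 17)))),((.l 76),(.m (.m (.m (.l 0) (.m (.l 2) (.m (.l 2) (.l 0)))) (.m (.l 3)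 (.l 0))) (.m (.m (.l 8) (.l 16)) (.m (.m (.l 15) (.l 76)) (.s (.l 1)))))),((.l 76),(.m (.m (.m (.l 8) (.l 13)) (.l 15)) (.m (.m (.l 15) (.l 76)) (.l 3))))] = true := by decide +kernel
theorem b_rel1 : relsE PL.mul 160173 CB 76 (maskL LB) Lys.R 36 [((.l 76),(.m (.m (.m (.s (.l 0)) (.l 8)) (.m (.l 16) (.l 15))) (.m (.m (.l 76) (.m (.l 1) (.l 2))) (.m (.m (.l 1) (.l 3)) (.m (.l 3) (.l 1)))))),((.m (.l 76) (.l 10)),(.m (.m (.m (.s (.l 1)) (.l 1)) (.m (.l 13) (.l 1))) (.m (.m (.l 14) (.l 11)) (.m (.m (.l 76) (.l 10)) (.l 76))))),((.l 6),(.m (.m (.m (.m (.l 0) (.s (.l 2))) (.m (.l 1) (.l 3))) (.m (.l 9) (.m (.l 15) (.l 17)))) (.m (.m (.m (.l 0) (.l 76)) (.m (.m (.l 0) (.l 76)) (.l 0))) (.m (.l 11) (.m (.l 2) (.l 76)))))),((.l 6),(.m (.s (.l 0)) (.m (.s (.l 0)) (.l 7)))),((.l 3),(.m (.m (.l 7) (.l 3)) (.l 6))),((.l 7),(.m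 (.m (.s (.l 0)) (.l 0)) (.m (.l 7) (.l 1)))),((.l 6),(.m (.s (.m (.l 17) (.l 7))) (.m (.s (.m (.l 17) (.l 7))) (.l 17)))),((.m (.m (.m (.l 6) (.l 16)) (.l 6)) (.m (.l 17) (.m (.l 6) (.l 16)))),(.s (.l 0))),((.l 20),(.l 0)),((.l 22),(.m (.l 2) (.m (.l 0) (.l 3)))),((.m (.l 24) (.s (.l 2))),(.m (.s (.l 2)) (.l 0))),((.m (.l 26) (.s (.l 3))),(.m (.s (.l 3)) (.l 0))),((.l 28),(.s (.l 0))),((.l 30),(.l 6)),((.l 32),(.l 7)),((.l 34),(.m (.m (.m (.s (.l 2)) (.m (.m (.l 1) (.l 3)) (.l 1))) (.m (.m (.m (.s (.l 2)) (.l 5)) (.m (.l 0) (.l 4))) (.m (.l 1) (.l 5)))) (.m (.m (.l 6) (.l 5)) (.m (.m (.s (.l 2)) (.l 1)) (.m (.l 4) (.l 2)))))),((.l 36),(.m (.m (.m (.l 0) (.m (.l 2) (.l 1))) (.m (.m (.m (.s (.l 2)) (.l 1)) (.m (.m (.s (.l 2)) (.l 5)) (.m (.l 0) (.l 4)))) (.m (.l 2) (.l 4)))) (.m (.m (.l 3) (.m (.l 6) (.l 4))) (.m (.m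 (.s (.l 3)) (.l 6)) (.m (.m (.l 4) (.l 2)) (.l 4)))))),((.l 38),(.m (.m (.l 5) (.l 7)) (.m (.m (.l 1) (.l 5)) (.m (.m (.l 1) (.l 2)) (.m (.l 5) (.l 7)))))),((.l 40),(.m (.l 2) (.l 6))),((.l 42),(.m (.l 7) (.l 3))),((.m (.l 44) (.m (.m (.m (.l 1) (.l 3)) (.l 4)) (.m (.l 1) (.l 2)))),(.m (.m (.m (.l 1) (.l 3)) (.m (.l 1) (.l 2))) (.l 5))),((.m (.m (.l 46) (.m (.l 3) (.l 5))) (.m (.l 3) (.l 0))),(.m (.s (.l 3)) (.m (.l 0) (.l 4)))),((.m (.l 48) (.m (.m (.l 1) (.l 3)) (.l 1))),(.m (.m (.m (.l 1) (.l 3)) (.l 1)) (.l 4))),((.m (.l 50) (.m (.l 3) (.m (.l 1) (.l 2)))),(.m (.m (.l 3) (.m (.l 1) (.l 2))) (.l 4))),((.m (.m (.l 52) (.l 4)) (.m (.m (.s (.l 2)) (.l 5)) (.m (.l 1) (.l 3)))),(.m (.s (.l 2)) (.m (.m (.l 1) (.l 3)) (.l 4)))),((.l 54),(.m (.s (.l 1)) (.l 1))),((.l 56),(.m (.l 2) (.m (.m (.m (.l 1) (.l 3)) (.l 1)) (.l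 1)))),((.m (.l 58) (.m (.l 0) (.s (.l 2)))),(.m (.m (.l 0) (.s (.l 2))) (.l 0))),((.m (.m (.l 60) (.l 2)) (.m (.m (.m (.l 1) (.l 3)) (.m (.l 1) (.l 2))) (.l 1))),(.m (.m (.m (.l 1) (.l 6)) (.m (.m (.l 3) (.l 5)) (.m (.m (.l 1) (.l 2)) (.m (.l 5) (.l 7))))) (.m (.m (.l 2) (.l 5)) (.m (.l 3) (.m (.l 1) (.l 5))))))] = true := by decide +kernel
theorem b_rel2 : relsE PL.mul 160173 CB 76 (maskL LB) Lys.R 65 [((.m (.m (.l 62) (.m (.l 6) (.m (.l 2) (.l 5)))) (.m (.l 0) (.m (.l 5) (.m (.l 1) (.l 5))))),(.m (.m (.m (.l 0) (.s (.l 3))) (.m (.m (.l 1) (.l 4)) (.m (.l 2) (.l 5)))) (.m (.m (.m (.l 2) (.l 1)) (.l 5)) (.m (.l 5) (.l 6))))),((.m (.l 64) (.m (.m (.m (.m (.m (.m (.m (.m (.m (.l 5) (.l 3)) (.m (.l 5) (.l 7))) (.l 2)) (.m (.l 2) (.m (.l 5) (.l 7)))) (.m (.l 3) (.l 5))) (.s (.l 3))) (.l 5)) (.m (.m (.l 2) (.l 0)) (.l 2)))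 (.m (.m (.l 2) (.l 0)) (.l 2)))),(.m (.l 2) (.l 0))),((.m (.l 66) (.m (.l 2) (.l 0))),(.m (.m (.m (.m (.m (.m (.m (.m (.m (.l 5) (.l 3)) (.m (.l 5) (.l 7))) (.l 2)) (.m (.l 2) (.m (.l 5) (.l 7)))) (.m (.l 3) (.l 5))) (.s (.l 3))) (.l 5)) (.m (.m (.l 2) (.l 0)) (.l 2))) (.m (.m (.l 2) (.l 0)) (.l 2)))),((.l 68),(.m (.m (.m (.m (.m (.l 1) (.m (.l 5) (.l 7))) (.l 0)) (.m (.l 5) (.l 3))) (.m (.l 0) (.m (.l 5) (.l 7)))) (.m (.m (.m (.l 1) (.l 5)) (.m (.l 0) (.l 4))) (.m (.s (.l 3)) (.m (.m (.l 5) (.l 3)) (.m (.l 1) (.s (.l 3)))))))),((.m (.l 70) (.s (.m (.m (.l 2) (.l 1)) (.l 2)))),(.m (.m (.m (.l 1) (.m (.l 5) (.l 7))) (.m (.m (.l 2) (.l 1)) (.l 3))) (.m (.m (.l 5) (.l 7)) (.m (.m (.l 2) (.l 1)) (.m (.l 3) (.l 5)))))),((.l 72),(.m (.m (.m (.l 7) (.m (.l 0) (.l 4))) (.m (.l 2) (.m (.l 4) (.m (.m (.l 1) (.m (.l 5) (.l 7)))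 (.l 0))))) (.m (.m (.l 3) (.m (.l 1) (.l 4))) (.m (.m (.l 1) (.s (.l 3))) (.m (.l 1) (.m (.l 2) (.l 1))))))),((.l 74),(.m (.m (.m (.l 5) (.m (.l 1) (.l 4))) (.m (.m (.l 2) (.m (.l 5) (.l 7))) (.l 4))) (.m (.m (.m (.l 1) (.l 4)) (.m (.l 0) (.l 4))) (.m (.m (.l 3) (.l 1)) (.m (.m (.l 3) (.l 1)) (.l 2)))))),((.l 19),(.m (.l 44) (.m (.l 19) (.l 9)))),((.l 19),(.m (.l 46) (.m (.l 19) (.l 11)))),((.l 19),(.m (.l 48) (.m (.l 19) (.l 13)))),((.l 19),(.m (.l 50) (.m (.l 19) (.l 15)))),((.l 19),(.m (.l 52) (.m (.l 19) (.l 17)))),((.l 19),(.m (.l 54) (.m (.l 19) (.l 21)))),((.l 19),(.m (.l 56) (.m (.l 19) (.l 23)))),((.l 19),(.m (.l 58) (.m (.l 19) (.l 25)))),((.l 18),(.m (.l 28) (.l 19))),((.m (.m (.l 26) (.l 18)) (.s (.m (.l 26) (.l 18)))),(.l 29)),((.l 38),(.m (.m (.l 19) (.l 69)) (.m (.l 19) (.m (.l 61) (.l 19))))),((.l 19),(.m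 (.m (.l 37) (.m (.l 19) (.l 31))) (.m (.m (.l 19) (.l 71)) (.m (.l 18) (.l 33))))),((.l 18),(.m (.m (.l 73) (.m (.l 18) (.l 67))) (.m (.m (.l 18) (.l 63)) (.m (.l 19) (.l 65))))),((.l 18),(.m (.m (.l 75) (.m (.l 18) (.l 43))) (.m (.m (.l 18) (.l 35)) (.m (.l 19) (.l 41)))))] = true := by decide +kernel
theorem b_E : Nat.beq (PL.mul E E) E = true := by decide +kernel
theorem b_stab : stabL PL.mul 160173 CB E [0,1,2,3,4,5,6,7,8,9,10,11,12,13,14,15,16,17,76] = true := by decide +kernel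
theorem b_mov : movesE PL.mul PL.one 160173 CB (maskL LB) E 1 LV 5 uw = true := by decide +kernel
theorem b_ord0a : ordE PL.mul PL.one 160173 CB (maskL LB) (.m (.m (.l 1) (.l 7)) (.m (.l 18) (.m (.l 7) (.l 5)))) [true,true,false,false,false,false,true] = true := by decide +kernel
theorem b_ord0b : ordE PL.mul PL.one 160173 CB (maskL LB) (.m (.m (.l 4) (.m (.l 6) (.l 19))) (.m (.l 6) (.m (.l 0) (.l 18)))) [true,true,false,true] = true := by decide +kernel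
theorem b_ord1a : ordE PL.mul PL.one 160173 CB (maskL LB) (.m (.m (.l 19) (.l 2)) (.m (.l 4) (.m (.l 3) (.l 6)))) [true,false,true,false,false,true] = true := by decide +kernel
theorem b_ord1b : ordE PL.mul PL.one 160173 CB (maskL LB) (.m (.m (.l 7) (.m (.l 2) (.l 5))) (.m (.l 3) (.m (.l 18) (.l 0)))) [true,true,false,true] = true := by decide +kernel
theorem b_ord2a : ordE PL.mul PL.one 160173 CB (maskL LB) (.m (.m (.l 1) (.l 7)) (.m (.l 19) (.l 5))) [true,false,true,false,false,true] = true := by decide +kernel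
theorem b_ord2b : ordE PL.mul PL.one 160173 CB (maskL LB) (.m (.m (.l 4) (.l 18)) (.m (.l 6) (.m (.l 0) (.l 2)))) [true,true,false,false,false,false,true] = true := by decide +kernel
theorem b_ord3a : ordE PL.mul PL.one 160173 CB (maskL LB) (.m (.m (.l 7) (.l 4)) (.m (.l 19) (.m (.l 4) (.l 3)))) [true,true,false,false,false,false,true] = true := by decide +kernel
theorem b_ord3b : ordE PL.mul PL.one 160173 CB (maskL LB) (.m (.m (.l 2) (.m (.l 5) (.l 18))) (.m (.l 5) (.m (.l 6) (.l 4)))) [true,true,false,true] = true := by decide +kernel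
theorem b_ord4b : ordE PL.mul PL.one 160173 CB (maskL LB) (.m (.m (.l 0) (.l 19)) (.m (.l 4) (.l 6))) [true,false,true,false,false,true] = true := by decide +kernel
end H73.LyT
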