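import Cfsg.Agent.H73.LyD
/-! Kernel checks. -/
set_option maxRecDepth 1000000
set_option Elab.async false
set_option linter.unusedVariables false
namespace H73.LyT
open H71 (Tr nth evw linv gen maskL winv mkRule Sat)
theorem c_for1_0 : forestOK (relZ (relC P.mul) P.mul P.zc) (labE 441 F ML1) (rIdx 14 RI1 3906) 441 T 21 Rc1 2 4 3906 16 4 0 104 = true := by decide +kernel
theorem c_for1_1 : forestOK (relZ (relC P.mul) P.mul P.zc) (labE 441 F ML1) (rIdx 14 RI1 3906) 441 T 21 Rc1 2 4 3906 16 4 104 19 = true := by decide +kernel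
theorem c_lab1 : labsOK F 878 (fld LV 1) ML1 2 = true := by decide +kernel
theorem c_root1_0 : rootsOK (relZ (relC P.mul) P.mul P.zc) P.mul 441 F 878 (fld LV 1) LV 5 be 441 T 3906 RT 5 14 RI1 12 ET1 0 4 = true := by decide +kernel
theorem c_tot1 : Nat.beq (rowTot (eCol 12 ET1 5 5) 5 274877906944 21 Rc1 2 4 3906 16) (nth tots 0 1) = true := by decide +kernel
theorem c_for2_0 : forestOK (relZ (relC P.mul) P.mul P.zc) (labE 441 F ML2) (rIdx 14 RI2 3906) 441 T 22 Rc2 2 4 3906 16 5 0 104 = true := by decide +kernel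
theorem c_for2_1 : forestOK (relZ (relC P.mul) P.mul P.zc) (labE 441 F ML2) (rIdx 14 RI2 3906) 441 T 22 Rc2 2 4 3906 16 5 104 19 = true := by decide +kernel
theorem c_lab2 : labsOK F 878 (fld LV 2) ML2 2 = true := by decide +kernel
theorem c_root2_0 : rootsOK (relZ (relC P.mul) P.mul P.zc) P.mul 441 F 878 (fld LV 2) LV 5 be 441 T 3906 RT 5 14 RI2 12 ET2 0 5 = true := by decide +kernel
theorem c_tot2 : Nat.beq (rowTot (eCol 12 ET2 5 5) 5 274877906944 22 Rc2 2 4 3906 16) (nth tots 0 2) = true := by decide +kernel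
theorem c_for3_0 : forestOK (relZ (relC P.mul) P.mul P.zc) (labE 441 F ML3) (rIdx 14 RI3 3906) 441 T 22 Rc3 2 4 3906 16 9 0 104 = true := by decide +kernel
theorem c_for3_1 : forestOK (relZ (relC P.mul) P.mul P.zc) (labE 441 F ML3) (rIdx 14 RI3 3906) 441 T 22 Rc3 2 4 3906 16 9 104 19 = true := by decide +kernel
theorem c_lab3 : labsOK F 878 (fld LV 3) ML3 2 = true := by decide +kernel
theorem c_root3_0 : rootsOK (relZ (relC P.mul) P.mul P.zc) P.mul 441 F 878 (fld LV 3) LV 5 be 441 T 3906 RT 5 14 RI3 12 ET3 0 9 = true := by decide +kernel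
theorem c_tot3 : Nat.beq (rowTot (eCol 12 ET3 5 5) 5 274877906944 22 Rc3 2 4 3906 16) (nth tots 0 3) = true := by decide +kernel
theorem c_for4_0 : forestOK (relZ (relC P.mul) P.mul P.zc) (labE 441 F ML4) (rIdx 14 RI4 3906) 441 T 23 Rc4 2 4 3906 18 10 0 104 = true := by decide +kernel
theorem c_for4_1 : forestOK (relZ (relC P.mul) P.mul P.zc) (labE 441 F ML4) (rIdx 14 RI4 3906) 441 T 23 Rc4 2 4 3906 18 10 104 19 = true := by decide +kernel
theorem c_lab4 : labsOK F 878 (fld LV 4) ML4 2 = true := by decide +kernel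
theorem c_root4_0 : rootsOK (relZ (relC P.mul) P.mul P.zc) P.mul 441 F 878 (fld LV 4) LV 5 be 441 T 3906 RT 5 14 RI4 13 ET4 0 10 = true := by decide +kernel
theorem c_tot4 : Nat.beq (rowTot (eCol 13 ET4 5 5) 5 274877906944 23 Rc4 2 4 3906 18) (nth tots 0 4) = true := by decide +kernel
theorem c_lab : labW P.mul P.one 441 CV (maskL LL) (labE 441 F ML0) lab0 = true := by decide +kernel
theorem c_beta : Nat.beq (get2 441 T (rIdx 11 RI0 3906 0)) be = true := by decide +kernel
theorem c_stat : statOK 5 (3906 * 5) 274877906944 (nth ns 0) (nth tots 0) = true := by decide +kernel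
theorem c_sub : subsetOK 8835156 (nth ns 0) 4 1 = true := by decide +kernel
end H73.LyT
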