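import Cfsg.Agent.H73.LyC0
import Cfsg.Agent.H73.LyC1
import Cfsg.Agent.H71.GiantLy
/-! The double coset table of Cfsg.Spor.Ly. -/
set_option maxRecDepth 1000000
set_option Elab.async false
set_option linter.unusedVariables false
namespace H73.LyT
open H71 (Tr nth evw linv gen maskL winv mkRule Sat)
theorem  hJ : Lys.JobC := H71.GiantLy.jobC
noncomputable abbrev S := (P.sys Pok)
noncomputable abbrev Q := (P.ptsPC Pok)
noncomputable def cv := (exists_env S (fun _ => rfl) c_env).choose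
theorem hcv : ∀ l < 77, S.R (get2 441 CV l) (cv l) := (exists_env S (fun _ => rfl) c_env).choose_spec.1
theorem hcL : ∀ l ∈ LL, S.R (get2 441 CV l) (cv l) := fun l hl => hcv l ((by decide : ∀ l ∈ LL, l < 77) l hl)
theorem satC : Sat 76 77 (Lys.R.take 72) cv := ⟨(exists_env S (fun _ => rfl) c_env).choose_spec.2.2,
  (exists_env S (fun _ => rfl) c_env).choose_spec.2.1 77 le_rfl, relsOne_spec hcL c_relC⟩
def dR : List (List ℕ) := [[20,1],[22,2,1,3],[24,2,2,1,3,3],[26,3,3,1,2,2],[28,1,1],[30,7],[32,6],[34,3,5,0,3,3,4,7,4,0,5,1,4,3,3,0,2,0,3,3],[36,5,3,5,7,2,2,5,7,2,5,3,5,1,4,3,3,0,3,3,0,3,1],[38,6,4,3,0,4,0,6,4],[40,7,3],[42,2,6],[44,1,3,4,1,2,4,3,0,2,0],[46,3,5,3,0,5,1,2,2],[48,1,3,1,5,0,2,0],[50,3,1,2,5,3,0,2],[52,4,2,2,5,1,3,5,2,0,3,3],[54,0,0,0],[56,0,0,2,0,3],[58,0,2,2,1,3,3,1],[60,2,1,3,1,2,1,4,0,2,4,3,6,4,3,0,4,2,7,0],[62,6,2,5,0,5,1,5,7,4,4,0,3,4,3,5,0,2,2,1],[64,5,3,5,7,2,2,5,7,3,5,3,3,5,2,0,2,2,0,2,1,3],[66,2,0,3,1,3,3,1,3,4,2,2,4,2,6,4,3,3,6,4,2,4],[68,2,2,0,2,4,2,2,5,1,4,0,6,4,1,2,4,1,6,4,0],[70,2,1,2,2,1,2,4,2,0,3,6,4,2,0,3,6,4,0],[72,0,3,0,2,2,0,5,0,2,1,6,4,0,5,3,5,1,6],[74,3,0,2,0,2,5,1,5,0,5,6,4,3,5,0,4]]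
theorem dR_sub : ∀ r ∈ dR, r ∈ Lys.R.take 72 := by decide +kernel
noncomputable abbrev H := gen cv LG
noncomputable instance : Fintype H := Fintype.ofFinite _
noncomputable abbrev K := tgen S 441 PA 8
theorem letIn : LetIn S H 441 CV LL := letIn_of_mem hcv (ext_mem satC.hv (fun r hr => satC.hR r (dR_sub r hr))
  (fun l hl => H71.mem_gen cv hl) (by decide +kernel)) (by decide +kernel)
theorem KH : TabIn S 441 PA 8 H := wordsL_in letIn c_wa
theorem PAK : TabIn S 441 PA 3237 K := (KH.self.step c_slpA0 (hi := 3237) rfl)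
theorem for0 : Forest Q.rel (labE 441 F ML0) (rIdx 11 RI0 3906) 441 T 20 Rc0 3 4 3906 16 1 0 3936 := ((forestOK_spec c_for0_0).append (forestOK_spec c_for0_1))
theorem for1 : Forest Q.rel (labE 441 F ML1) (rIdx 14 RI1 3906) 441 T 21 Rc1 2 4 3906 16 4 0 3936 := ((forestOK_spec c_for1_0).append (forestOK_spec c_for1_1))
theorem for2 : Forest Q.rel (labE 441 F ML2) (rIdx 14 RI2 3906) 441 T 22 Rc2 2 4 3906 16 5 0 3936 := ((forestOK_spec c_for2_0).append (forestOK_spec c_for2_1))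
theorem for3 : Forest Q.rel (labE 441 F ML3) (rIdx 14 RI3 3906) 441 T 22 Rc3 2 4 3906 16 9 0 3936 := ((forestOK_spec c_for3_0).append (forestOK_spec c_for3_1))
theorem for4 : Forest Q.rel (labE 441 F ML4) (rIdx 14 RI4 3906) 441 T 23 Rc4 2 4 3906 18 10 0 3936 := ((forestOK_spec c_for4_0).append (forestOK_spec c_for4_1))
theorem low : LowH Q H K be 3906 441 T 441 RT 5 300000 :=
  ⟨for0.reach1 Q (by decide) (by decide) (labW_spec letIn c_lab) c_beta, sortedOK_spec Q c_sorted, fixOK_spec Q KH c_kfix,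
   fixT_spec Q (wordsL_in letIn c_rw) c_rfix, sepOK_spec c_sep, lowK_of_chain Q PAK (sortedOK_spec Q c_sorted) c_chain (by decide)⟩
theorem satS : Sat 76 77 (Lys.R.take 72) (H71.pairVal Lys.val cv) := (Lys.sat.mono fun r hr => List.mem_of_mem_take hr).pair satC
theorem exφ : Nat.card H = 5859000000 ∧ ∃ φ : H →* Cfsg.Spor.Ly, (∀ l (h : l ∈ LG), φ ⟨cv l, H71.mem_gen cv h⟩ = Lys.val l) ∧ φ.range = gen Lys.val LG :=
  (exists_hom_of_bound Lys.val cv LG (by
    have := hJ (sat_recode satS (fun l => if l < 18 then l else l + 58) (fun l => by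
      simp only [H71.linv_eq]
      by_cases h : l < 18
      · interval_cases l <;> rfl
      · rw [if_pos (show 18 ≤ l by omega), if_neg h, if_pos (show 76 ≤ l + 58 by omega)]) rfl (by decide +kernel))
    rwa [H71.Bd, gen_map] at this) low.card).2
noncomputable def φ : H →* Cfsg.Spor.Ly := exφ.2.choose
theorem range_φ : φ.range = gen Lys.val LG := exφ.2.choose_spec.2
theorem lets : Lets S φ Lys.val 441 CV LL := lets_of_graph hcv (by decide) fun l hl =>
  ext_mem (A := graphS φ) (L := LG) satS.hv (fun r hr => satS.hR r (dR_sub r hr)) (fun l hl => ⟨⟨cv l, H71.mem_gen cv hl⟩, Prod.ext (exφ.2.choose_spec.1 l hl) rfl⟩)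
    (by decide +kernel) l ((by decide +kernel : ∀ l ∈ LL, l ∈ extL 76 dR LG) l hl)
theorem hRR : ∀ r ∈ RR, evw Lys.val r = 1 := fun r hr => Lys.sat.hR r (by simpa [RR] using hr)
theorem pair0 : PTab S (pairSub φ (Lys.val 18)) 441 PA PB 8 :=
  PTab.init lets c_wa c_wb rfl (conjW_spec Lys.hv (H71.evw_rules Lys.hv hRR _) c_conj)
theorem pairs : PTab S (pairSub φ (Lys.val 18)) 441 PA PB 3237 := (pair0.step c_slpA0 c_slpB0 (hi := 3237) rfl)
theorem hinv : ∃ b0 b1 : H, S.R (evL S.mul S.one 441 CV []) b0 ∧ S.R (evL S.mul S.one 441 CV [29]) b1 ∧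
  (Lys.val 18)⁻¹ = φ b1 * Lys.val 18 * φ b0 := inv_rel lets (H71.evw_mkRule Lys.hv hRR _) c_inv
theorem dhyp : DHyp S φ (Lys.val 18) (om Lys.val uw φ.range) dd :=
  dhyp_mk lets (Ht := φ.range) (fun c => ⟨c, rfl⟩) (Lys.hv 18) hinv dd rfl rfl rfl (kapT_spec (o := 10) (n := 3125) (offs := [(3141,96)]) pairs (by decide)) c_valid c_defs
    (H71.evw_rules Lys.hv hRR _) c_rels (fun w hw => absurd hw List.not_mem_nil) c_subs
theorem holds : ∀ i < 878, Holds S φ (Lys.val 18) (om Lys.val uw φ.range) 441 (F i) := (chkRange_spec dhyp holds_zero c_dce0 (hi := 878) rfl)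
theorem exa : SubOrb Q H K be 3906 441 T 441 RT 5 ∧ Nat.card K = 300000 ∧ ∀ A, A ≤ K → (∀ g ∈ H, ∀ n ∈ A, g * n * g⁻¹ ∈ A) → A = ⊥ := low.exact exφ.1
theorem RTH : TabIn S 441 RT 5 H := wordsL_in letIn c_rw
theorem row0 : RowA φ 5 (fun a => om Lys.val uw φ.range (fld LV a)) (Lys.val 18) (Nat.card K) (3906 * 5) 274877906944 0 (nth tots 0 0) :=
  rowA_of_facts exa.1 pair0.conj holds (by decide) for0 (by decide) (by decide) c_lab0 (Roots.step holds RTH (by decide) (Roots.zero Q) c_root0_0 (hi := 1) rfl) c_tot0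
theorem row1 : RowA φ 5 (fun a => om Lys.val uw φ.range (fld LV a)) (Lys.val 18) (Nat.card K) (3906 * 5) 274877906944 1 (nth tots 0 1) :=
  rowA_of_facts exa.1 pair0.conj holds (by decide) for1 (by decide) (by decide) c_lab1 (Roots.step holds RTH (by decide) (Roots.zero Q) c_root1_0 (hi := 4) rfl) c_tot1
theorem row2 : RowA φ 5 (fun a => om Lys.val uw φ.range (fld LV a)) (Lys.val 18) (Nat.card K) (3906 * 5) 274877906944 2 (nth tots 0 2) :=
  rowA_of_facts exa.1 pair0.conj holds (by decide) for2 (by decide) (by decide) c_lab2 (Roots.step holds RTH (by decide) (Roots.zero Q) c_root2_0 (hi := 5) rfl) c_tot2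
theorem row3 : RowA φ 5 (fun a => om Lys.val uw φ.range (fld LV a)) (Lys.val 18) (Nat.card K) (3906 * 5) 274877906944 3 (nth tots 0 3) :=
  rowA_of_facts exa.1 pair0.conj holds (by decide) for3 (by decide) (by decide) c_lab3 (Roots.step holds RTH (by decide) (Roots.zero Q) c_root3_0 (hi := 9) rfl) c_tot3
theorem row4 : RowA φ 5 (fun a => om Lys.val uw φ.range (fld LV a)) (Lys.val 18) (Nat.card K) (3906 * 5) 274877906944 4 (nth tots 0 4) :=
  rowA_of_facts exa.1 pair0.conj holds (by decide) for4 (by decide) (by decide) c_lab4 (Roots.step holds RTH (by decide) (Roots.zero Q) c_root4_0 (hi := 10) rfl) c_tot4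
theorem rows : ∀ a < 5, RowA φ 5 (fun a => om Lys.val uw φ.range (fld LV a)) (Lys.val 18) (Nat.card K) (3906 * 5) 274877906944 a (nth tots 0 a) := by
  intro a ha
  interval_cases a
  exacts [row0, row1, row2, row3, row4]
theorem htop (A : Subgroup Cfsg.Spor.Ly) (h1 : ∀ c, φ c ∈ A) (h2 : Lys.val 18 ∈ A) : A = ⊤ := by
  rw [eq_top_iff, ← Lys.top]
  refine H71.gen_le fun l hl => ?_
  rcases (by decide : ∀ l ∈ [0,2,4,6,8,10,12,14,16,18,20,22,24,26,28,30,32,34,36,38,40,42,44,46,48,50,52,54,56,58,60,62,64,66,68,70,72,74,76], l = 18 ∨ l ∈ LL) l hl with rfl | h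
  · exact h2
  · obtain ⟨c, -, e⟩ := lets l h
    exact e ▸ h1 c
end H73.LyT
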