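import Cfsg.Agent.H85.P6.H67_SPSpec
import Cfsg.Agent.H90.PermMod

/-! Tower P6, kit for slot PC: the flag `W₂ ≤ W₂^⊥` (taken from `H62/SPFC`). -/

set_option autoImplicit false
set_option linter.unusedSectionVars false

namespace H73.P6K

open H64.SG (Cz Cs Ns IsO2 mem_Cz mem_Cs isO2_pCoreOf isPGroup_iff_is2)
open H85.P6.H67.UA hiding Par
open H85.P6.H67.SP
open H67.SA (la cm)
open Subgroup
open scoped commutatorElement

variable {n : ℕ} {F : Type} [Field F] [StarRing F] [TrivialStar F] [CharP F 2] [Finite F]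

local notation "e0" => (ev 0 : Vn n F)
local notation "e1" => (ev 1 : Vn n F)

/-- A `2`-group fixes a non-zero vector of every non-zero invariant section. -/
theorem fixmod {R : Subgroup (XU n F)} (hR : IsPGroup 2 R) {A B : Submodule F (Vn n F)}
    (h1 : ∀ g ∈ R, ∀ x ∈ A, ac g x ∈ A) (h2 : ∀ g ∈ R, ∀ x ∈ B, ac g x ∈ B) (h : ¬ B ≤ A) :
    ∃ v ∈ B, v ∉ A ∧ ∀ g ∈ R, ac g v + v ∈ A := by
  let ρ : Representation F R (Vn n F) :=
    { toFun := fun g => Matrix.mulVecLin (mt g.1)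
      map_one' := LinearMap.ext ac_one
      map_mul' := fun g h => LinearMap.ext (ac_mul g.1 h.1) }
  let ρ' := ρ.quotient A fun g x hx => h1 g.1 g.2 x hx
  obtain ⟨v, ⟨v, hv, rfl⟩, hv0, hv1⟩ := H90.exists_fixed_of_isPGroup hR ρ' (B.map A.mkQ)
    (fun k => h fun x hx => by
      have : A.mkQ x ∈ B.map A.mkQ := ⟨x, hx, rfl⟩
      rw [k] at this
      simpa using this) (by
    rintro g _ ⟨x, hx, rfl⟩
    exact ⟨ac g.1 x, h2 g.1 g.2 x hx, rfl⟩)
  refine ⟨v, hv, by simpa using hv0, fun g hg => ?_⟩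
  have := (Submodule.Quotient.eq A).1 (hv1 ⟨g, hg⟩)
  rwa [sub_eq_add_neg, neg_eq_iff_add_eq_zero.2 (v_add_self v)] at this

theorem mvfix {R : Subgroup (XU n F)} {A : Submodule F (Vn n F)} {g : XU n F} (hg : g ∈ Ns R)
    (hA : ∀ x ∈ A, ac g x ∈ A) {y : Vn n F} (h : ∀ r ∈ R, ac r y + y ∈ A) :
    ∀ r ∈ R, ac r (ac g y) + ac g y ∈ A := fun r hr => by
  simpa [ac_add, ac_mul] using hA _ (h _ (H98.conj_mem_of_mem_normalizer' hg hr))

theorem hfc (x y : Vn n F) : hf x y = hf y x := by rw [← star_hf, star_trivial]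

theorem hfs (a : F) (x y : Vn n F) : hf x (a • y) = a * hf x y := by rw [hf_smul_right, star_trivial]

theorem tr0 (a : F) : tr a = 0 := tr_eq_zero.2 (star_trivial a)

theorem mv {g : XU n F} {z : Vn n F} (h : ac g z = z) (v : Vn n F) : hf (ac g v + v) z = 0 := by
  rw [hf_add_left]
  conv_lhs => lhs; rw [← h, hf_ac]
  exact CharTwo.add_self_eq_zero _

theorem eq_of_add {u v : Vn n F} (h : u + v = 0) : u = v :=
  add_right_cancel (b := v) (by rw [h, v_add_self])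

theorem hev {i j : Fin (n + 1)} (h : i.val + j.val ≠ n) : hf (ev i : Vn n F) (ev j) = 0 := by
  rw [hf_ev, if_neg fun k => h (by rw [k, Fin.val_rev]; omega)]

theorem hev1 (i : Fin (n + 1)) : hf (ev i : Vn n F) (ev i.rev) = 1 := by simp [hf_ev]

theorem ns_Pc {G : Type*} [Group G] [Finite G] (A : Subgroup G) : A ≤ Ns (Pc A) := fun g hg =>
  H98.mem_normalizer_of_cj_le ((map_Pc_le' _ A).trans (Pc_mono (by
    rintro _ ⟨a, ha, rfl⟩
    exact mul_mem (mul_mem hg ha) (inv_mem hg))))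

variable (n F) in
/-- `W₂` -/
def WA : Submodule F (Vn n F) := Submodule.span F {e0, e1}

variable (n F) in
/-- `W₂^⊥` -/
def WB : Submodule F (Vn n F) where
  carrier := {v | hf v e0 = 0 ∧ hf v e1 = 0}
  add_mem' := fun h h' => ⟨by rw [hf_add_left, h.1, h'.1, add_zero],
    by rw [hf_add_left, h.2, h'.2, add_zero]⟩
  zero_mem' := by simp
  smul_mem' := fun c x h => ⟨by rw [hf_smul_left, h.1, mul_zero], by rw [hf_smul_left, h.2, mul_zero]⟩

theorem mem_WA {v : Vn n F} : v ∈ WA n F ↔ ∃ a b : F, a • e0 + b • e1 = v := Submodule.mem_span_pair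
theorem mem_WB {v : Vn n F} : v ∈ WB n F ↔ hf v e0 = 0 ∧ hf v e1 = 0 := Iff.rfl
theorem a0 : e0 ∈ WA n F := mem_WA.2 ⟨1, 0, by simp⟩
theorem a1 : e1 ∈ WA n F := mem_WA.2 ⟨0, 1, by simp⟩
theorem aa (a b : F) : a • e0 + b • e1 ∈ WA n F := mem_WA.2 ⟨a, b, rfl⟩

theorem perpAB {v w : Vn n F} (hv : v ∈ WB n F) (hw : w ∈ WA n F) : hf v w = 0 := by
  obtain ⟨a, b, rfl⟩ := mem_WA.1 hw
  simp [hf_add_right, hfs, hv.1, hv.2]

theorem fixA {g : XU n F} (h0 : ac g e0 = e0) (h1 : ac g e1 = e1) {w : Vn n F} (hw : w ∈ WA n F) :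
    ac g w = w := by
  obtain ⟨a, b, rfl⟩ := mem_WA.1 hw
  rw [ac_add, ac_smul, ac_smul, h0, h1]

theorem swA {g : XU n F} (h0 : ac g e0 ∈ WA n F) (h1 : ac g e1 ∈ WA n F) :
    ∀ w ∈ WA n F, ac g w ∈ WA n F := fun w hw => by
  obtain ⟨a, b, rfl⟩ := mem_WA.1 hw
  rw [ac_add, ac_smul, ac_smul]
  exact add_mem (Submodule.smul_mem _ _ h0) (Submodule.smul_mem _ _ h1)

theorem swB {g : XU n F} (h : ∀ w ∈ WA n F, ac g⁻¹ w ∈ WA n F) :
    ∀ v ∈ WB n F, ac g v ∈ WB n F := fun _ hv =>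
  ⟨by rw [hf_ac_left, perpAB hv (h _ a0)], by rw [hf_ac_left, perpAB hv (h _ a1)]⟩

variable [p : Par n F]

variable (F) in
include p in
theorem val1 : (1 : Fin (n + 1)).val = 1 := by
  have := p.five
  rw [Fin.val_one', Nat.mod_eq_of_lt (by omega)]

variable (F) in
include p in
theorem val2 : (2 : Fin (n + 1)).val = 2 := by
  have := p.five
  exact Nat.mod_eq_of_lt (show 2 < n + 1 by omega)

theorem h01 : hf e0 e1 = 0 := hev (by have := p.five; rw [val1 F]; simp; omega)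
theorem h10 : hf e1 e0 = 0 := hf_symm h01
theorem h0r : hf e0 (ev (Fin.rev 1)) = 0 := hev (by
  have := p.five; rw [Fin.val_rev, val1 F]; simp; omega)
theorem h1n : hf e1 (ev (la n)) = 0 := hev (by rw [val1 F]; simp)
theorem h0n : hf e0 (ev (la n)) = 1 := hev1 0

theorem li01 : Li e0 e1 := fun a b h =>
  ⟨by simpa [hf_add_left, hf_smul_left, h0n, h1n] using congrArg (hf · (ev (la n))) h,
    by simpa [hf_add_left, hf_smul_left, hev1, h0r] using congrArg (hf · (ev (Fin.rev 1))) h⟩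

theorem wk2 {v : Vn n F} : Wk 2 v ↔ v ∈ WA n F := by
  have h1 := val1 (n := n) F
  rw [mem_WA]
  refine ⟨fun h => ⟨v 0, v 1, funext fun i => ?_⟩, ?_⟩
  · simp only [Pi.add_apply, Pi.smul_apply, ev_apply, smul_eq_mul, Fin.ext_iff, h1, Fin.val_zero]
    split_ifs with k k' k'
    · omega
    · simp [show i = 0 from Fin.ext k]
    · simp [show i = 1 from Fin.ext (k'.trans h1.symm)]
    · simp [h i (by omega)]
  · rintro ⟨a, b, rfl⟩ i hi
    simp only [Pi.add_apply, Pi.smul_apply, ev_apply, smul_eq_mul, Fin.ext_iff, h1, Fin.val_zero]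
    rw [if_neg (by omega), if_neg (by omega)]; simp

variable [Base n F]

theorem h00 (v : Vn n F) : hf v v = 0 := FV.iso v

theorem AB : WA n F ≤ WB n F := fun v hv => by
  obtain ⟨a, b, rfl⟩ := mem_WA.1 hv
  constructor <;> simp [hf_add_left, hf_smul_left, h00, h01, h10]

theorem wkp {v : Vn n F} : Wk (n + 1 - 2) v ↔ v ∈ WB n F := by
  rw [FV.wk_perp 2 (by have := p.five; omega)]
  exact ⟨fun h => ⟨h _ (wk2.2 a0), h _ (wk2.2 a1)⟩, fun h w hw => perpAB h (wk2.1 hw)⟩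

theorem memA {v : Vn n F} (h : ∀ w ∈ WB n F, hf v w = 0) : v ∈ WA n F := by
  have := p.five
  have k := (FV.wk_perp (n + 1 - 2) (by omega) v).2 fun w hw => h w (wkp.1 hw)
  rwa [show n + 1 - (n + 1 - 2) = 2 by omega, wk2] at k

theorem memQ {g : XU n F} : g ∈ Qk n F 2 ↔
    ac g e0 = e0 ∧ ac g e1 = e1 ∧ ∀ v ∈ WB n F, ac g v + v ∈ WA n F := by
  rw [FV.mem_Qk 2 (by have := p.five; omega)]
  simp only [wk2, wkp]
  exact ⟨fun h => ⟨h.1 _ a0, h.1 _ a1, h.2⟩, fun h => ⟨fun _ => fixA h.1 h.2.1, h.2.2⟩⟩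

theorem memM {g : XU n F} : g ∈ Mk n F 2 ↔ ∀ v, ac g v + v ∈ WA n F := by
  simp only [FV.mem_M, wk2]

theorem EEQ {u x : Vn n F} (hu : u ∈ WA n F) (hx : x ∈ WB n F) (c : F) : EE u x c ∈ Qk n F 2 :=
  FV.EE_Q 2 (by have := p.five; omega) u x c (wk2.2 hu) (wkp.2 hx)

theorem okAB {u x : Vn n F} (hu : u ∈ WA n F) (hx : x ∈ WB n F) (c : F) : Ok u x c :=
  FV.ok u x c (perpAB hx hu)

theorem QB {g : XU n F} (hg : g ∈ Qk n F 2) (v : Vn n F) : ac g v + v ∈ WB n F :=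
  ⟨mv (memQ.1 hg).1 v, mv (memQ.1 hg).2.1 v⟩

theorem QA {g : XU n F} (hg : g ∈ Qk n F 2) {w : Vn n F} (hw : w ∈ WA n F) : ac g w = w :=
  fixA (memQ.1 hg).1 (memQ.1 hg).2.1 hw

theorem MB {g : XU n F} (hg : g ∈ Mk n F 2) {v : Vn n F} (hv : v ∈ WB n F) : ac g v = v :=
  eq_of_hf fun z => by
    have := perpAB hv (memM.1 (inv_mem hg) z)
    rw [hf_add_right, ← hf_ac_left] at this
    linear_combination this - hf v z * two0 F

theorem b2 : (ev 2 : Vn n F) ∈ WB n F := by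
  have := p.five
  exact ⟨hev (by rw [val2 F]; simp; omega), hev (by rw [val2 F, val1 F]; omega)⟩

theorem b2r : (ev (Fin.rev 2) : Vn n F) ∈ WB n F := by
  have := p.five
  exact ⟨hev (by rw [Fin.val_rev, val2 F]; simp; omega),
    hev (by rw [Fin.val_rev, val2 F, val1 F]; omega)⟩

theorem n2 : (ev 2 : Vn n F) ∉ WA n F := fun h => by
  simpa [hfc _ (ev 2 : Vn n F), hev1] using perpAB b2r h

theorem isQ : IsPGroup 2 (Qk n F 2) := isPGroup_iff_is2.2 fun g hg => ⟨2, ac_ext fun v => by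
  have h1 : ∀ v, ac g (ac g v) + v ∈ WA n F := fun v => by
    have := (memQ.1 hg).2.2 _ (QB hg v)
    rwa [ac_add, add_assoc, ← add_assoc (ac g v), v_add_self, zero_add] at this
  have h2 := QA hg (h1 v)
  have h3 := (congrArg (ac g) h2).trans h2
  rw [ac_add, ac_add] at h3
  rw [show g ^ 2 ^ 2 = g * (g * (g * g)) by simp [pow_succ, mul_assoc], ac_mul, ac_mul, ac_mul, ac_one]
  exact add_right_cancel (h3.trans (add_comm _ _))⟩

theorem nsQ {C : Subgroup (XU n F)} (h : ∀ g ∈ C, ∀ w ∈ WA n F, ac g w ∈ WA n F) :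
    C ≤ Ns (Qk n F 2) := fun c hc => H98.mem_normalizer_of_cj_le (by
  rintro _ ⟨g, hg, rfl⟩
  have k : ∀ w ∈ WA n F, ac (c * g * c⁻¹) w = w := fun w hw => by
    rw [ac_mul, ac_mul, QA hg (h _ (inv_mem hc) w hw), ac_ac_inv]
  refine memQ.2 ⟨k _ a0, k _ a1, fun v hv => ?_⟩
  simpa [ac_add, ac_mul] using h c hc _ ((memQ.1 hg).2.2 _
    (swB (g := c⁻¹) (by simpa using h c hc) v hv)))

theorem tr3 {y : Vn n F} (hy : y ∈ WB n F) (h : y ∉ WA n F) :
    ∃ g ∈ Stab e0 ⊓ Stab e1, ac g (ev 2) = y := by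
  obtain ⟨g, k0, k1, k2⟩ := FW.w3 e0 e1 y h01 (hf_symm hy.1) (hf_symm hy.2) fun a b c e => by
    obtain rfl : c = 0 := by_contra fun hc => h ((Submodule.smul_mem_iff _ hc).1 (by
      rw [← eq_of_add e]; exact aa a b))
    simpa using li01 a b (by simpa using e)
  exact ⟨g, ⟨k0, k1⟩, k2⟩

/-- A normal `2`-subgroup is trivial on `W₂^⊥ / W₂`. -/
theorem triv {R C : Subgroup (XU n F)} (hR : IsPGroup 2 R) (h1 : R ≤ C) (h2 : C ≤ Ns R)
    (h : ∀ g ∈ C, ∀ w ∈ WA n F, ac g w ∈ WA n F) (hD : Stab e0 ⊓ Stab e1 ≤ C) :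
    ∀ r ∈ R, ∀ v ∈ WB n F, ac r v + v ∈ WA n F := fun r hr v hv => by
  by_cases k : v ∈ WA n F
  · exact add_mem (h r (h1 hr) v k) k
  obtain ⟨y, y1, y2, y3⟩ := fixmod hR (fun g hg => h g (h1 hg))
    (fun g hg => swB (h _ (inv_mem (h1 hg)))) fun k => n2 (k b2)
  obtain ⟨g, hg, rfl⟩ := tr3 y1 y2
  obtain ⟨g', hg', rfl⟩ := tr3 hv k
  have k1 := hD (mul_mem hg' (inv_mem hg))
  simpa [ac_mul] using mvfix (h2 k1) (h _ k1) y3 r hr

theorem ok01 (a b : F) : Ok e0 (b • e1) a := FV.ok _ _ _ (by simp [hf_smul_left, h10])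

theorem zE (a b : F) : zu (n := n) a b = EE e0 (b • e1) a := by
  rw [zu, EE_mul (FV.ok _ _ _ (by simp)) (ok01 0 b)]; simp

theorem ac_z (a b : F) (v : Vn n F) : ac (zu a b) v =
    v + ((a * hf v e0 + b * hf v e1) • e0 + (b * hf v e0) • e1) := by
  rw [zE, ac_EE (ok01 a b), hfs]; module

theorem mem_cz {a b : F} {g : XU n F} :
    g ∈ Cz (zu a b) ↔ EE (ac g e0) (b • ac g e1) a = EE e0 (b • e1) a := by
  rw [mem_Cz, zE, eq_comm, ← mul_inv_eq_iff_eq_mul, EE_conj (ok01 a b), ac_smul]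

theorem cz_of {a b c : F} {g : XU n F} (h0 : ac g e0 = e0) (h1 : ac g e1 = e1 + c • e0) :
    g ∈ Cz (zu a b) := by
  rw [mem_cz, h0, h1, smul_add, smul_smul, EE_shift, tr0, add_zero]

theorem D_le (a b : F) : Stab e0 ⊓ Stab e1 ≤ Cz (zu a b) := fun g hg =>
  cz_of (c := 0) hg.1 (by simpa using mem_Stab.1 hg.2)

theorem czW {a b : F} (hb : b ≠ 0) : ∀ g ∈ Cz (zu (n := n) a b), ∀ w ∈ WA n F, ac g w ∈ WA n F :=
  fun g hg => by
  have k : ∀ y, ac g ((a * hf y e0 + b * hf y e1) • e0 + (b * hf y e0) • e1) ∈ WA n F := fun y => by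
    have e := (ac_mul _ _ _).symm.trans ((congrArg (ac · y) (mem_Cz.1 hg)).trans (ac_mul _ _ _))
    rw [ac_z, ac_z, ac_add g y, add_right_inj] at e
    rw [← e]; exact aa _ _
  have k0 : ac g e0 ∈ WA n F := by
    simpa [hfc (ev (Fin.rev 1)), h0r, hev1, ac_smul, Submodule.smul_mem_iff _ hb] using
      k (ev (Fin.rev 1))
  refine swA k0 ?_
  have k1 := k (ev (la n))
  rwa [ac_add, ac_smul, ac_smul, Submodule.add_mem_iff_right _ (Submodule.smul_mem _ _ k0),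
    hfc _ e0, h0n, mul_one, Submodule.smul_mem_iff _ hb] at k1

theorem hf_z (a b : F) (v : Vn n F) : hf (ac (zu a b) v) v = a * hf v e0 ^ 2 := by
  simp only [ac_z, hf_add_left, hf_smul_left, h00, hfc e0 v, hfc e1 v]
  linear_combination b * hf v e0 * hf v e1 * two0 F

theorem cz_a {a b : F} (ha : a ≠ 0) (hb : b ≠ 0) {g : XU n F} (hg : g ∈ Cz (zu a b)) :
    ac g e0 = e0 ∧ ∃ c : F, ac g e1 = e1 + c • e0 := by
  have h0 : ac g e0 = e0 := eq_of_hf fun v => by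
    have e := hf_z a b (ac g⁻¹ v)
    rw [← hf_ac g, ← ac_mul, ← mem_Cz.1 hg, ac_mul, ac_ac_inv, hf_z, ← hf_ac g (ac g⁻¹ v),
      ac_ac_inv] at e
    rw [hfc, hfc e0, sq_inj (mul_left_cancel₀ ha e)]
  have e := mem_cz.1 hg
  rw [h0] at e
  obtain ⟨c, h1, -⟩ := EE_inj (ev_ne 0) (ok01 a b) (by
    simpa [h0, ac_smul] using (ok01 a b).ac g) e.symm
  exact ⟨h0, b⁻¹ * c, by rw [← inv_smul_smul₀ hb (ac g e1), h1, smul_add, inv_smul_smul₀ hb, smul_smul]⟩

theorem tr2 (b : F) {w : Vn n F} (hw : w ∈ WA n F) (h0 : w ≠ 0) :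
    ∃ g ∈ Cz (zu 0 b), ac g e0 = w := by
  obtain ⟨s, t, rfl⟩ := mem_WA.1 hw
  obtain ⟨s', t', e⟩ : ∃ s' t' : F, s * t' + t * s' = 1 := by
    by_cases hs : s = 0
    · exact ⟨t⁻¹, 0, by simp [mul_inv_cancel₀ (show t ≠ 0 from fun ht => h0 (by simp [hs, ht]))]⟩
    · exact ⟨0, s⁻¹, by simp [hs]⟩
  have k := perpAB (AB (aa s t)) (aa (n := n) s' t')
  obtain ⟨g, k0, k1⟩ := FW.w2 _ _ k fun x y h => by
    obtain ⟨e2, e3⟩ := li01 (n := n) (x * s + y * s') (x * t + y * t') (by rw [← h]; module)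
    exact ⟨by linear_combination t' * e2 + s' * e3 - x * e - y * s' * t' * two0 F,
      by linear_combination t * e2 + s * e3 - y * e - x * s * t * two0 F⟩
  refine ⟨g, mem_cz.2 (ac_ext fun y => ?_), k0⟩
  rw [k0, k1, ac_EE (ok01 0 b), ac_EE (okAB (aa s t) (AB (Submodule.smul_mem _ b (aa s' t'))) 0)]
  simp only [hf_add_right, hfs]
  match_scalars
  · rfl
  · linear_combination b * hf y e1 * e + b * s * s' * hf y e0 * two0 F
  · linear_combination b * hf y e0 * e + b * t * t' * hf y e1 * two0 F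

end H73.P6K
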