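import Cfsg.Agent.H71.Top

/-! Maximality of point stabilisers, checked on bit sets: words as letters, suborbit covers. -/

namespace H73

open H71

variable {G : Type*} [Group G] {val : ℕ → G} {N : ℕ} {π : ℕ → Equiv.Perm ℕ} {A : ℕ → ℕ → ℕ}

/-- words as letters. -/
noncomputable def wA (A : ℕ → ℕ → ℕ) (W : List (List ℕ)) (i x : ℕ) : ℕ := wapp A (nth W [] i) x

/-- the values of the words. -/
noncomputable def wV {G : Type*} [Group G] (val : ℕ → G) (W : List (List ℕ)) (i : ℕ) : G :=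
  evw val (nth W [] i)

theorem env_words (E : Env N π A) (W : List (List ℕ)) : Env N (wV π W) (wA A W) :=
  ⟨fun _ x i => E.testBit_wapp _ x i, fun _ i hi => E.evw_fix _ i hi⟩

theorem wV_map {ρ : G →* Equiv.Perm ℕ} {L : List ℕ} (h : ∀ l ∈ L, ρ (val l) = π l)
    {W : List (List ℕ)} (hW : ∀ w ∈ W, ∀ l ∈ w, l ∈ L) (i : ℕ) : ρ (wV val W i) = wV π W i := by
  have := nth_prop (P := fun w => ∀ l ∈ w, l ∈ L) hW (d := []) (by simp) i
  rw [wV, map_evw]
  exact congrArg List.prod (List.map_congr_left fun l hl => h l (this l hl))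

theorem wV_mem {L : List ℕ} {B : Subgroup G} (h : ∀ l ∈ L, val l ∈ B) {W : List (List ℕ)} {i : ℕ}
    (hW : ∀ l ∈ nth W [] i, l ∈ L) : wV val W i ∈ B := evw_mem fun l hl => h l (hW l hl)

/-- `O` is covered by `C` and the `S`-orbits of the points `u p`, and each `u` generates with `S`
a group whose orbit of `p` contains `O`. -/
noncomputable def covL (A : ℕ → ℕ → ℕ) (S : List ℕ) (p O : ℕ) (its : List (ℕ × List ℕ × List ℕ)) :
    ℕ → Bool :=
  List.rec (fun C => subB O C) (fun it _ ih C => Bool.rec false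
    (grow A S it.2.1 (fun O' => ih (Nat.lor C O')) (A it.1 (Nat.shiftLeft 1 p)))
    (orbChk A (it.1 :: S) it.2.2 p O)) its

theorem covL_spec (E : Env N π A) (ρ : G →* Equiv.Perm ℕ) (hρ : ∀ l, ρ (val l) = π l) {S : List ℕ}
    {p O : ℕ} {its : List (ℕ × List ℕ × List ℕ)} : ∀ {C : ℕ}, covL A S p O its C = true →
    ∀ i, O.testBit i = true → C.testBit i = true ∨ ∃ it ∈ its, (∃ k ∈ gen val S, ρ (k * val it.1) p = i) ∧
      ∀ j, O.testBit j = true → ∃ g ∈ gen val (it.1 :: S), ρ g p = j := by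
  induction its with
  | nil => exact fun h i hi => Or.inl (of_subB h hi)
  | cons it its ih =>
    intro C h i hi
    have h' : Bool.rec false (grow A S it.2.1 (fun O' => covL A S p O its (Nat.lor C O'))
      (A it.1 (Nat.shiftLeft 1 p))) (orbChk A (it.1 :: S) it.2.2 p O) = true := h
    cases h1 : orbChk A (it.1 :: S) it.2.2 p O <;> rw [h1] at h'
    · exact absurd h' (by simp)
    obtain ⟨O', h2, h3⟩ := grow_sound E ρ (B := gen val S) (fun l hl => ⟨mem_gen val hl, hρ l⟩)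
      (fun i => ∃ k ∈ gen val S, ρ (k * val it.1) p = i)
      (fun g hg i ⟨k, hk, e⟩ => ⟨g * k, mul_mem hg hk, by
        rw [mul_assoc, map_mul, Equiv.Perm.mul_apply, e]⟩)
      (fun i hi => ⟨1, one_mem _, by
        rw [E.app, show Nat.shiftLeft 1 p = 2 ^ p from Nat.one_shiftLeft _, Nat.testBit_two_pow] at hi
        rw [one_mul, hρ, (by simpa using hi : p = (π it.1)⁻¹ i)]; simp⟩) h'
    rcases ih h3 i hi with h4 | ⟨it', h4, h5⟩
    · rw [show Nat.lor C O' = C ||| O' from rfl, Nat.testBit_or, Bool.or_eq_true] at h4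
      exact h4.imp_right fun h4 => ⟨it, List.mem_cons_self, h2 i h4,
        orbChk_sound E ρ (fun l hl => ⟨mem_gen val hl, hρ l⟩) h1⟩
    · exact Or.inr ⟨it', List.mem_cons_of_mem _ h4, h5⟩

/-- the stabiliser of `p` is maximal in `B`. -/
def MaxAt (ρ : G →* Equiv.Perm ℕ) (B : Subgroup G) (p : ℕ) : Prop :=
  ¬ B ≤ stab ρ p ∧ ∀ M, B ⊓ stab ρ p ≤ M → M ≤ B → M ≤ stab ρ p ∨ B ≤ M

/-- the whole test. -/
noncomputable def maxOK (A : ℕ → ℕ → ℕ) (T S : List ℕ) (p O u : ℕ)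
    (its : List (ℕ × List ℕ × List ℕ)) : Bool :=
  (invChk A T O && O.testBit p && invChk A S (Nat.shiftLeft 1 p)) &&
    (!(A u (Nat.shiftLeft 1 p)).testBit p && covL A S p O its (Nat.shiftLeft 1 p))

theorem maxOK_spec (E : Env N π A) (ρ : G →* Equiv.Perm ℕ) (hρ : ∀ l, ρ (val l) = π l)
    {T S : List ℕ} {p O u : ℕ} {its : List (ℕ × List ℕ × List ℕ)} (h : maxOK A T S p O u its = true)
    {B : Subgroup G} (hT : B ≤ gen val T) (hS : ∀ l ∈ u :: (S ++ its.map Prod.fst), val l ∈ B) :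
    MaxAt ρ B p ∧ ∀ g ∈ B, g ∉ stab ρ p → ∃ it ∈ its, ∃ k ∈ B ⊓ stab ρ p, ρ g p = ρ k (π it.1 p) := by
  simp only [maxOK, Bool.and_eq_true, Bool.not_eq_true'] at h
  obtain ⟨⟨⟨h1, h2⟩, h3⟩, h4, h5⟩ := h
  have e2 : Nat.shiftLeft 1 p = 2 ^ p := Nat.one_shiftLeft _
  have hO : ∀ g ∈ B, O.testBit (ρ g p) = true := fun g hg => by
    rw [invChk_sound E ρ (fun l _ => hρ l) h1 g (hT hg), h2]
  have hK : gen val S ≤ B ⊓ stab ρ p :=
    le_inf (gen_le fun l hl => hS l (by simp [hl])) (gen_le_stab E ρ (fun l _ => hρ l) h3)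
  have key := fun g hg (hp : g ∉ stab ρ p) =>
    (covL_spec E ρ hρ h5 _ (hO g hg)).resolve_left (by
      rw [e2, Nat.testBit_two_pow]; exact fun e => hp (by simpa using e : p = ρ g p).symm)
  refine ⟨⟨fun e => ?_, fun M hM hB => ?_⟩, fun g hg hp => ?_⟩
  · have := mem_stab.1 (inv_mem (e (hS u List.mem_cons_self)))
    rw [E.app, ← hρ, ← map_inv, this, e2] at h4
    simp at h4
  · refine or_iff_not_imp_left.2 fun hne g hg => ?_
    obtain ⟨m, hm, hp⟩ := SetLike.not_le_iff_exists.1 hne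
    obtain ⟨it, hi, ⟨k, hk, e⟩, h6⟩ := key m (hB hm) hp
    have mem : ∀ a ∈ B, ∀ b ∈ M, ρ a p = ρ b p → a ∈ M := fun a ha b hb e => by
      have : b⁻¹ * a ∈ M := hM ⟨B.mul_mem (B.inv_mem (hB hb)) ha, mem_stab.2 (by
        rw [map_mul, Equiv.Perm.mul_apply, e, map_inv]; simp)⟩
      simpa using mul_mem hb this
    have h7 : val it.1 ∈ M := by
      have := mem _ (mul_mem (hK hk).1 (hS _ (by simp; grind))) m hm e
      simpa using mul_mem (inv_mem (hM (hK hk))) this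
    obtain ⟨b, hb, e'⟩ := h6 _ (hO g hg)
    refine mem g hg b ((gen_le fun l hl => ?_ : _ ≤ M) hb) e'.symm
    rcases List.mem_cons.1 hl with rfl | hl
    exacts [h7, hM (hK (mem_gen val hl))]
  · obtain ⟨it, hi, ⟨k, hk, e⟩, -⟩ := key g hg hp
    exact ⟨it, hi, k, hK hk, by rw [← e, map_mul, hρ]; rfl⟩

theorem stab_conj (ρ : G →* Equiv.Perm ℕ) (k : G) (p : ℕ) :
    (stab ρ p).map (MulAut.conj k).toMonoidHom = stab ρ (ρ k p) := by
  ext g
  rw [Subgroup.mem_map_equiv, mem_stab, mem_stab]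
  simp [Equiv.symm_apply_eq]

theorem MaxAt.smul {ρ : G →* Equiv.Perm ℕ} {B : Subgroup G} {p : ℕ} (h : MaxAt ρ B p) {k : G}
    (hk : k ∈ B) : MaxAt ρ B (ρ k p) := by
  have c1 : ∀ g, k⁻¹ * g * k ∈ stab ρ p ↔ g ∈ stab ρ (ρ k p) := fun g => by
    simp [mem_stab, Equiv.symm_apply_eq]
  refine ⟨fun e => h.1 fun g hg => ?_, fun M hM hB => ?_⟩
  · simpa [mul_assoc] using (c1 _).2 (e (mul_mem (mul_mem hk hg) (inv_mem hk)))
  · rcases h.2 (M.comap (MulAut.conj k).toMonoidHom) (fun g hg => hM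
      ⟨B.mul_mem (B.mul_mem hk hg.1) (B.inv_mem hk), (c1 _).1 (by simpa [mul_assoc] using hg.2)⟩)
      (fun g hg => by simpa [mul_assoc] using mul_mem (mul_mem (inv_mem hk) (hB hg)) hk) with e | e
    · exact Or.inl fun g hg => (c1 g).1 (e (by simpa [mul_assoc] using hg))
    · exact Or.inr fun g hg => by
        simpa [mul_assoc] using e (mul_mem (mul_mem (inv_mem hk) hg) hk)

theorem MaxAt.isCoatom {ρ : G →* Equiv.Perm ℕ} {B : Subgroup G} {p : ℕ} (h : MaxAt ρ B p) :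
    IsCoatom ((B ⊓ stab ρ p).subgroupOf B) := by
  refine ⟨fun e => h.1 fun g hg => (show (⟨g, hg⟩ : B) ∈ (B ⊓ stab ρ p).subgroupOf B from
    e ▸ Subgroup.mem_top _).2, fun M hM => ?_⟩
  rcases h.2 (M.map B.subtype) (fun g hg => ⟨⟨g, hg.1⟩, hM.le hg, rfl⟩) (Subgroup.map_subtype_le M)
    with e | e
  · exact (hM.not_ge fun g hg => Subgroup.mem_subgroupOf.2 (Subgroup.mem_inf.2 ⟨g.2, e ⟨g, hg, rfl⟩⟩)).elim
  · rw [eq_top_iff]
    intro g _
    obtain ⟨m, hm, e'⟩ := e g.2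
    exact (Subtype.ext e' : m = g) ▸ hm

theorem MaxAt.isCoatom_top {ρ : G →* Equiv.Perm ℕ} {p : ℕ} (h : MaxAt ρ ⊤ p) :
    IsCoatom (stab ρ p) :=
  ⟨fun e => h.1 e.ge, fun M hM => top_le_iff.1
    ((h.2 M (inf_le_right.trans hM.le) le_top).resolve_left hM.not_ge)⟩

end H73
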