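import Cfsg.Agent.H40.RealOver
import Cfsg.Agent.H29.Codeg
import Cfsg.Agent.H32.DegreeRatio
import Cfsg.Agent.H32.IndKer
import Cfsg.Agent.H18.Elt
import Cfsg.Agent.H18.Misc
import Cfsg.Agent.H4.HallBasic
import Cfsg.Agent.S0160
import Cfsg.Agent.S3863

/-! Groups whose real irreducible characters have degree prime to `p`: normal Sylow subgroups. -/

set_option autoImplicit false

namespace H73.RE

open Cfsg H28 Subgroup

universe u

/-- The subgroup generated by the `r`-elements. -/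
abbrev gen (r : ℕ) (G : Type*) [Group G] : Subgroup G := closure {g : G | ∃ k : ℕ, orderOf g = r ^ k}

/-- All real irreducible characters have degree prime to `p`. -/
def RH (p : ℕ) (G : Type*) [Group G] : Prop :=
  ∀ χ : G → ℂ, IsIrrCharacter G χ → (∀ g, (χ g).im = 0) → ¬ p ∣ charDegree χ

variable {G : Type*} [Group G] {p r : ℕ}

instance gen_normal : (gen r G).Normal := ⟨fun n hn g => by
  induction hn using closure_induction with
  | mem x hx => exact subset_closure (hx.imp fun k hk => by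
      rw [← hk]; exact (MulAut.conj g).orderOf_eq x)
  | one => simp
  | mul x y _ _ h1 h2 => rw [← conj_mul]; exact mul_mem h1 h2
  | inv x _ h => rw [← conj_inv]; exact inv_mem h⟩

theorem mem_gen [Fact r.Prime] {x : G} {k : ℕ} (h : x ^ r ^ k = 1) : x ∈ gen r G :=
  subset_closure (((Nat.dvd_prime_pow Fact.out).1 (orderOf_dvd_of_pow_eq_one h)).imp fun _ h => h.2)

theorem le_gen [Fact r.Prime] {P : Subgroup G} (hP : IsPGroup r P) : P ≤ gen r G := fun _ hx =>
  let ⟨_, hk⟩ := H18.exists_pow_eq_one_of_mem hP hx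
  mem_gen hk

theorem map_gen_le [Fact r.Prime] {H : Type*} [Group H] (f : G →* H) : (gen r G).map f ≤ gen r H := by
  rw [map_le_iff_le_comap, closure_le]
  rintro x ⟨k, hk⟩
  exact mem_gen (k := k) (by rw [← map_pow, ← hk, pow_orderOf_eq_one, map_one])

theorem real_of_mk {x : G} (h : IsConj x x⁻¹) (g : G) (e : ConjClasses.mk g = ConjClasses.mk x) :
    IsConj g g⁻¹ := by
  obtain ⟨c, rfl⟩ := isConj_iff.1 (ConjClasses.mk_eq_mk_iff_isConj.1 e).symm
  obtain ⟨d, hd⟩ := isConj_iff.1 h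
  exact isConj_iff.2 ⟨c * d * c⁻¹, by rw [conj_inv (a := x), ← hd]; group⟩

theorem exists_inverted {N : Subgroup G} [hN : N.Normal] :
    ∀ (k : ℕ) (t : G), t ^ 2 ^ k = 1 → ∀ n ∈ N, t * n ≠ n * t → ∃ m ∈ N, m ≠ 1 ∧ IsConj m m⁻¹
  | 0, t, ht, n, _, h => by simp at ht; simp [ht] at h
  | k + 1, t, ht, n, hn, h => by
    by_cases h2 : t ^ 2 * n = n * t ^ 2
    · refine ⟨t * n * t⁻¹ * n⁻¹, mul_mem (hN.conj_mem n hn t) (inv_mem hn),
        fun e => h (mul_inv_eq_iff_eq_mul.1 (eq_of_mul_inv_eq_one e)),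
        isConj_iff.2 ⟨t, ?_⟩⟩
      calc _ = t ^ 2 * n * (t ^ 2)⁻¹ * (t * n * t⁻¹)⁻¹ := by rw [sq]; group
        _ = _ := by rw [h2]; group
    · exact exists_inverted k (t ^ 2) (by rw [← pow_mul, ← pow_succ', ht]) n hn h2

variable [Finite G]

theorem not_dvd_index_gen [Fact r.Prime] : ¬ r ∣ (gen r G).index := fun h =>
  (default : Sylow r G).not_dvd_index (h.trans (index_dvd_of_le (le_gen (Sylow.isPGroup' _))))

theorem odd_index_gen : Odd (gen 2 G).index :=
  Nat.odd_iff.2 (by have := not_dvd_index_gen (r := 2) (G := G); omega)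

theorem gen_le_map [Fact r.Prime] {H : Type*} [Group H] (f : G →* H) (hf : Function.Surjective f) :
    gen r H ≤ (gen r G).map f := (closure_le _).2 fun _ hy =>
  let ⟨x, e, hx⟩ := H18.exists_lift_primePow f hf Fact.out hy
  ⟨x, subset_closure hx, e⟩

theorem exists_real_not_le (M : Subgroup G) [M.Normal]
    (hl : ∀ x : G ⧸ M, IsConj x x⁻¹ → ∃ y : G, (y : G ⧸ M) = x ∧ IsConj y y⁻¹) {m : G} (hm : m ∈ M)
    (h1 : m ≠ 1) (hr : IsConj m m⁻¹) :
    ∃ χ, IsIrrCharacter G χ ∧ (∀ g, (χ g).im = 0) ∧ ¬ M ≤ charKer χ := by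
  by_contra hc
  push Not at hc
  have a1 : Nat.card {χ : IrrCharacter G // ∀ g : G, ((χ : G → ℂ) g).im = 0} ≤
      Nat.card {χ : IrrCharacter (G ⧸ M) // ∀ g, ((χ : G ⧸ M → ℂ) g).im = 0} :=
    Nat.card_le_card_of_surjective
      (fun η => ⟨⟨fun g => η.1.1 g, Cfsg.IsIrrCharacter.inflate η.1.2⟩, fun g => η.2 _⟩) fun χ => by
      obtain ⟨η, hη, e⟩ := Cfsg.IsIrrCharacter.exists_quotient χ.1.2 M (hc _ χ.1.2 χ.2)
      exact ⟨⟨⟨η, hη⟩, fun q => by
        obtain ⟨x, rfl⟩ := QuotientGroup.mk_surjective q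
        exact (congrArg _ (e x)).trans (χ.2 x)⟩, Subtype.ext (Subtype.ext (funext e))⟩
  rw [Cfsg.Agent.S0160.result, Cfsg.Agent.S0160.result] at a1
  let f : {C : ConjClasses G // ∀ g : G, ConjClasses.mk g = C → IsConj g g⁻¹} →
      {C : ConjClasses (G ⧸ M) // ∀ g, ConjClasses.mk g = C → IsConj g g⁻¹} := fun C =>
    ⟨C.1.map (QuotientGroup.mk' M), by
      obtain ⟨C, hC⟩ := C
      obtain ⟨x, rfl⟩ := ConjClasses.mk_surjective C
      exact real_of_mk (by simpa using (QuotientGroup.mk' M).map_isConj (hC x rfl))⟩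
  have hf : Function.Surjective f := by
    rintro ⟨C, hC⟩
    obtain ⟨x, rfl⟩ := ConjClasses.mk_surjective C
    obtain ⟨y, rfl, hy⟩ := hl x (hC x rfl)
    exact ⟨⟨_, real_of_mk hy⟩, rfl⟩
  have := (hf.bijective_of_nat_card_le a1).1 (a₁ := ⟨_, real_of_mk hr⟩)
    (a₂ := ⟨_, real_of_mk (x := 1) (by simp)⟩) (Subtype.ext (congrArg ConjClasses.mk
      ((QuotientGroup.eq_one_iff m).2 hm)))
  exact h1 (isConj_one_left.1 (ConjClasses.mk_eq_mk_iff_isConj.1 (congrArg Subtype.val this)))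

theorem lift_real_of_odd (M : Subgroup G) [M.Normal] (ho : Odd (Nat.card M)) (x : G ⧸ M)
    (hx : IsConj x x⁻¹) : ∃ y : G, (y : G ⧸ M) = x ∧ IsConj y y⁻¹ := by
  classical
  obtain ⟨t', ht', e⟩ := (Cfsg.Agent.S3863.result x hx).1
  obtain ⟨t, rfl, k, hk⟩ := H18.exists_lift_primePow (QuotientGroup.mk' M)
    (QuotientGroup.mk'_surjective M) Nat.prime_two ht'
  rw [QuotientGroup.mk'_apply] at e
  let σ : Equiv.Perm {y : G // (y : G ⧸ M) = x} :=
    { toFun := fun y => ⟨(t * y * t⁻¹)⁻¹, by simp only [QuotientGroup.mk_inv, QuotientGroup.mk_mul, y.2, e, inv_inv]⟩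
      invFun := fun y => ⟨t⁻¹ * y.1⁻¹ * t, by
        simp only [QuotientGroup.mk_inv, QuotientGroup.mk_mul, y.2, ← e]; group⟩
      left_inv := fun y => Subtype.ext (by simp [mul_assoc])
      right_inv := fun y => Subtype.ext (by simp [mul_assoc]) }
  have h2 : ∀ (n : ℕ) y, ((σ ^ (2 * n)) y).1 = t ^ (2 * n) * y * (t ^ (2 * n))⁻¹ := fun n y => by
    induction n with
    | zero => simp
    | succ n ih =>
      rw [mul_add, add_comm, pow_add, pow_add, mul_one, sq, Equiv.Perm.mul_apply, Equiv.Perm.mul_apply]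
      change (t * (t * _ * t⁻¹)⁻¹ * t⁻¹)⁻¹ = _
      rw [ih]; group
  have := Fintype.ofFinite {y : G // (y : G ⧸ M) = x}
  obtain ⟨y, hy⟩ := Equiv.Perm.exists_fixed_point_of_prime (p := 2) (n := k + 1) (σ := σ) (by
    have h := QuotientGroup.card_preimage_mk M {x}
    rw [Nat.card_unique (α := ({x} : Set (G ⧸ M))), mul_one] at h
    rw [← Nat.card_eq_fintype_card]
    exact fun h' => Nat.not_even_iff_odd.2 ho (even_iff_two_dvd.2 (h ▸ h')))
    (Equiv.ext fun y => Subtype.ext (by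
      rw [pow_succ', h2, mul_comm, pow_mul, ← hk, pow_orderOf_eq_one]; simp))
  exact ⟨y, y.2, isConj_iff.2 ⟨t, inv_eq_iff_eq_inv.1 (congrArg Subtype.val hy)⟩⟩

theorem RH.quot (h : RH p G) (N : Subgroup G) [N.Normal] : RH p (G ⧸ N) :=
  fun _ hη hr => h _ hη.inflate fun _ => hr _

theorem real_iff_pow {χ : G → ℂ} (hχ : IsCharacter G χ) {n : ℕ} (hn : Nat.card G ∣ n) (h0 : n ≠ 0) :
    (∀ g, (χ g).im = 0) ↔ ∀ g, χ (g ^ (n - 1)) = χ g := by
  have : ∀ g : G, g ^ (n - 1) = g⁻¹ := fun g => eq_inv_of_mul_eq_one_left (by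
    rw [← pow_succ, Nat.sub_add_cancel (Nat.pos_of_ne_zero h0)]
    exact orderOf_dvd_iff_pow_eq_one.1 ((orderOf_dvd_natCard g).trans hn))
  simp only [this, hχ.apply_inv, Complex.conj_eq_iff_im]

theorem coprime_pred : (Nat.card G - 1).Coprime (Nat.card G) :=
  (Nat.coprime_self_sub_left Nat.card_pos).2 (Nat.coprime_one_left _)

theorem pow_pred_succ (N : Subgroup G) (g : G) : g ^ (Nat.card G - 1 + 1) ∈ N := by
  rw [Nat.sub_add_cancel Nat.card_pos, pow_card_eq_one']; exact one_mem _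

theorem RH.sub (h : RH p G) (N : Subgroup G) [N.Normal] (ho : Odd N.index) : RH p N := by
  intro θ hθ hr hd
  have := Fintype.ofFinite G
  have := Fintype.ofFinite N
  obtain ⟨T, hNT, ψ, -, -, -, h1, h2, h3, -⟩ := H40.exists_pow_fixed_over ho coprime_pred
    (pow_pred_succ N) hθ ((real_iff_pow hθ.isCharacter N.card_subgroup_dvd_card Nat.card_pos.ne').1 hr)
  obtain ⟨k, -, hk⟩ := H32.exists_degree_eq_mul_of_constituent h1 hθ h2
  refine h _ h1 ((real_iff_pow h1.isCharacter dvd_rfl Nat.card_pos.ne').2 h3) ?_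
  rw [charDegree_eq (n := k * charDegree θ) (by rw [hk, Nat.cast_mul, hθ.cast_charDegree])]
  exact hd.mul_left k

open scoped IsMulCommutative in
theorem dvd_degree [Fact p.Prime] {N : Subgroup G} [N.Normal] [IsMulCommutative N]
    (hc : (Nat.card N).Coprime p) (hP : ∀ P : Sylow p G, N ⊓ centralizer (P : Set G) = ⊥)
    {χ : G → ℂ} (hχ : IsIrrCharacter G χ) (hk : ¬ N ≤ charKer χ) : p ∣ charDegree χ := by
  by_contra hd
  have := Fintype.ofFinite G
  have := Fintype.ofFinite N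
  obtain ⟨θ, hθ, h1⟩ := H32.exists_constituent_res (H := N) hχ.isCharacter hχ.apply_one_ne_zero
  obtain ⟨e, he⟩ := (hχ.isCharacter.restrict N).classInner_nat hθ.isCharacter
  have h2 := H32.clifford_degree hχ hθ h1
  have h3 := hθ.apply_one_of_comm mul_comm
  obtain ⟨Q, hQ⟩ := H18.exists_sylow_le_of_not_dvd (p := p) (H := H32.inertia θ) fun h => hd (by
    rw [charDegree_eq (n := e * (H32.inertia θ).index) (by rw [h2, he, h3]; simp)]
    exact h.mul_left e)
  obtain ⟨f, rfl⟩ := hθ.isCharacter.exists_hom h3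
  have := Fintype.ofFinite (Q : Subgroup G)
  refine hk (hχ.le_charKer_of_classInner_ne_zero N (by
    convert h1 using 2
    funext n
    have h4 : ∏ x : (Q : Subgroup G), MulAut.conjNormal (x : G) n = 1 := Subtype.ext (mem_bot.1 (hP Q ▸
      ⟨Subtype.prop _, fun y hy => mul_inv_eq_iff_eq_mul.1 (by
        change ((MulAut.conjNormal y (∏ x : (Q : Subgroup G), MulAut.conjNormal (x : G) n) : N) : G) = _
        rw [map_prod]
        exact congrArg _ (Fintype.prod_equiv (Equiv.mulLeft (⟨y, hy⟩ : (Q : Subgroup G))) _ _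
          fun x => by simp))⟩))
    have h5 := congrArg f h4
    have h7 : ∀ x : (Q : Subgroup G), f (MulAut.conjNormal (x : G) n) = f n := fun x =>
      Units.ext (congrFun (hQ x.2) n)
    rw [map_prod, Finset.prod_congr rfl fun x _ => h7 x, Finset.prod_const, Finset.card_univ, map_one,
      ← Nat.card_eq_fintype_card] at h5
    obtain ⟨a, ha⟩ := Q.isPGroup'.exists_card_eq
    have h6 : f n ^ Nat.card N = 1 := by rw [← map_pow, pow_card_eq_one', map_one]
    have := pow_gcd_eq_one.2 ⟨h6, h5⟩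
    rw [ha, (hc.pow_right a).gcd_eq_one, pow_one] at this
    simp [this]))

theorem card_quot_lt {N : Subgroup G} [N.Normal] (h : N ≠ ⊥) : Nat.card (G ⧸ N) < Nat.card G := by
  rw [card_eq_card_quotient_mul_card_subgroup N]
  exact lt_mul_of_one_lt_right Nat.card_pos ((one_lt_card_iff_ne_bot N).2 h)

theorem solv_gen_quot [Fact p.Prime] [Group.IsSolvable (gen p G)] (N : Subgroup G) [N.Normal] :
    Group.IsSolvable (gen p (G ⧸ N)) := by
  rw [le_antisymm (gen_le_map (QuotientGroup.mk' N) (QuotientGroup.mk'_surjective N)) (map_gen_le _)]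
  exact Group.isSolvable_of_surjective ((QuotientGroup.mk' N).subgroupMap_surjective _)

theorem solv_gen_sub [Fact p.Prime] [Group.IsSolvable (gen p G)] (U : Subgroup G) :
    Group.IsSolvable (gen p U) :=
  Group.isSolvable_of_isSolvable_injective (f := (U.subtype.comp (gen p U).subtype).codRestrict (gen p G)
    fun x => map_gen_le U.subtype ⟨x, x.2, rfl⟩) fun _ _ e =>
    Subtype.ext (Subtype.ext (congrArg (fun y : gen p G => (y : G)) e))

theorem thmX [hp : Fact p.Prime] (G : Type u) [Group G] [Finite G] :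
    (∀ g : G, ∃ a, g ^ p ^ a ∈ gen 2 G) → Group.IsSolvable (gen p G) → RH p G →
      ∀ P : Sylow p G, (P : Subgroup G).Normal := by
  refine H18.induction_card (P := fun G _ _ => (∀ g : G, ∃ a, g ^ p ^ a ∈ gen 2 G) →
    Group.IsSolvable (gen p G) → RH p G → ∀ P : Sylow p G, (P : Subgroup G).Normal) ?_ G
  intro G _ _ ih hK hs hR P₀
  by_contra hn₀
  have hn : ∀ P : Sylow p G, ¬ (P : Subgroup G).Normal := fun P h => hn₀ (by
    have := Sylow.unique_of_normal P h
    rwa [Subsingleton.elim P₀ P])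
  obtain ⟨N, q, hN, h0, -, hq, hc, he, hmin⟩ := H4.exists_minimal_normal_elemab (gen p G)
    fun e => hn P₀ (by rw [le_bot_iff.1 ((le_gen P₀.isPGroup').trans e.le)]; infer_instance)
  have hc' : ∀ a ∈ N, ∀ b ∈ N, a * b = b * a := fun a ha b hb =>
    congrArg Subtype.val (hc.is_comm.comm (⟨a, ha⟩ : N) ⟨b, hb⟩)
  have hPN : ∀ P : Sylow p G, ((P : Subgroup G) ⊔ N).Normal := fun P => by
    have := ih (G ⧸ N) (card_quot_lt h0) (fun g => by
      obtain ⟨x, rfl⟩ := QuotientGroup.mk_surjective g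
      exact (hK x).imp fun a ha => map_gen_le (QuotientGroup.mk' N) ⟨_, ha, rfl⟩)
      (solv_gen_quot N) (hR.quot N) (P.mapSurjective (QuotientGroup.mk'_surjective N))
    have := this.comap (QuotientGroup.mk' N)
    rwa [Sylow.coe_mapSurjective, comap_map_eq, QuotientGroup.ker_mk'] at this
  have hqN : IsPGroup q N := fun x => ⟨1, Subtype.ext (by simpa using he x x.2)⟩
  have := Fact.mk hq
  have hqp : q ≠ p := by
    rintro rfl
    have := hPN P₀
    rw [sup_of_le_left (hqN.le_sylow_of_normal P₀)] at this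
    exact hn P₀ this
  have hsup : ∀ P : Sylow p G, N ⊔ normalizer (P : Set G) = ⊤ := fun P => by
    have := hPN P
    have h := P.normalizer_sup_eq_top' (N := (P : Subgroup G) ⊔ N) le_sup_left
    rwa [← sup_assoc, sup_of_le_left (show (P : Subgroup G) ≤ normalizer (P : Set G) from
      le_normalizer), sup_comm] at h
  have hdec := fun P => H32.exists_mul_of_sup_eq_top (hsup P)
  have hinf : ∀ P : Sylow p G, N ⊓ normalizer (P : Set G) = ⊥ := fun P =>
    (hmin _ ⟨fun x hx g => by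
      obtain ⟨n, h1, h, h2, rfl⟩ := hdec P g
      rw [show n * h * x * (n * h)⁻¹ = n * (h * x * h⁻¹) * n⁻¹ by group,
        hc' n h1 _ (hN.conj_mem x hx.1 h), mul_inv_cancel_right]
      exact mem_inf.2 ⟨hN.conj_mem x hx.1 h, mul_mem (mul_mem h2 hx.2) (inv_mem h2)⟩⟩ inf_le_left).resolve_right
      fun e => hn P (normalizer_eq_top_iff.1 (by
        have := hsup P
        rwa [sup_of_le_right (inf_eq_left.1 e)] at this))
  obtain ⟨c, hcard⟩ := hqN.exists_card_eq
  have hcop : (Nat.card N).Coprime p := hcard ▸ ((Nat.coprime_primes hq hp.out).2 hqp).pow_left c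
  obtain ⟨m, m1, m2, m3⟩ : ∃ m ∈ N, m ≠ 1 ∧ IsConj m m⁻¹ := by
    by_contra hm
    obtain ⟨n, n1, n2⟩ := N.bot_or_exists_ne_one.resolve_left h0
    have h2 : q ≠ 2 := by
      rintro rfl
      exact hm ⟨n, n1, n2, by rw [inv_eq_of_mul_eq_one_right (sq n ▸ he n n1)]⟩
    have h3 : gen 2 G ≤ centralizer N := (closure_le _).2 fun t ⟨k, hk⟩ n hn => by
      by_contra e
      exact hm (exists_inverted k t (hk ▸ pow_orderOf_eq_one t) n hn (Ne.symm e))
    have h4 : ∀ {r : ℕ}, r.Prime → q ≠ r → ∀ n ∈ N, ∀ k, n ^ r ^ k = 1 → n = 1 :=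
      fun hr hne n hn k e => by
        have := pow_gcd_eq_one.2 ⟨he n hn, e⟩
        rwa [(((Nat.coprime_primes hq hr).2 hne).pow_right k).gcd_eq_one, pow_one] at this
    have h5 : N ≤ gen 2 G := inf_eq_left.1 ((hmin _ inferInstance inf_le_left).resolve_left fun e => by
      obtain ⟨a, ha⟩ := hK n
      exact n2 (h4 hp.out hqp n n1 a (mem_bot.1 (e ▸ ⟨pow_mem n1 _, ha⟩))))
    have h6 : gen 2 G ≤ normalizer (P₀ : Set G) := (closure_le _).2 fun t ⟨k, hk⟩ => by
      obtain ⟨a, a1, h, a2, rfl⟩ := hdec P₀ t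
      have c1 : Commute a h := h3 ((mul_mem_cancel_left (h5 a1)).1 (subset_closure ⟨k, hk⟩)) a a1
      have e := pow_orderOf_eq_one (a * h)
      rw [hk, c1.mul_pow] at e
      rw [h4 Nat.prime_two h2 a a1 k (mem_bot.1 (hinf P₀ ▸ mem_inf.2 ⟨pow_mem a1 _, by
        rw [eq_inv_of_mul_eq_one_left e]; exact inv_mem (pow_mem a2 _)⟩)), one_mul]
      exact a2
    exact h0 (by rw [← hinf P₀, inf_of_le_left (h5.trans h6)])
  obtain ⟨χ, hχ, hr, hk⟩ := exists_real_not_le N (fun x hx => by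
    obtain ⟨t, ht⟩ := isConj_iff.1 hx
    have l : ∀ x : G ⧸ N, ∃ h ∈ normalizer (P₀ : Set G), (h : G ⧸ N) = x := fun x => by
      obtain ⟨x, rfl⟩ := QuotientGroup.mk_surjective x
      obtain ⟨a, a1, h, a2, rfl⟩ := hdec P₀ x
      exact ⟨h, a2, by rw [QuotientGroup.mk_mul, (QuotientGroup.eq_one_iff a).2 a1, one_mul]⟩
    obtain ⟨y, hy, rfl⟩ := l x
    obtain ⟨s, hs, rfl⟩ := l t
    refine ⟨y, rfl, isConj_iff.2 ⟨s, eq_inv_of_mul_eq_one_left (mem_bot.1 (hinf P₀ ▸
      mem_inf.2 ⟨(QuotientGroup.eq_one_iff _).1 ?_, mul_mem (mul_mem (mul_mem hs hy) (inv_mem hs)) hy⟩))⟩⟩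
    simp only [QuotientGroup.mk_mul, QuotientGroup.mk_inv, ht, inv_mul_cancel]) m1 m2 m3
  exact hR χ hχ hr (dvd_degree hcop (fun P => le_bot_iff.1 (hinf P ▸
    inf_le_inf_left N (centralizer_le_normalizer _))) hχ hk)

theorem normal_of_le [Fact p.Prime] [Group.IsSolvable (gen p G)] (hR : RH p G) (U : Subgroup G)
    [U.Normal] (hK : gen 2 G ≤ U) {a : ℕ} (ha : (gen 2 G).relIndex U = p ^ a) (Q : Sylow p U) :
    (Q : Subgroup U).Normal := by
  refine thmX U (fun g => ⟨a, ?_⟩) (solv_gen_sub U)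
    (hR.sub U (odd_index_gen.of_dvd_nat (index_dvd_of_le hK))) Q
  have h1 : gen 2 G ≤ (gen 2 U).map U.subtype := (closure_le _).2 fun t ht =>
    ⟨⟨t, hK (subset_closure ht)⟩, subset_closure (ht.imp fun k hk => (orderOf_coe _).symm.trans hk), rfl⟩
  have h2 := ((gen 2 G).subgroupOf U).pow_index_mem g
  rw [show ((gen 2 G).subgroupOf U).index = p ^ a from ha] at h2
  obtain ⟨x, hx, e⟩ := h1 h2
  rwa [← show x = g ^ p ^ a from Subtype.ext e]

theorem cent_of_le_der [hp : Fact p.Prime] (h2 : p ≠ 2) (G : Type u) [Group G] [Finite G] :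
    RH p G → ∀ (P : Sylow p G) (M : Subgroup G), M.Normal → M ≤ ⁅(P : Subgroup G), (P : Subgroup G)⁆ →
      gen 2 G ≤ centralizer M := by
  refine H18.induction_card (P := fun G _ _ => RH p G → ∀ (P : Sylow p G) (M : Subgroup G), M.Normal →
    M ≤ ⁅(P : Subgroup G), (P : Subgroup G)⁆ → gen 2 G ≤ centralizer M) ?_ G
  intro G _ _ ih hR P M hM hMP
  by_cases hb : M = ⊥
  · subst hb
    exact fun g _ m hm => by rw [mem_bot.1 hm]; simp
  have hMp : IsPGroup p M := P.isPGroup'.to_le (hMP.trans (commutator_le_self _))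
  have := hMp.isNilpotent
  obtain ⟨N, q, hN, h0, hNM, -⟩ := H4.exists_minimal_normal_elemab M hb
  obtain ⟨c, hc⟩ := (hMp.to_le hNM).exists_card_eq
  have ho : Odd (Nat.card N) := hc ▸ (hp.out.odd_of_ne_two h2).pow
  refine (closure_le _).2 fun t ⟨k, hk⟩ m hm => ?_
  have ht : t ^ 2 ^ k = 1 := hk ▸ pow_orderOf_eq_one t
  have h1 : ∀ n ∈ N, t * n = n * t := fun n hn => by
    by_contra e
    obtain ⟨m, m1, m2, m3⟩ := exists_inverted k t ht n hn e
    obtain ⟨χ, hχ, hr, hk⟩ := exists_real_not_le N (lift_real_of_odd N ho) m1 m2 m3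
    have := Fintype.ofFinite (P : Subgroup G)
    have := Fintype.ofFinite N
    have hNP : N ≤ P := hNM.trans (hMP.trans (commutator_le_self _))
    obtain ⟨θ, hθ, a1, a2⟩ := H29.exists_constituent_degree_le P.isPGroup'
      (hχ.isCharacter.restrict P) (k := 0) (by rw [zero_add, pow_one]; exact hR χ hχ hr)
    obtain ⟨f, rfl⟩ := hθ.isCharacter.exists_hom
      (hθ.isCharacter.charDegree_eq_one_iff.1 (by simpa using a2))
    have a3 := H32.classInner_res_le_of_constituent hNP hχ.isCharacter hθ a1 isCharacter_one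
    have a4 : (fun n : N => ((f ⟨n, hNP n.2⟩ : ℂˣ) : ℂ)) = fun _ => 1 := funext fun n => by
      obtain ⟨x, hx, e⟩ : (n : G) ∈ (commutator (P : Subgroup G)).map (P : Subgroup G).subtype := by
        rw [map_subtype_commutator]; exact hMP (hNM n.2)
      rw [show (⟨n, hNP n.2⟩ : (P : Subgroup G)) = x from Subtype.ext e.symm,
        Abelianization.commutator_subset_ker f hx, Units.val_one]
    rw [a4, isIrrCharacter_one.classInner_self] at a3
    exact hk (hχ.le_charKer_of_classInner_ne_zero N fun e => by rw [e] at a3; norm_num at a3)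
  have h3 := ih (G ⧸ N) (card_quot_lt h0) (hR.quot N)
    (P.mapSurjective (QuotientGroup.mk'_surjective N)) (M.map (QuotientGroup.mk' N))
    (hM.map _ (QuotientGroup.mk'_surjective N))
    (by rw [Sylow.coe_mapSurjective, ← map_commutator]; exact map_mono hMP)
    (map_gen_le (QuotientGroup.mk' N) ⟨t, mem_gen ht, rfl⟩) _ ⟨m, hm, rfl⟩
  have h4 : m⁻¹ * t * m * t⁻¹ ∈ N := (QuotientGroup.eq_one_iff _).1 (by
    simp only [QuotientGroup.mk'_apply] at h3
    simp only [QuotientGroup.mk_mul, QuotientGroup.mk_inv, mul_assoc, ← mul_assoc (t : G ⧸ N), ← h3]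
    simp)
  have h5 : (m⁻¹ * t * m * t⁻¹) ^ 2 ^ k = 1 := by
    have : (m⁻¹ * t * m * t⁻¹ * t) ^ 2 ^ k = (m⁻¹ * t * m⁻¹⁻¹) ^ 2 ^ k := by simp
    rw [Commute.mul_pow (h1 _ h4).symm, ht, mul_one, conj_pow, ht] at this
    simpa using this
  have h6 := pow_gcd_eq_one.2 ⟨h5, congrArg Subtype.val (pow_card_eq_one' (x := (⟨_, h4⟩ : N)))⟩
  rw [((Nat.coprime_two_left.2 ho).pow_left k).gcd_eq_one, pow_one, mul_inv_eq_one, mul_assoc,
    inv_mul_eq_iff_eq_mul] at h6
  exact h6.symm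

end H73.RE
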