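import Cfsg.Agent.H73.RealA
import Cfsg.Agent.H40.GlP2
import Cfsg.Agent.H98.Sylow
import Cfsg.Agent.H46.Prod

/-! Groups whose real irreducible characters have degree prime to `p`: McKay bijection. -/

set_option autoImplicit false
set_option maxHeartbeats 400000

namespace H73.RE

open Cfsg H28 Subgroup H40
open scoped ComplexConjugate

/-- real valued -/
abbrev Re {G : Type*} (χ : G → ℂ) : Prop := ∀ g, (χ g).im = 0

section Over
variable {B : Type*} [Group B] [Finite B] {A : Subgroup B} [A.Normal] [Fintype A]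

theorem real_under (ho : Odd A.index) {χ : B → ℂ} (hχ : IsIrrCharacter B χ) (hr : Re χ)
    {θ : A → ℂ} (hθ : IsIrrCharacter A θ) (h : classInner (fun n : A => χ n) θ ≠ 0) : Re θ := by
  refine (real_iff_pow hθ.isCharacter A.card_subgroup_dvd_card Nat.card_pos.ne').2
    (pow_fixed_of_constituent (m := 2) (Nat.coprime_two_left.2 ho) coprime_pred ?_ dvd_rfl hχ
      ((real_iff_pow hχ.isCharacter dvd_rfl Nat.card_pos.ne').1 hr) hθ h)
  obtain ⟨m, hm⟩ : ∃ m, Nat.card B = m + 1 := ⟨_, (Nat.succ_pred_eq_of_pos Nat.card_pos).symm⟩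
  rw [hm, Nat.add_sub_cancel, Nat.ModEq, ← Nat.add_mul_mod_self_right (m ^ 2) 2 (m + 1),
    show m ^ 2 + 2 * (m + 1) = 1 + (m + 1) * (m + 1) by ring, Nat.add_mul_mod_self_right]

theorem real_over (ho : Odd A.index) {θ : A → ℂ} (hθ : IsIrrCharacter A θ) (hr : Re θ) :
    ∃ χ : B → ℂ, IsIrrCharacter B χ ∧ Re χ ∧ classInner (fun n : A => χ n) θ ≠ 0 ∧
      charDegree χ = (H32.inertia θ).index * charDegree θ ∧
      ∀ χ' : B → ℂ, IsIrrCharacter B χ' → Re χ' → classInner (fun n : A => χ' n) θ ≠ 0 → χ' = χ := by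
  have := Fintype.ofFinite B
  have hf := (real_iff_pow hθ.isCharacter A.card_subgroup_dvd_card Nat.card_pos.ne').1 hr
  obtain ⟨T0, -, ψ0, -, -, -, -, -, -, hu⟩ := exists_pow_fixed_over ho coprime_pred
    (pow_pred_succ A) hθ hf
  have hNT : A ≤ H32.inertia θ := H32.le_inertia hθ.isClassFunction
  set T := H32.inertia θ with hT
  have := Fintype.ofFinite T
  obtain ⟨ψ, hψ, hψθ, hψf⟩ := exists_pow_fixed_ext_of_invariant (G := T) (N := A.subgroupOf T)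
    (Odd.of_dvd_nat ho (relIndex_dvd_index_of_le hNT)) (coprime_card_subgroup coprime_pred T)
    (fun g => pow_pred_succ A g) (H32.isIrrCharacter_subgroupOf hNT hθ)
    (by rw [H32.inertia_subgroupOf hNT, subgroupOf_self]) (fun n => hf ⟨(n : T), n.2⟩)
  have hψθ' : ∀ n : A, ψ ⟨n, hNT n.2⟩ = θ n := fun n => hψθ ⟨⟨n, hNT n.2⟩, n.2⟩
  have h1 : classInner (fun n : A => ψ ⟨n, hNT n.2⟩) θ ≠ 0 := by
    rw [funext hψθ', hθ.classInner_self]
    exact one_ne_zero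
  obtain ⟨h2, h3⟩ := H32.cliffordCorr_irr hθ hT hNT hψ h1
  have h4 : ∀ g, indFun T ψ (g ^ (Nat.card B - 1)) = indFun T ψ g := fun g => by
    rw [← indFun_pow coprime_pred, funext hψf]
  have h5 : classInner (fun n : A => indFun T ψ n) θ ≠ 0 := by rwa [h3]
  refine ⟨_, h2, (real_iff_pow h2.isCharacter dvd_rfl Nat.card_pos.ne').2 h4, h5, ?_,
    fun χ' h6 h7 h8 => ?_⟩
  · rw [hψ.isCharacter.charDegree_indFun, charDegree_congr (χ := θ) (hψθ' 1)]
  · rw [hu _ h2 h5 h4, hu _ h6 h8 ((real_iff_pow h6.isCharacter dvd_rfl Nat.card_pos.ne').1 h7)]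

end Over

variable {G : Type*} [Group G] [Finite G]

section Over'
variable {D N : Subgroup G} [Fintype D] (h : D ≤ N) (hn : N ≤ normalizer (D : Set G))
include h hn

theorem real_under' (ho : Odd (D.relIndex N)) {ξ : N → ℂ} (hξ : IsIrrCharacter N ξ) (hr : Re ξ)
    {φ : D → ℂ} (hφ : IsIrrCharacter D φ) (h1 : classInner (res h ξ) φ ≠ 0) : Re φ := by
  haveI := normal_subgroupOf_of_le_normalizer hn
  have := Fintype.ofFinite (D.subgroupOf N)
  rw [← classInner_subgroupOf h] at h1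
  exact fun d => real_under ho hξ hr (isIrr_subgroupOf h hφ) h1 ⟨⟨d, h d.2⟩, d.2⟩

theorem real_over' (ho : Odd (D.relIndex N)) {φ : D → ℂ} (hφ : IsIrrCharacter D φ) (hr : Re φ) :
    ∃ ξ : N → ℂ, IsIrrCharacter N ξ ∧ Re ξ ∧ classInner (res h ξ) φ ≠ 0 ∧
      charDegree ξ = (invSub D φ).relIndex N * charDegree φ ∧
      ∀ ξ' : N → ℂ, IsIrrCharacter N ξ' → Re ξ' → classInner (res h ξ') φ ≠ 0 → ξ' = ξ := by
  haveI := normal_subgroupOf_of_le_normalizer hn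
  have := Fintype.ofFinite (D.subgroupOf N)
  obtain ⟨ξ, h1, h2, h3, h4, h5⟩ := real_over ho (isIrr_subgroupOf h hφ) fun d => hr _
  refine ⟨ξ, h1, h2, by rwa [← classInner_subgroupOf h], ?_, fun ξ' a b c =>
    h5 ξ' a b (by rwa [← classInner_subgroupOf h] at c)⟩
  rw [h4, relIndex]
  refine congrArg₂ _ (congrArg index ?_) rfl
  ext g
  rw [H32.mem_inertia_iff, mem_subgroupOf, mem_invSub, and_iff_right (hn g.2),
    invBy_iff_cjn (hn g.2), funext_iff]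
  exact ⟨fun H d => H ⟨⟨d, h d.2⟩, d.2⟩, fun H d => H ⟨_, d.2⟩⟩

end Over'

theorem mult_conj {C K : Subgroup G} (h : C ≤ K) {θ : K → ℂ} {φ : C → ℂ} (hθ : IsCharacter K θ)
    (hφ : IsCharacter C φ) :
    mult h (fun g => conj (θ g)) (fun g => conj (φ g)) = mult h θ φ := by
  have := Fintype.ofFinite C
  refine mult_eq h ((classInner_conj_conj (res h θ) φ).trans ?_)
  rw [← classInner_conj_symm, mult_spec h hθ hφ, map_natCast]

omit [Finite G] in
theorem invAll_conj {K P : Subgroup G} {θ : K → ℂ} (h : InvAll K P θ) :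
    InvAll K P fun g => conj (θ g) := fun x hx g g' e => congrArg conj (h x hx g g' e)

variable {p : ℕ} [hp : Fact p.Prime]

theorem index_modEq (P : Sylow p G) {T : Subgroup G} (h : (P : Subgroup G) ≤ T) :
    (T.index : ZMod p) = T.relIndex (normalizer ((P : Subgroup G) : Set G)) := by
  set N := normalizer ((P : Subgroup G) : Set G)
  have h1 : (N.index : ZMod p) = 1 := by
    have := card_sylow_modEq_one p G
    rw [P.card_eq_index_normalizer] at this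
    exact_mod_cast (ZMod.natCast_eq_natCast_iff _ _ _).2 this
  have h2 : (N.relIndex T : ZMod p) = 1 := by
    have := card_sylow_modEq_one p T
    rw [(P.subtype h).card_eq_index_normalizer] at this
    rw [relIndex, subgroupOf_normalizer_eq h]
    exact_mod_cast (ZMod.natCast_eq_natCast_iff _ _ _).2 this
  have h3 := relIndex_mul_index (inf_le_left : N ⊓ T ≤ N)
  have h4 := relIndex_mul_index (inf_le_right : N ⊓ T ≤ T)
  rw [inf_relIndex_left] at h3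
  rw [inf_relIndex_right] at h4
  have h5 := congrArg (Nat.cast : ℕ → ZMod p) (h3.trans h4.symm)
  rw [Nat.cast_mul, Nat.cast_mul, h1, h2, mul_one, one_mul] at h5
  exact h5.symm

theorem exists_bij (P : Sylow p G) (K : Subgroup G) [hK : K.Normal] (ho : Odd K.index)
    (hQ : ((P : Subgroup G) ⊓ K).Normal) (hR : RH p G) :
    ∃ f : {χ : IrrCharacter G // Re (χ : G → ℂ)} →
      {ξ : IrrCharacter ↥(normalizer ((P : Subgroup G) : Set G)) // Re ξ.1 ∧ ¬ p ∣ charDegree ξ.1},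
      Function.Bijective f ∧ ∀ χ, ((charDegree (f χ).1.1 : ZMod p) = (charDegree χ.1.1 : ZMod p) ∨
        (charDegree (f χ).1.1 : ZMod p) = -(charDegree χ.1.1 : ZMod p)) := by
  have := Fintype.ofFinite G
  have := Fintype.ofFinite K
  set N := normalizer ((P : Subgroup G) : Set G) with hN
  have := Fintype.ofFinite ↥(N ⊓ K)
  have hDK : N ⊓ K ≤ K := inf_le_right
  have hDN : N ⊓ K ≤ N := inf_le_left
  have hnK : ∀ g : G, g ∈ normalizer (K : Set G) := fun g => by rw [normalizer_eq_top]; trivial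
  have hnQ : ∀ g : G, g ∈ normalizer (((P : Subgroup G) ⊓ K : Subgroup G) : Set G) := fun g => by
    rw [normalizer_eq_top]; trivial
  have hND : N ≤ normalizer ((N ⊓ K : Subgroup G) : Set G) :=
    H46.nrm_inf H46.le_nrm_self fun g _ => hnK g
  have hPN : (P : Subgroup G) ≤ N := le_normalizer
  have hoD : Odd ((N ⊓ K).relIndex N) := by
    rw [inf_relIndex_left]; exact ho.of_dvd_nat (relIndex_dvd_index_of_normal K N)
  have H : PCorr p P hDK := pCorr_of_fix (N := (P : Subgroup G) ⊓ K) inf_le_right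
    (fun g _ => hnQ g) ((H98.isSyl_sylow P).inf_of_le_normalizer le_top
      fun g _ => hnK g).not_dvd_relIndex P P.isPGroup' (fun g _ => hnK g) (fun g _ => hnQ g) hDK
    fun g => ⟨fun hg => ⟨hg.2, fun x hx => mem_inf.2 ⟨by
        have := mul_mem hx (H46.conj_mem_of_mem_nrm hg.1 (inv_mem hx))
        simpa only [mul_assoc] using this, mul_mem (hK.conj_mem g hg.2 x) (K.inv_mem hg.2)⟩⟩,
      fun hg => ⟨H46.mem_nrm_of_cj_le (by
        rintro _ ⟨x, hx, rfl⟩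
        have := mul_mem hx (hg.2 x⁻¹ (inv_mem hx)).1
        simpa [mul_assoc] using this), hg.1⟩⟩
  have hin : ∀ (θ : K → ℂ) (g : G), g ∈ H32.inertia θ ↔ InvBy K g θ := fun θ g =>
    (invBy_iff_cjn (hnK g)).symm
  let R : (G → ℂ) → (N → ℂ) → Prop := fun χ ξ => ∃ (θ : K → ℂ) (φ : ↥(N ⊓ K) → ℂ),
    IsIrrCharacter K θ ∧ IsIrrCharacter _ φ ∧ InvAll K P θ ∧ InvAll (N ⊓ K) P φ ∧
      classInner (fun n : K => χ n) θ ≠ 0 ∧ classInner (res hDN ξ) φ ≠ 0 ∧
      (mult hDK θ φ : ZMod p) ≠ 0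
  have hdeg : ∀ χ ξ, IsIrrCharacter G χ → Re χ → IsIrrCharacter N ξ → Re ξ → R χ ξ →
      ((charDegree ξ : ZMod p) = charDegree χ ∨ (charDegree ξ : ZMod p) = -charDegree χ) := by
    rintro χ ξ hχ rχ hξ rξ ⟨θ, φ, hθ, hφ, iθ, iφ, u1, u2, hm⟩
    obtain ⟨χ', -, -, -, d1, e1⟩ := real_over ho hθ (real_under ho hχ rχ hθ u1)
    obtain ⟨ξ', -, -, -, d2, e2⟩ := real_over' hDN hND hoD hφ (real_under' hDN hND hoD hξ rξ hφ u2)
    have e3 : (invSub (N ⊓ K) φ).relIndex N = (H32.inertia θ).relIndex N := by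
      rw [relIndex, relIndex]
      congr 1
      ext n
      rw [mem_subgroupOf, mem_subgroupOf, hin, mem_invSub, and_iff_right (hND n.2)]
      exact ⟨H.invBy_left hθ hφ iθ iφ hm (hnK _) (hND n.2) (iθ.cjn _ n.2),
        H.invBy_right hθ hφ iθ iφ hm (hnK _) (hND n.2) (iφ.cjn _ n.2)⟩
    rw [e1 χ hχ rχ u1, e2 ξ hξ rξ u2, d1, d2, Nat.cast_mul, Nat.cast_mul,
      index_modEq P fun x hx => (hin θ x).2 (iθ x hx), e3,
      H.charDegree_eq P.isPGroup' (fun g _ => hnK g) (hPN.trans hND) hθ hφ iθ iφ hm]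
    rcases H.pm hθ hφ iθ iφ hm with e | e <;> rw [e]
    · left; ring
    · right; ring
  have hex : ∀ χ, IsIrrCharacter G χ → Re χ → ∃ ξ, IsIrrCharacter N ξ ∧ Re ξ ∧ R χ ξ := by
    intro χ hχ rχ
    obtain ⟨θ0, hθ0, u0⟩ := H32.exists_constituent_res (H := K) hχ.isCharacter hχ.apply_one_ne_zero
    obtain ⟨χ', -, -, -, d1, e1⟩ := real_over ho hθ0 (real_under ho hχ rχ hθ0 u0)
    have h1 : ¬ p ∣ (H32.inertia θ0).relIndex ⊤ := fun hd => hR χ hχ rχ (by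
      rw [e1 χ hχ rχ u0, d1, ← relIndex_top_right]; exact hd.mul_right _)
    obtain ⟨c, -, hc⟩ := exists_conj_le_of_not_dvd_relIndex h1 P.isPGroup' le_top
    have hθ := isIrr_cjn (hnK c) hθ0
    have iθ : InvAll K P (cjn (hnK c) θ0) := fun x hx => invBy_cjn _ ((hin _ _).1 (hc x hx))
    have u1 : classInner (fun n : K => χ n) (cjn (hnK c) θ0) ≠ 0 :=
      (H32.classInner_res_cj hχ.isClassFunction c θ0).trans_ne u0
    obtain ⟨φ, hφ, iφ, hm⟩ := H.ex_right hθ iθ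
    have rφ : Re φ := H30.real_iff_conj_eq.2 (H.uniq_right hθ hφ.conj hφ iθ (invAll_conj iφ) iφ (by
      rw [← H30.real_iff_conj_eq.1 (real_under ho hχ rχ hθ u1), mult_conj _ hθ.isCharacter
        hφ.isCharacter]; exact hm) hm)
    obtain ⟨ξ, hξ, rξ, u2, -⟩ := real_over' hDN hND hoD hφ rφ
    exact ⟨ξ, hξ, rξ, _, φ, hθ, hφ, iθ, iφ, u1, u2, hm⟩
  have hex' : ∀ ξ, IsIrrCharacter N ξ → Re ξ → ¬ p ∣ charDegree ξ →
      ∃ χ, IsIrrCharacter G χ ∧ Re χ ∧ R χ ξ := by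
    intro ξ hξ rξ hd
    obtain ⟨φ, hφ, u2⟩ := exists_constituent_res' hDN hξ
    have rφ := real_under' hDN hND hoD hξ rξ hφ u2
    obtain ⟨ξ', -, -, -, d2, e2⟩ := real_over' hDN hND hoD hφ rφ
    have h1 : ¬ p ∣ (invSub (N ⊓ K) φ).relIndex N := fun h => hd (by
      rw [e2 ξ hξ rξ u2, d2]; exact h.mul_right _)
    obtain ⟨c, hcN, hc⟩ := exists_conj_le_of_not_dvd_relIndex h1 P.isPGroup' hPN
    have iφ : InvAll (N ⊓ K) P φ := fun x hx => by
      have := (hc _ (H46.conj_mem_of_mem_nrm' hcN hx)).2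
      simpa [mul_assoc] using this
    obtain ⟨θ, hθ, iθ, hm⟩ := H.ex_left hφ iφ
    have rθ : Re θ := H30.real_iff_conj_eq.2 (H.uniq_left hθ.conj hθ hφ (invAll_conj iθ) iθ iφ (by
      rw [← H30.real_iff_conj_eq.1 rφ, mult_conj _ hθ.isCharacter hφ.isCharacter]; exact hm) hm)
    obtain ⟨χ, hχ, rχ, u1, -⟩ := real_over ho hθ rθ
    exact ⟨χ, hχ, rχ, θ, φ, hθ, hφ, iθ, iφ, u1, u2, hm⟩
  have huniq : ∀ χ ξ ξ', IsIrrCharacter G χ → IsIrrCharacter N ξ → Re ξ → IsIrrCharacter N ξ' →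
      Re ξ' → R χ ξ → R χ ξ' → ξ = ξ' := by
    rintro χ ξ ξ' hχ hξ rξ hξ' rξ' ⟨θ, φ, hθ, hφ, iθ, iφ, u1, u2, hm⟩
      ⟨θ', φ', hθ', hφ', iθ', iφ', u1', u2', hm'⟩
    obtain ⟨g, rfl⟩ := H32.mem_conjSet.1 (H32.mem_conjSet_of_constituent hχ hθ hθ' u1 u1')
    have hPT : (P : Subgroup G) ≤ H32.inertia θ := fun x hx => (hin _ _).2 (iθ x hx)
    have hPT' : H98.cj g P ≤ H32.inertia θ := by
      rintro _ ⟨x, hx, rfl⟩
      change g * x * g⁻¹ ∈ _
      rw [← H32.cj_eq_cj_iff, H32.cj_mul]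
      exact (hin _ _).2 (iθ' x hx)
    obtain ⟨t, ht, e⟩ := (((H98.isSyl_sylow P).cj_of_mem (mem_top g)).of_le hPT' le_top).exists_cj_eq
      (H98.isSyl_sylow_of_le P hPT)
    have hn : t * g ∈ N := H46.mem_nrm_iff_cj.2 ((H98.cj_cj t g _).symm.trans e)
    have e1 : H32.cj g θ = cjn (hnK (t * g)) θ := by
      change _ = H32.cj (t * g) θ
      rw [H32.cj_mul, H32.mem_inertia.1 ht]
    rw [e1] at hθ' iθ' hm'
    obtain rfl : φ' = cjn (hND hn) φ := H.uniq_right hθ' hφ' (isIrr_cjn _ hφ) iθ' iφ'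
      (iφ.cjn _ hn) hm' (by rwa [mult_cjn])
    obtain ⟨ξ0, -, -, -, -, e2⟩ := real_over' hDN hND hoD hφ' (real_under' hDN hND hoD hξ' rξ' hφ' u2')
    rw [e2 ξ' hξ' rξ' u2']
    refine e2 ξ hξ rξ ?_
    rw [← (invBy_iff_cjn (le_normalizer hn)).1 (invBy_of_mem hξ.isClassFunction hn),
      classInner_res_cjn]
    exact u2
  have huniq' : ∀ χ χ' ξ, IsIrrCharacter G χ → Re χ → IsIrrCharacter G χ' → Re χ' →
      IsIrrCharacter N ξ → R χ ξ → R χ' ξ → χ = χ' := by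
    rintro χ χ' ξ hχ rχ hχ' rχ' hξ ⟨θ, φ, hθ, hφ, iθ, iφ, u1, u2, hm⟩
      ⟨θ', φ', hθ', hφ', iθ', iφ', u1', u2', hm'⟩
    obtain ⟨n, hn, rfl⟩ := exists_cjn_of_constituent hDN hND hξ hφ hφ' u2 u2'
    obtain rfl : θ' = cjn (hnK n) θ := H.uniq_left hθ' (isIrr_cjn _ hθ) hφ' iθ' (iθ.cjn _ hn) iφ'
      hm' (by rwa [mult_cjn])
    obtain ⟨χ0, -, -, -, -, e2⟩ := real_over ho hθ' (real_under ho hχ' rχ' hθ' u1')
    rw [e2 χ' hχ' rχ' u1']
    exact e2 χ hχ rχ ((H32.classInner_res_cj hχ.isClassFunction n θ).trans_ne u1)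
  choose F h1 h2 h3 using hex
  have hnd : ∀ χ (a : IsIrrCharacter G χ) (b : Re χ), ¬ p ∣ charDegree (F χ a b) := fun χ a b hd => by
    have h4 := hdeg χ _ a b (h1 χ a b) (h2 χ a b) (h3 χ a b)
    rw [(ZMod.natCast_eq_zero_iff _ _).2 hd, zero_eq_neg, eq_comm, or_self,
      ZMod.natCast_eq_zero_iff] at h4
    exact hR χ a b h4
  refine ⟨fun χ => ⟨⟨F χ.1 χ.1.2 χ.2, h1 _ _ _⟩, h2 _ _ _, hnd _ _ _⟩, ⟨fun a b e => ?_, fun ξ => ?_⟩,
    fun χ => hdeg _ _ χ.1.2 χ.2 (h1 _ _ _) (h2 _ _ _) (h3 _ _ _)⟩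
  · have e' : F a.1 a.1.2 a.2 = F b.1 b.1.2 b.2 := congrArg (fun x => x.1.1) e
    exact Subtype.ext (Subtype.ext (huniq' _ _ _ a.1.2 a.2 b.1.2 b.2 (h1 _ _ _) (h3 _ _ _)
      (by rw [e']; exact h3 _ _ _)))
  · obtain ⟨χ, hχ, rχ, hr⟩ := hex' ξ.1 ξ.1.2 ξ.2.1 ξ.2.2
    exact ⟨⟨⟨χ, hχ⟩, rχ⟩, Subtype.ext (Subtype.ext
      (huniq χ _ _ hχ (h1 _ _ _) (h2 _ _ _) ξ.1.2 ξ.2.1 (h3 _ _ _) hr))⟩

theorem inf_normal [Group.IsSolvable (gen p G)] (hR : RH p G) (P : Sylow p G) :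
    ((P : Subgroup G) ⊓ gen 2 G).Normal := by
  obtain ⟨Q, hQ⟩ := ((H98.isSyl_sylow P).inf_of_le_normalizer (N := gen 2 G) le_top
    (by rw [normalizer_eq_top]; exact le_top)).exists_sylow_map
  haveI := normal_of_le (a := 0) hR _ le_rfl (by simp) Q
  haveI := Q.characteristic_of_normal inferInstance
  rw [← hQ]
  infer_instance

theorem conj_of_inf_eq_bot (P : Sylow p G) (K : Subgroup G) [hK : K.Normal] (ho : Odd K.index)
    (hQ : (P : Subgroup G) ⊓ K = ⊥) (hR : RH p G) {x : G} (hx : IsConj x x⁻¹) :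
    ∃ y ∈ normalizer ((P : Subgroup G) : Set G), IsConj x y := by
  obtain ⟨f, hf, -⟩ := exists_bij P K ho (hQ ▸ inferInstance) hR
  let N := normalizer ((P : Subgroup G) : Set G)
  have h1 : Nat.card {χ : IrrCharacter G // Re (χ : G → ℂ)} ≤
      Nat.card {ξ : IrrCharacter N // Re (ξ : N → ℂ)} :=
    Nat.card_le_card_of_injective (fun χ => ⟨(f χ).1, (f χ).2.1⟩) fun a b e =>
      hf.1 (Subtype.ext (congrArg (fun x : {ξ : IrrCharacter N // Re (ξ : N → ℂ)} => x.1) e))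
  rw [Cfsg.Agent.S0160.result, Cfsg.Agent.S0160.result] at h1
  let F : {C : ConjClasses N // ∀ g : N, ConjClasses.mk g = C → IsConj g g⁻¹} →
      {C : ConjClasses G // ∀ g : G, ConjClasses.mk g = C → IsConj g g⁻¹} := fun C =>
    ⟨ConjClasses.map N.subtype C.1, by
      obtain ⟨C, hC⟩ := C
      obtain ⟨y, rfl⟩ := ConjClasses.mk_surjective C
      exact real_of_mk (N.subtype.map_isConj (hC y rfl))⟩
  have hF : Function.Injective F := by
    rintro ⟨C, hC⟩ ⟨C', hC'⟩ e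
    obtain ⟨y, rfl⟩ := ConjClasses.mk_surjective C
    obtain ⟨y', rfl⟩ := ConjClasses.mk_surjective C'
    obtain ⟨g, hg⟩ := isConj_iff.1 (ConjClasses.mk_eq_mk_iff_isConj.1 (congrArg Subtype.val e :
      ConjClasses.mk (y : G) = ConjClasses.mk (y' : G)))
    change g * (y : G) * g⁻¹ = (y' : G) at hg
    have key : ∀ z : N, IsConj z z⁻¹ → (P : Subgroup G) ≤ H46.Cent1 (z : G) := fun z hz a ha => by
      obtain ⟨hzK, -⟩ := (Cfsg.Agent.S3863.result z hz).2.2 (K.subgroupOf N)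
        (ho.of_dvd_nat (relIndex_dvd_index_of_normal K N))
      have : a * z * a⁻¹ * (z : G)⁻¹ ∈ (P : Subgroup G) ⊓ K := mem_inf.2 ⟨by
        have := mul_mem ha (H46.conj_mem_of_mem_nrm z.2 (inv_mem ha))
        simpa only [mul_assoc] using this, mul_mem (hK.conj_mem _ hzK a) (K.inv_mem hzK)⟩
      rw [hQ, mem_bot, mul_inv_eq_one, mul_inv_eq_iff_eq_mul] at this
      exact H46.mem_cent1.2 this
    have h2 : H98.cj g P ≤ H46.Cent1 (y' : G) := by
      rw [← hg, ← H46.cj_cent1]; exact H46.cj_mono g (key y (hC y rfl))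
    obtain ⟨c, hc, e2⟩ := (((H98.isSyl_sylow P).cj_of_mem (mem_top g)).of_le h2 le_top).exists_cj_eq
      (H98.isSyl_sylow_of_le P (key y' (hC' y' rfl)))
    have hn : c * g ∈ N := H46.mem_nrm_iff_cj.2 ((H98.cj_cj c g _).symm.trans e2)
    refine Subtype.ext (ConjClasses.mk_eq_mk_iff_isConj.2 (isConj_iff.2 ⟨⟨_, hn⟩, Subtype.ext ?_⟩))
    change c * g * y * (c * g)⁻¹ = y'
    calc c * g * y * (c * g)⁻¹ = c * (g * y * g⁻¹) * c⁻¹ := by group
      _ = y' := by rw [hg, H46.mem_cent1.1 hc, mul_inv_cancel_right]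
  obtain ⟨⟨C, hC⟩, e⟩ := (hF.bijective_of_nat_card_le h1).2 ⟨ConjClasses.mk x, real_of_mk hx⟩
  obtain ⟨y, rfl⟩ := ConjClasses.mk_surjective C
  exact ⟨y, y.2, (ConjClasses.mk_eq_mk_iff_isConj.1 (congrArg Subtype.val e :
    ConjClasses.mk (y : G) = ConjClasses.mk x)).symm⟩

theorem conj_into_normalizer [Group.IsSolvable (gen p G)] (hR : RH p G) (P : Sylow p G) {x : G}
    (hx : IsConj x x⁻¹) : ∃ y ∈ normalizer ((P : Subgroup G) : Set G), IsConj x y := by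
  haveI := inf_normal hR P
  set Q := (P : Subgroup G) ⊓ gen 2 G
  let π := QuotientGroup.mk' Q
  have hπ : Function.Surjective π := QuotientGroup.mk'_surjective Q
  have hk : π.ker = Q := QuotientGroup.ker_mk' Q
  obtain ⟨y, hy, hc⟩ := conj_of_inf_eq_bot (P.mapSurjective hπ) (gen 2 (G ⧸ Q)) odd_index_gen (by
    rw [eq_bot_iff]
    rintro _ ⟨⟨a, ha, rfl⟩, h2⟩
    have h3 : a ∈ ((gen 2 G).map π).comap π := gen_le_map π hπ h2
    rw [comap_map_eq_self (hk.le.trans inf_le_right)] at h3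
    exact (QuotientGroup.eq_one_iff a).2 ⟨ha, h3⟩) (hR.quot Q) (x := π x)
    (map_inv π x ▸ π.map_isConj hx)
  obtain ⟨c, rfl⟩ := isConj_iff.1 hc
  obtain ⟨c, rfl⟩ := hπ c
  refine ⟨c * x * c⁻¹, H46.mem_nrm_of_cj_le ?_, isConj_iff.2 ⟨c, rfl⟩⟩
  rintro _ ⟨a, ha, rfl⟩
  have h4 := H46.conj_mem_of_mem_nrm hy (mem_map_of_mem π ha)
  rw [← map_inv, ← map_mul, ← map_mul, ← map_inv, ← map_mul, ← map_mul] at h4
  have h5 : c * x * c⁻¹ * a * (c * x * c⁻¹)⁻¹ ∈ ((P : Subgroup G).map π).comap π := h4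
  rwa [comap_map_eq_self (hk.le.trans inf_le_left)] at h5

end H73.RE
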