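import Cfsg.Agent.H32.LinCount
import Cfsg.Agent.H30.FrobSchur
import Cfsg.Agent.H28.Degree
import Cfsg.Agent.H46.Prod

/-! Average degree of characters with Frobenius-Schur indicator one in `N ⋊ P`. -/

set_option autoImplicit false
set_option maxHeartbeats 400000

namespace H73.RC
open Cfsg H28 Subgroup H32

variable {G : Type*} [Group G]

theorem fsInd_indFun' [Fintype G] (T : Subgroup G) (ψ : T → ℂ) :
    H30.fsInd (indFun T ψ) = (Nat.card T : ℂ)⁻¹ * ∑ s : G, extendByZero T ψ (s * s) := by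
  simp only [H30.fsInd, H33.indFun_apply']
  rw [← Finset.mul_sum, Finset.sum_comm]
  have h1 : ∀ x : G, ∑ s : G, extendByZero T ψ (x * (s * s) * x⁻¹) =
      ∑ s : G, extendByZero T ψ (s * s) := by
    intro x
    rw [← Equiv.sum_comp (MulAut.conj x).toEquiv (fun s => extendByZero T ψ (s * s))]
    refine Finset.sum_congr rfl fun s _ => ?_
    change _ = extendByZero T ψ (x * s * x⁻¹ * (x * s * x⁻¹))
    congr 1; group
  simp only [h1, Finset.sum_const, Finset.card_univ, nsmul_eq_mul, ← Nat.card_eq_fintype_card]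
  rw [mul_left_comm, ← mul_assoc (Nat.card G : ℂ)⁻¹, inv_mul_cancel₀ (card_ne_zero' G), one_mul]

/-- the canonical extension of a linear character of `N` to its inertia group in `N ⋊ P` -/
theorem exists_ext {N P : Subgroup G} [hN : N.Normal] (hc : N.IsComplement' P) (f : N →* ℂˣ)
    (I : Subgroup G) (hNI : N ≤ I)
    (hI : ∀ g ∈ I, ∀ n : N, f ⟨g * n * g⁻¹, hN.conj_mem n n.2 g⟩ = f n) :
    ∃ F : I →* ℂˣ, ∀ (n : N) (u : G), u ∈ P → ∀ h : (n : G) * u ∈ I, F ⟨n * u, h⟩ = f n := by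
  have hex : ∀ g : G, ∃ n : N, (n : G)⁻¹ * g ∈ P := fun g => by
    obtain ⟨⟨n, u⟩, e⟩ := hc.2 g
    exact ⟨n, by rw [← e]; simp⟩
  choose ν hν using hex
  have huniq : ∀ (n : N) (u : G), u ∈ P → ν (n * u) = n := fun n u hu => by
    have := hc.1 (a₁ := (ν (n * u), ⟨_, hν (n * u)⟩)) (a₂ := (n, ⟨u, hu⟩)) (by simp)
    exact congrArg Prod.fst this
  refine ⟨MonoidHom.mk' (fun t => f (ν t)) fun a b => ?_, fun n u hu h => congrArg f (huniq n u hu)⟩
  have ha : ((ν a : G)⁻¹ * a) ∈ I := mul_mem (inv_mem (hNI (ν a).2)) a.2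
  rw [← hI _ ha (ν b), ← map_mul]
  congr 1
  rw [← huniq (ν a * ⟨_, hN.conj_mem _ (ν b).2 ((ν a : G)⁻¹ * a)⟩) _ (mul_mem (hν a) (hν b))]
  congr 1
  simp only [coe_mul]; group

theorem fs_one [Fintype G] {N P : Subgroup G} [hN : N.Normal] (hc : N.IsComplement' P)
    (hab : IsMulCommutative N) (f : N →* ℂˣ) (I : Subgroup G) (hNI : N ≤ I) (F : I →* ℂˣ)
    (hF : ∀ (n : N) (u : G), u ∈ P → ∀ h : (n : G) * u ∈ I, F ⟨n * u, h⟩ = f n)
    {z : G} (hz : z ∈ P) (hz2 : z * z = 1) (hinv : ∀ n ∈ N, n * (z * n * z⁻¹) = 1)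
    (hirr : IsIrrCharacter G (indFun I fun t => (F t : ℂ))) :
    H30.fsInd (indFun I fun t => (F t : ℂ)) = 1 := by
  classical
  have := Fintype.ofFinite N
  have := Fintype.ofFinite P
  let μ : G → N →* ℂ := fun u => (Units.coeHom ℂ).comp (f * f.comp (MulAut.conjNormal u).toMonoidHom)
  have hin : ∀ u : P, ∃ c : ℕ, ∑ n : N, extendByZero I (fun t => (F t : ℂ)) (n * u * (n * u)) = c ∧
      ((u : G) = z → 0 < c) := fun u => by
    have e : ∀ n : N, (n : G) * u * (n * u) = ((n * MulAut.conjNormal (u : G) n : N) : G) * (u * u) :=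
      fun n => by simp only [coe_mul, MulAut.conjNormal_apply]; group
    by_cases h : (u : G) * u ∈ I
    · have e2 : ∀ n : N, extendByZero I (fun t => (F t : ℂ)) (n * u * (n * u)) = μ u n := fun n => by
        rw [e, H33.ext0_of_mem _ _ (mul_mem (hNI (n * MulAut.conjNormal (u : G) n).2) h),
          hF _ _ (mul_mem u.2 u.2), map_mul]
        rfl
      simp only [e2, sum_hom_units]
      refine ⟨_, rfl, fun hu => ?_⟩
      rw [if_pos]
      · exact Fintype.card_pos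
      · ext n
        have : n * MulAut.conjNormal (u : G) n = 1 := Subtype.ext (by
          rw [coe_mul, MulAut.conjNormal_apply, hu]; exact hinv n n.2)
        change ((f n * f (MulAut.conjNormal (u : G) n) : ℂˣ) : ℂ) = 1
        rw [← map_mul, this, map_one, Units.val_one]
    · refine ⟨0, ?_, fun hu => absurd (by rw [hu, hz2]; exact one_mem _) h⟩
      rw [Nat.cast_zero]
      refine Finset.sum_eq_zero fun n _ => H33.ext0_of_not_mem _ _ fun h' => h ?_
      rw [e] at h'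
      exact (I.mul_mem_cancel_left (hNI (n * MulAut.conjNormal (u : G) n).2)).1 h'
  choose c hc1 hc2 using hin
  have hsum : H30.fsInd (indFun I fun t => (F t : ℂ)) = (Nat.card I : ℂ)⁻¹ * (∑ u, c u : ℕ) := by
    rw [fsInd_indFun', ← Function.Bijective.sum_comp hc, Fintype.sum_prod_type_right, Nat.cast_sum]
    congr 1
    exact Finset.sum_congr rfl fun u _ => hc1 u
  have hpos : 0 < ∑ u, c u := lt_of_lt_of_le (hc2 ⟨z, hz⟩ rfl)
    (Finset.single_le_sum (fun _ _ => Nat.zero_le _) (Finset.mem_univ _))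
  have hI := card_ne_zero' I
  rcases H30.fsInd_trichotomy hirr with h | h | h
  · rw [hsum, mul_eq_zero, inv_eq_zero, Nat.cast_eq_zero (n := ∑ u, c u)] at h
    exact absurd h (not_or.2 ⟨hI, hpos.ne'⟩)
  · exact h
  · rw [hsum, inv_mul_eq_iff_eq_mul₀ hI] at h
    have : ((∑ u, c u + Nat.card I : ℕ) : ℂ) = 0 := by rw [Nat.cast_add, h]; ring
    rw [Nat.cast_eq_zero] at this
    omega

theorem fs_mul [Fintype G] {β : G → ℂ} (hβ : IsIrrCharacter G β) (h1 : β 1 = 1)
    (hf : H30.fsInd β = 1) (χ : G → ℂ) : H30.fsInd (χ * β) = H30.fsInd χ := by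
  have hr : ∀ g, (β g).im = 0 := by
    by_contra h
    rw [H30.fsInd_eq_zero_of_not_real hβ h] at hf
    exact zero_ne_one hf
  have : ∀ s, β (s * s) = 1 := fun s => by
    rw [hβ.isCharacter.map_mul_of_degree_one h1]
    nth_rewrite 2 [← Complex.conj_eq_iff_im.2 (hr s)]
    rw [← hβ.isCharacter.apply_inv, ← hβ.isCharacter.map_mul_of_degree_one h1, mul_inv_cancel, h1]
  simp only [H30.fsInd, Pi.mul_apply, this, mul_one]

theorem exists_k [Fintype G] (N P : Subgroup G) (hN : N.Normal) (q : ℕ) [hq' : Fact q.Prime]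
    (hq : q ≠ 2) (hNel : IsElementaryAbelian q N) (hP : IsPGroup 2 ↥P) (hP1 : P ≠ ⊥)
    (hdisj : N ⊓ P = ⊥) (hprod : N ⊔ P = ⊤)
    (hmin : N ≠ ⊥ ∧ ∀ M : Subgroup G, M.Normal → M ≠ ⊥ → N ≤ M) :
    ∃ k : ℕ, 2 ∣ k ∧ Nat.card {χ : IrrCharacter G // charDegree (χ : G → ℂ) = 1 ∧
        H30.fsInd (χ : G → ℂ) = 1} ≤
      k * Nat.card {χ : IrrCharacter G // charDegree (χ : G → ℂ) = k ∧ H30.fsInd (χ : G → ℂ) = 1} := by
  classical
  have := Fintype.ofFinite N
  have hab := hNel.1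
  have hcomm : ∀ a ∈ N, ∀ b ∈ N, a * b = b * a := fun a ha b hb =>
    congrArg Subtype.val (hab.is_comm.comm ⟨a, ha⟩ ⟨b, hb⟩)
  have hc : N.IsComplement' P :=
    isComplement'_of_disjoint_and_mul_eq_univ (disjoint_iff.2 hdisj)
      (by rw [← normal_mul, hprod, coe_top])
  haveI : Nontrivial P := (nontrivial_iff_ne_bot _).2 hP1
  haveI := hP.center_nontrivial
  obtain ⟨⟨⟨z, hz⟩, hzc⟩, hz2⟩ := exists_prime_orderOf_dvd_card' (G := center P) 2 (by
    obtain ⟨k, hk0, hk⟩ := (hP.to_subgroup (center P)).nontrivial_iff_card.1 inferInstance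
    rw [hk]; exact dvd_pow_self 2 hk0.ne')
  rw [orderOf_mk, orderOf_mk] at hz2
  have hzz : z * z = 1 := by rw [← sq, ← hz2, pow_orderOf_eq_one]
  have hz1 : z ≠ 1 := fun e => by simp [e] at hz2
  have hzP : ∀ u ∈ P, u * z = z * u := fun u hu => congrArg Subtype.val (mem_center_iff.1 hzc ⟨u, hu⟩)
  have hCn : (N ⊓ H46.Cent1 z).Normal := by
    rw [← normalizer_eq_top_iff, eq_top_iff, ← hprod]
    refine sup_le (H46.nrm_of_comm hab inf_le_left) (H46.nrm_inf ?_ (H46.nrm_cent1 ?_))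
    · rw [H46.Nrm, normalizer_eq_top]; exact le_top
    · exact fun u hu => H46.mem_cent1.2 (hzP u hu)
  have hC : N ⊓ H46.Cent1 z = ⊥ := by
    by_contra h
    have h1 := (hmin.2 _ hCn h).trans inf_le_right
    have h2 : (zpowers z).Normal := by
      rw [← normalizer_eq_top_iff, eq_top_iff, ← hprod]
      exact (sup_le h1 fun u hu => H46.mem_cent1.2 (hzP u hu)).trans (H46.cent1_le_nrm_zpowers z)
    have h3 := (hmin.2 _ h2 (by simpa using hz1)).trans (zpowers_le.2 hz)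
    exact hmin.1 (by rw [← hdisj, inf_of_le_left h3])
  have hinv : ∀ n ∈ N, n * (z * n * z⁻¹) = 1 := fun n hn => by
    have hn' := hN.conj_mem n hn z
    have : n * (z * n * z⁻¹) ∈ N ⊓ H46.Cent1 z := ⟨mul_mem hn hn', H46.mem_cent1.2 (by
      have e : z⁻¹ = z := inv_eq_of_mul_eq_one_right hzz
      calc n * (z * n * z⁻¹) * z = (z * z) * (n * z * n) := by rw [hzz]; group
        _ = z * ((z * n * z) * n) := by group
        _ = z * (n * (z * n * z⁻¹)) := by rw [← hcomm _ hn' _ hn, e])⟩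
    rwa [hC] at this
  obtain ⟨n0, hn0, hn1⟩ := H46.exists_ne_one_of_ne_bot hmin.1
  have hNG : N ≤ commutator G := hmin.2 _ inferInstance fun e => by
    have h1 : n0 ∈ N ⊓ H46.Cent1 z :=
      ⟨hn0, H46.mem_cent1.2 (((commutator_eq_bot_iff G).1 e).is_comm.comm _ _)⟩
    rw [hC] at h1
    exact hn1 h1
  obtain ⟨φ, hφ, hφ1⟩ := exists_irr_not_mem_charKer (g := (⟨n0, hn0⟩ : N))
    (fun e => hn1 (congrArg Subtype.val e))
  obtain ⟨f, rfl⟩ := hφ.isCharacter.exists_hom (hφ.apply_one_of_comm hab.is_comm.comm)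
  set I := inertia (fun n : N => (f n : ℂ)) with hI
  have hNI : N ≤ I := le_inertia hφ.isClassFunction
  obtain ⟨F, hF⟩ := exists_ext hc f I hNI fun g hg n => Units.ext (mem_inertia_iff.1 hg n)
  have hext : ∀ n : N, (F ⟨n, hNI n.2⟩ : ℂ) = f n := fun n => by
    have := hF n 1 (one_mem _) (by simpa using hNI n.2)
    simp only [mul_one] at this
    rw [this]
  have hψ := isIrrCharacter_of_hom F
  have hirr : IsIrrCharacter G (indFun I fun t => (F t : ℂ)) :=
    (cliffordCorr_irr hφ hI hNI hψ (by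
      simp only [hext]; rw [hφ.classInner_self]; exact one_ne_zero)).1
  have hfs := fs_one hc hab f I hNI F hF hz hzz hinv hirr
  have hzI : z ∉ I := fun h => hφ1 (by
    rw [hφ.isCharacter.mem_charKer]
    have h1 : f ⟨_, hN.conj_mem n0 hn0 z⟩ = f ⟨n0, hn0⟩ := Units.ext (mem_inertia_iff.1 h ⟨n0, hn0⟩)
    have h2 : f ⟨n0, hn0⟩ ^ 2 = 1 := by
      rw [sq]; nth_rewrite 2 [← h1]
      rw [← map_mul, ← map_one f]; congr 1; exact Subtype.ext (hinv n0 hn0)
    have h3 : f ⟨n0, hn0⟩ ^ q = 1 := by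
      rw [← map_pow, ← map_one f]; congr 1; exact Subtype.ext (hNel.2 n0 hn0)
    have h4 := Nat.dvd_gcd (orderOf_dvd_of_pow_eq_one h2) (orderOf_dvd_of_pow_eq_one h3)
    rw [((Nat.coprime_primes Nat.prime_two hq'.out).2 hq.symm).gcd_eq_one, Nat.dvd_one,
      orderOf_eq_one_iff] at h4
    rw [h4, map_one])
  refine ⟨I.index, ?_, card_lin_le hNG hφ hI hNI hψ hext _ _ (fun χ h => h.1) ?_⟩
  · obtain ⟨a, ha⟩ := IsPGroup.iff_card.1 hP
    have h1 : I.index ∣ 2 ^ a := ha ▸ hc.symm.index_eq_card ▸ index_dvd_of_le hNI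
    obtain ⟨b, -, hb⟩ := (Nat.dvd_prime_pow Nat.prime_two).1 h1
    rw [hb]
    refine dvd_pow_self 2 fun e => hzI ?_
    rw [e, pow_zero, index_eq_one] at hb
    rw [hb]; exact mem_top z
  · intro χ χ' hχ hi e
    have h1 : (χ : G → ℂ) 1 = 1 := χ.2.isCharacter.charDegree_eq_one_iff.1 hχ.1
    have e2 : χ'.1 = indFun I (fun t => (F t : ℂ)) * χ.1 := by
      rw [e, ← H33.indFun_mul_res I _ χ.2.isClassFunction, mul_comm]; rfl
    refine ⟨?_, ?_⟩
    · change charDegree χ'.1 = _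
      rw [e2, hirr.isCharacter.charDegree_mul χ.2.isCharacter, hψ.isCharacter.charDegree_indFun,
        charDegree_hom, hχ.1, mul_one, mul_one]
    · change H30.fsInd χ'.1 = _
      rw [e2, fs_mul χ.2 h1 hχ.2, hfs]

theorem count {ι : Type*} [Fintype ι] (d : ι → ℕ) (hd : ∀ i, 0 < d i) (R : ι → Prop) (k : ℕ)
    (hk : 2 ∣ k) (h : Nat.card {i // d i = 1 ∧ R i} ≤ k * Nat.card {i // d i = k ∧ R i}) :
    4 * Nat.card {i // (d i = 1 ∨ 2 ∣ d i) ∧ R i} ≤
      3 * ∑ᶠ i : {i // (d i = 1 ∨ 2 ∣ d i) ∧ R i}, d i.1 := by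
  classical
  rw [finsum_eq_sum_of_fintype, ← Finset.sum_subtype (Finset.univ.filter
    fun i => (d i = 1 ∨ 2 ∣ d i) ∧ R i) (by simp) d, Finset.sum_filter]
  simp only [Nat.card_eq_fintype_card, Fintype.card_subtype, Finset.card_filter, Finset.mul_sum] at h ⊢
  have key : ∑ i, (4 * (if (d i = 1 ∨ 2 ∣ d i) ∧ R i then 1 else 0) +
      k * (if d i = k ∧ R i then 1 else 0)) ≤
      ∑ i, (3 * (if (d i = 1 ∨ 2 ∣ d i) ∧ R i then d i else 0) +
        (if d i = 1 ∧ R i then 1 else 0)) := by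
    refine Finset.sum_le_sum fun i _ => ?_
    have := hd i
    by_cases hR : R i
    · simp only [hR, and_true]
      split_ifs <;> omega
    · simp [hR]
  rw [Finset.sum_add_distrib, Finset.sum_add_distrib] at key
  omega

end H73.RC
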