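/- STD-S tower: product formulas for the halves and good pairs (generic part of the slots `GA`). -/
import Cfsg.Agent.H25.STHc

set_option autoImplicit false

namespace H73.STG

open H64.SG H25.ST Subgroup

variable {X : Type} [Group X] {G : Type*} [Group G] {e : X →* G} {t : G} {h : X → G}
  {x y z a b : X}

/-- The product formula for the commuting pair `x, y`. -/
structure PF (h : X → G) (x y : X) : Prop where
  l : I x
  r : I y
  p : I (x * y)
  comm : x * y = y * x
  eq : h (x * y) = h x * h y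

theorem PF.of_ln {Ln : X → X → Prop} (H : HP Ln e t h) (hx : I x) (hy : I y) (l : Ln x y) :
    PF h x y := ⟨hx, hy, (H.pf x y l).1, (H.pf x y l).2.1, (H.pf x y l).2.2⟩

theorem PF.hc (H : HC e t h) (k : PF h x y) : h x * h y = h y * h x := by
  have := H.inv_h k.p
  rwa [k.eq, mul_inv_rev, H.inv_h k.l, H.inv_h k.r, eq_comm] at this

theorem PF.symm (H : HC e t h) (k : PF h x y) : PF h y x :=
  ⟨k.r, k.l, k.comm ▸ k.p, k.comm.symm, by rw [← k.comm, k.eq, k.hc H]⟩

theorem PF.conj (H : HC e t h) (k : PF h x y) (g : X) : PF h (g * x * g⁻¹) (g * y * g⁻¹) := by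
  refine ⟨k.l.conj g, k.r.conj g, ?_, ?_, ?_⟩
  · rw [conj_mul]; exact k.p.conj g
  · rw [conj_mul, conj_mul, k.comm]
  · rw [conj_mul, H.eqv _ g k.p, H.eqv _ g k.l, H.eqv _ g k.r, conj_mul, k.eq]

theorem PF.gd (H : HC e t h) (k : PF h x y) : Gd e h x y := (H.gd_iff_comm k.l k.comm).2 (k.hc H)

/-- The magic square. -/
theorem gd_of_sq (H : HC e t h) {r u d c : X} (k0 : PF h z d) (k1 : PF h r u) (k2 : PF h r d)
    (k3 : PF h u c) (k4 : PF h (z * d) c) (k5 : PF h (r * d) (u * c))
    (k6 : PF h (r * u) (z * d * c)) (hu : u * d * u⁻¹ = z * d) : Gd e h d u := by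
  have e0 : r * d * (u * c) = r * u * (z * d * c) := by
    have : u * (z * d) = d * u := by
      rw [← hu, ← mul_assoc, ← mul_assoc, k1.r.sq, one_mul, inv_eq_of_mul_eq_one_right k1.r.sq]
    rw [mul_assoc r, mul_assoc r, ← mul_assoc u, this, mul_assoc]
  have e1 := k5.eq
  rw [e0, k6.eq, k1.eq, k4.eq, k2.eq, k3.eq, mul_assoc (h r), mul_assoc (h r), mul_right_inj,
    ← mul_assoc, ← mul_assoc, mul_left_inj] at e1
  rw [Gd, commute_iff_eq, mul_assoc (h u), H.e_mul k0.r, hu, ← mul_assoc, ← e1, mul_assoc]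

/-- `q` fixes `a` and `b` modulo `z`. -/
def St (z a b q : X) : Prop :=
  (q * a * q⁻¹ = a ∨ q * a * q⁻¹ = z * a) ∧ (q * b * q⁻¹ = b ∨ q * b * q⁻¹ = z * b)

/-- The product formula when the elements fixing `a, b` modulo a common neighbour generate `X`. -/
theorem pf_of_gen (H : HC e t h) (hF : F0 X) (ha : I a) (hb : I b) (hc : I (a * b))
    (hab : a * b = b * a)
    (hg : ∀ K : Subgroup X, (∀ z q, PF h z a → PF h z b → PF h z (a * b) → St z a b q → q ∈ K) →
      K = ⊤) : PF h a b := by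
  refine ⟨ha, hb, hc, hab, ?_⟩
  have r : ∀ {x y : G}, x * y = y * x → ∀ w, x * (y * w) = y * (x * w) := fun k w => by
    rw [← mul_assoc, k, mul_assoc]
  have r' : ∀ {x : G}, x * x = 1 → ∀ w, x * (x * w) = w := fun k w => by rw [← mul_assoc, k, one_mul]
  have r2 : ∀ {x : X}, I x → ∀ w, t * (h x * w) = h x * (e x * (t * w)) := fun hx w => by
    rw [← mul_assoc, H.t_mul hx]; simp only [mul_assoc]
  have hK := hg ((Cz (h a * h b * h (a * b)) ⊓ Cz (h a * h b * (h a * h b))).comap e)
    fun z q za zb zc ⟨qa, qb⟩ => by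
      have d1 := za.hc H
      have d2 := zb.hc H
      have zz := H.sq z za.l
      have cz : ∀ {g x : G}, g * x * g⁻¹ = x → g ∈ Cz x := fun k =>
        mem_Cz.2 (mul_inv_eq_iff_eq_mul.1 k).symm
      suffices k : e q * h a * (e q)⁻¹ * (e q * h b * (e q)⁻¹) * (e q * h (a * b) * (e q)⁻¹) =
          h a * h b * h (a * b) ∧ e q * h a * (e q)⁻¹ * (e q * h b * (e q)⁻¹) *
          (e q * h a * (e q)⁻¹ * (e q * h b * (e q)⁻¹)) = h a * h b * (h a * h b) by
        simp only [conj_mul] at k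
        exact ⟨cz k.1, cz k.2⟩
      rw [← H.eqv _ q hc, ← H.eqv _ q ha, ← H.eqv _ q hb, ← conj_mul (a := a) (b := q) (c := b)]
      rcases qa with j1 | j1 <;> rcases qb with j2 | j2 <;> rw [j1, j2]
      · exact ⟨rfl, rfl⟩
      · rw [← mul_assoc a, ← za.comm, mul_assoc z, zc.eq, zb.eq]
        simp only [mul_assoc, r d1.symm, r d2.symm, r' zz, and_self]
      · rw [mul_assoc z, zc.eq, za.eq]
        simp only [mul_assoc, r d1.symm, r d2.symm, r' zz, and_self]
      · rw [mul_assoc z, ← mul_assoc a, ← za.comm, ← mul_assoc z, ← mul_assoc z, za.l.sq, one_mul,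
          za.eq, zb.eq]
        simp only [mul_assoc, r d1.symm, r d2.symm, r' zz, and_self]
  have k1 : ∀ s, e s ∈ Cz (h a * h b * h (a * b)) ⊓ Cz (h a * h b * (h a * h b)) := fun s =>
    (hK.ge (mem_top s) :)
  have c1 : h a * h b * h (a * b) ∈ Cs e.range := mem_Cs_range.2 fun s => (mem_Cz.1 (k1 s).1).symm
  have c2 : h a * h b * (h a * h b) ∈ Cs e.range := mem_Cs_range.2 fun s => (mem_Cz.1 (k1 s).2).symm
  have c3 : h a * h b * h (a * b) ∈ Cz t := by
    have s1 : e a * e a = 1 := by rw [← map_mul, ha.sq, map_one]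
    have s2 : e b * e b = 1 := by rw [← map_mul, hb.sq, map_one]
    have c5 : e b * e a = e a * e b := by rw [← map_mul, ← hab, map_mul]
    refine mem_Cz.2 ?_
    simp only [mul_assoc, r2 ha, r2 hb, H.t_mul hc, map_mul, r (H.comm hb hab), r c5, r' s1,
      r' s2, r (H.comm hc (g := a) (by rw [mul_assoc, hab])),
      r (H.comm hc (g := b) (by rw [← mul_assoc, hab]))]
  obtain ⟨o, o1, o2, o3, o4, k⟩ := H.split (v := 1)
    (mul_mem (mul_mem (h_mem_HH ha) (h_mem_HH hb)) (h_mem_HH hc)) c3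
    (ind_conj_iff.2 (by rwa [map_one, inv_one, mul_one]))
  have γ := H.sq _ hc
  have oc := (o2 _ hc).eq
  rw [map_one, mul_one, mul_one] at k
  rcases k with k | k
  · have k2 : h a * h b = o * h (a * b) := by rw [← k, mul_assoc _ (h _), γ, mul_one]
    have k3 : h a * h b * (h a * h b) = o * o := by
      rw [k2, mul_assoc, ← mul_assoc (h _), ← oc, mul_assoc, γ, mul_one]
    have k4 : o ^ 4 = 1 := by
      have : h a * (o * o) * h a = o * o := by
        rw [← ((o2 a ha).mul_left (o2 a ha)).eq, mul_assoc, H.sq a ha, mul_one]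
      rw [show o ^ 4 = o * o * (o * o) by simp only [pow_succ, pow_zero, one_mul, mul_assoc]]
      nth_rw 1 [← this]
      simp only [← k3, mul_assoc, r' (H.sq a ha), r' (H.sq b hb), H.sq b hb, H.sq a ha, mul_one]
    rw [k2, (show Is2 o from ⟨2, k4⟩).eq_one o1, one_mul]
  · exfalso
    have k2 : h a * h b = t * o * h (a * b) := by rw [← k, mul_assoc _ (h _), γ, mul_one]
    have k3 : h a * h b * (h a * h b) = o * o * e (a * b) := by
      have ot := mem_Cz.1 o4
      have := H.tht hc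
      calc _ = o * o * (t * h (a * b) * t * h (a * b)) := by
            simp only [k2, mul_assoc, r ot, r oc.symm]
        _ = _ := by rw [this, ← H.comm hc rfl, mul_assoc (e _), γ, mul_one]
    exact hc.ne (e_mem_Cs H.inj hF ((mul_mem_cancel_left (mul_mem o3 o3)).1 (k3 ▸ c2)))

end H73.STG
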