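import Cfsg.Agent.H60.PmT

/-! Overgroups of the real Clifford group of minus type in rank `64`. -/

set_option autoImplicit false
set_option linter.unusedSectionVars false

namespace H73.Sp8

open H60.Cl
open scoped commutatorElement MatrixGroups

variable {K E : Type*} [Field K] [Ring E] [Algebra K E] [Finite E]
variable {τ : E →ₗ[K] K} {P G N Q U : Subgroup Eˣ} {x y z d g j k u v w a b c D : Eˣ} {A : Adj K E}

/-- no totally singular plane of symmetric involutions -/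
def M2 (A : Adj K E) (P : Subgroup Eˣ) : Prop :=
  ∀ a ∈ P, ∀ b ∈ P, a ∈ A.I → b ∈ A.I → a * a = 1 → b * b = 1 → a * b = b * a →
    a ∉ Zs K E → b ∉ Zs K E → a * b ∈ Zs K E

/-- minus type in rank `64` -/
def Mi (A : Adj K E) (P : Subgroup Eˣ) : Prop :=
  ∀ d x, Hyp P d x → d ∈ A.I → M2 A (P1 P d x)

theorem exists_skew (O : Ort A Q) (h : Amb τ) (h16 : 16 ≤ rk K Q) (ha : a ∈ Q) (hb : b ∈ Q)
    (an : a * b = -(b * a)) : ∃ u ∈ Q, u ∈ A.I ∧ u * u = -1 ∧ u * a = a * u ∧ u * b = b * u := by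
  have r := O.pau.rk_P1 ha hb
  obtain ⟨u, u1, u2, u3⟩ := O.adjust h (O.pau.p1 ha hb an) P1_le (not_le_of_rk (by omega))
    (one_mem _) (Or.inr rfl)
  rw [one_mul] at u2 u3
  exact ⟨u, P1_le u1, u2, u3, (mem_P1.1 u1).1.2, (mem_P1.1 u1).2⟩

theorem le_of_semireg (O : Ort A Q) (h : Amb τ) (h16 : 16 ≤ rk K Q) (hM : M2 A Q) {X : Subgroup Eˣ}
    (hX : X ≤ Nm Q) (hI : X ≤ A.I)
    (fx : ∀ k ∈ X, ∀ u ∈ Q, u ∈ A.I → u * u = -1 → ⁅k, u⁆ ∈ Zs K E → k ∈ Q)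
    (cm : ∀ k ∈ X, ∀ w ∈ Q, w ∈ A.I → w * w = -1 → ∀ v ∈ Q, v ∈ A.I → v * v = -1 →
      ⁅k, ga v * ga w⁆ ∈ X) : X ≤ Q := by
  intro k hk
  by_contra hn
  have mv : ∀ u ∈ Q, u ∈ A.I → u * u = -1 → k * u * k⁻¹ * u⁻¹ ∉ Zs K E :=
    fun u a1 a2 a3 e => hn (fx k hk u a1 a2 a3 e)
  have cq : ∀ {u}, u ∈ Q → k * u * k⁻¹ ∈ Q := fun hu => Nm_conj (hX hk) hu
  have ci : ∀ {u}, u ∈ A.I → k * u * k⁻¹ ∈ A.I := fun hu =>
    mul_mem (mul_mem (hI hk) hu) (inv_mem (hI hk))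
  have sq := fun {w : Eˣ} (e : w * w = -1) => conj_sq (K := K) k e neg_one_mem
  have s1 : ∀ {a b : Eˣ}, a * a = -1 → b * b = -1 → a * b = b * a → a * b * (a * b) = 1 :=
    fun e1 e2 c => by rw [mul_sq_comm c, e1, e2]; simp
  have s2 : ∀ {a b : Eˣ}, a * a = -1 → b * b = -1 → a * b = -(b * a) → a * b * (a * b) = -1 :=
    fun e1 e2 c => by rw [mul_sq_anti c, e1, e2]; simp
  by_cases h1 : ∃ w ∈ Q, w ∈ A.I ∧ w * w = -1 ∧ w * (k * w * k⁻¹) = -(k * w * k⁻¹ * w)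
  · obtain ⟨w, w1, w2, w3, an⟩ := h1
    have v1 := mul_mem w1 (cq w1)
    have v2 := mul_mem w2 (ci w2)
    have v3 := s2 w3 (sq w3) an
    have m := cm k hk w w1 w2 w3 _ v1 v2 v3
    have e0 : ga (w * (k * w * k⁻¹)) = ga w * ga (k * w * k⁻¹) * (ga w)⁻¹ := by
      rw [h.ga_conj (sq w3), h.ga_anti w3 an]
    rw [commutatorElement_def, ← conj_mul, h.ga_conj w3, h.ga_conj v3, e0,
      show ∀ a b c : Eˣ, a * b * (c * b * c⁻¹ * c)⁻¹ = a * c⁻¹ from fun a b c => by group] at m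
    obtain ⟨u, u1, u2, u3, u4, u5⟩ : ∃ u ∈ Q, u ∈ A.I ∧ u * u = -1 ∧ u * w = w * u ∧
        u * (k * (w * (k * w * k⁻¹)) * k⁻¹) = k * (w * (k * w * k⁻¹)) * k⁻¹ * u := by
      rcases O.pau.comm w w1 _ (cq v1) with c | c
      · exact ⟨w, w1, w2, w3, rfl, c⟩
      · exact exists_skew O h h16 w1 (cq v1) c
    have z := O.pau.two_fix h (cq v1) w1 (sq v3) w3 (fx _ m u u1 u2 u3 (by
      rw [commutatorElement_eq_one_iff_mul_comm.2
        (cc (h.ga_comm (sq v3) u5) (cinv (h.ga_comm w3 u4))).symm]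
      exact one_mem _))
    obtain ⟨u, u1, u2, u3, u4, u5⟩ := exists_skew O h h16 w1 (cq w1) an
    have c1 := conj_comm k u4
    have c2 : k * u * k⁻¹ * w = w * (k * u * k⁻¹) := by
      have := cc (cinv (conj_comm k (cc u4 u5))) (Zs_comm z _).symm
      rw [inv_mul_cancel_left] at this
      simpa only [inv_inv] using cinv this
    have n := mv u u1 u2 u3
    have an' := anti_symm an
    have b1 := cq w1
    have b2 := ci w2
    have b3 := sq w3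
    have b4 := cq u1
    have b5 := ci u2
    have b6 := sq u3
    generalize k * w * k⁻¹ = w' at *
    generalize k * u * k⁻¹ = u' at *
    rcases O.pau.comm u u1 u' b4 with c | c
    · have := hM _ (mul_mem w1 u1) _ (mul_mem w1 b4) (mul_mem w2 u2) (mul_mem w2 b5)
        (s1 w3 u3 u4.symm) (s1 w3 b6 c2.symm) (cc (cc rfl u4.symm).symm (cc c2 c.symm).symm)
        (h.notMem_of_anti (anti_symm (ac an' u5.symm))) (h.notMem_of_anti (anti_symm (ac an' c1.symm)))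
      rw [mul_assoc, ← mul_assoc u, u4, mul_assoc, ← mul_assoc, w3, neg_one_mul, neg_mem_Zs, c] at this
      exact n (by rwa [inv_of_nsq u3, mul_neg, neg_mem_Zs])
    · exact h.notMem_of_anti (anti_symm (ca (cc rfl u4.symm) (ac an c2.symm)))
        (hM _ (mul_mem w1 u1) _ (mul_mem b1 b4) (mul_mem w2 u2) (mul_mem b2 b5)
          (s1 w3 u3 u4.symm) (s1 b3 b6 c1.symm)
          (aa (anti_symm (ac an' u5.symm)) (anti_symm (ca c2 (anti_symm c))))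
          (h.notMem_of_anti (anti_symm (ac an' u5.symm))) (h.notMem_of_anti (anti_symm (ac an c2.symm))))
  have h2 : ∀ w ∈ Q, w ∈ A.I → w * w = -1 → w * (k * w * k⁻¹) = k * w * k⁻¹ * w :=
    fun w a1 a2 a3 => (O.pau.comm w a1 _ (cq a1)).resolve_right fun e => h1 ⟨w, a1, a2, a3, e⟩
  have n : ∀ w ∈ Q, w ∈ A.I → w * w = -1 → w * (k * w * k⁻¹) ∉ Zs K E := fun w a1 a2 a3 e =>
    mv w a1 a2 a3 (by rwa [inv_of_nsq a3, mul_neg, neg_mem_Zs, ← h2 w a1 a2 a3])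
  obtain ⟨w, w1, w2, w3, -⟩ := O.pat h ![] (fun a => a.elim0) (by simp; omega) (one_mem _) (Or.inr rfl)
  obtain ⟨v, hv, an⟩ := O.pau.exists_anti w1 (h.skew_notMem w2 w3)
  obtain ⟨v, v1, v2, v3, -, v4⟩ := O.pat h ![w] (by simpa) (by omega) hv (Or.inr rfl)
  have a1 : v * w = -(w * v) := v4 0 an
  have a2 := conj_anti k a1
  have t3 := s2 v3 w3 a1
  have c1 := h2 w w1 w2 w3
  have c2 := h2 v v1 v2 v3
  have c3 := h2 _ (mul_mem v1 w1) (mul_mem v2 w2) t3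
  have n3 := n _ (mul_mem v1 w1) (mul_mem v2 w2) t3
  have n1 := n w w1 w2 w3
  have n2 := n v v1 v2 v3
  rw [← conj_mul] at c3 n3
  have b1 := cq w1
  have b2 := ci w2
  have b3 := sq w3
  have b4 := cq v1
  have b5 := ci v2
  have b6 := sq v3
  generalize k * w * k⁻¹ = w' at *
  generalize k * v * k⁻¹ = v' at *
  have key := fun c => hM _ (mul_mem v1 b4) _ (mul_mem w1 b1) (mul_mem v2 b5) (mul_mem w2 b2)
    (s1 v3 b6 c2) (s1 w3 b3 c1) c n2 n1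
  rcases O.pau.comm w w1 v' b4 with d1 | d1 <;> rcases O.pau.comm v v1 w' b1 with d2 | d2
  · have := key (aa (anti_symm (ac (anti_symm a1) d1)) (anti_symm (ca d2.symm (anti_symm a2))))
    rw [mul_assoc, ← mul_assoc v', ← d1] at this
    exact n3 (by simpa only [mul_assoc] using this)
  · exact h.not_anti c3 (anti_symm (ac (anti_symm (ca c2 d2)) (cc d1 c1).symm))
  · exact h.not_anti c3 (anti_symm (ca (cc c2 d2).symm (anti_symm (ac d1 c1))))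
  · have := key (cc (aa (anti_symm a1) d1).symm (aa (anti_symm d2) (anti_symm a2)).symm)
    rw [mul_assoc, ← mul_assoc v', anti_symm d1, neg_mul, mul_neg, neg_mem_Zs] at this
    exact n3 (by simpa only [mul_assoc] using this)

theorem Kp_le (R : Rel2 A P G) (h : Amb τ) (h64 : 64 ≤ rk K P) (hM : Mi A P)
    (hC : ∀ j ∈ P, j ∈ A.I → j * j = -1 → ∀ g ∈ G, g * j = j * g → g ∈ Nm P) (H : Hyp P d x)
    (hd : d ∈ A.I) (hx : x ∈ A.I) :
    (h.Kp H.dd (Un K (P1 P d x)) G fun _ => Un_P1_d) ⊓ Nm (P1 P d x) ≤ P1 P d x := by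
  have O := R.ort.of_le (R.pau.p1 H.hd H.hx H.an) P1_le
  have r1 := R.pau.rk_P1 H.hd H.hx
  refine le_of_semireg O h (by omega) (hM d x H hd) inf_le_right
    (fun k hk => h.mem_I_of_ct H.dd H.an hd hx (Un_P1_d hk.1.1) (Un_P1_x hk.1.1) (R.sim hk.1.2))
    (fun k hk u u1 u2 u3 e => R.fixed h (by omega) hC H hd hk.1.1 hk.1.2 u1 u2 u3 e)
    fun k hk w a1 a2 a3 v b1 b2 b3 => ?_
  have m := comm_mem_of_Nm (Nm_inf' (h.Kp_Nm H.dd (R.two_Gp h b1 b2 b3 a1 a2 a3))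
    (Subgroup.le_normalizer (mul_mem (O.pau.ga_Nm h b3 b1) (O.pau.ga_Nm h a3 a1)))) hk
  rwa [← commutatorElement_inv, inv_mem_iff] at m

theorem Gp_le (R : Rel2 A P G) (h : Amb τ) (h64 : 64 ≤ rk K P) (hM : Mi A P)
    (hC : ∀ j ∈ P, j ∈ A.I → j * j = -1 → ∀ g ∈ G, g * j = j * g → g ∈ Nm P) (H : Hyp P d x)
    (hd : d ∈ A.I) (hx : x ∈ A.I) :
    Gp (K := K) (Un K (P1 P d x)) G (fun _ => Un_P1_d) ≤ Nm (P1 P d x) := by
  have O := R.ort.of_le (R.pau.p1 H.hd H.hx H.an) P1_le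
  have r1 := R.pau.rk_P1 H.hd H.hx
  refine O.pau.le_Nm_of h (N := h.Kp H.dd (Un K (P1 P d x)) G fun _ => Un_P1_d) (fun _ hu => hu.1)
    (fun _ hu => mem_Gp_of (le_Un hu) (R.le (P1_le hu)))
    (fun u hu => ⟨hu.1, _, hu.2, (h.ct_comm H.dd (Un_P1_d hu.1) rfl (Un_P1_d hu.1).symm).symm,
      h.ct_ee H.dd (Un_P1_d hu.1)⟩) (h.Kp_Nm H.dd) (fun y hy => ?_) (Kp_le R h h64 hM hC H hd hx)
    fun y hy hy' => ?_
  · obtain ⟨c, hc, m1, m2⟩ := O.real hy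
    exact (Subgroup.mul_mem_cancel_left _ (Subgroup.mem_sup_right hc)).1 (Subgroup.mem_sup_left
      ⟨le_Un m1, R.ct_mem h (by omega) H.hd hd H.dd (P1_le m1) m2 (mem_P1.1 m1).1.2⟩)
  obtain ⟨w, hw, an⟩ := O.pau.exists_anti hy hy'
  obtain ⟨w, w1, w2, w3, -, w4⟩ := O.pat h ![y] (by simpa) (by omega) hw (Or.inr rfl)
  obtain ⟨v, v1, v2, v3, v4, -⟩ := O.pat h ![y] (by simpa) (by omega) (one_mem _) (Or.inr rfl)
  have a1 : w * y = -(y * w) := w4 0 an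
  have a2 : v * y = y * v := v4 0 (by simp)
  refine ⟨_, R.two_Gp h w1 w2 w3 v1 v2 v3, ?_⟩
  rw [mul_inv_rev, mul_assoc (ga w), ← h.ga_comm v3 a2.symm, ← mul_assoc, ← mul_assoc,
    mul_inv_cancel_right, h.ga_anti w3 a1]
  exact anti_symm (ac (anti_symm a1) rfl)

theorem cen_sym (R : Rel2 A P G) (h : Amb τ) (h64 : 64 ≤ rk K P) (hM : Mi A P)
    (hC : ∀ j ∈ P, j ∈ A.I → j * j = -1 → ∀ g ∈ G, g * j = j * g → g ∈ Nm P) (H : Hyp P d x)
    (hd : d ∈ A.I) (hx : x ∈ A.I) (hg : g ∈ G) (hc : g * d = d * g) : g ∈ Nm P := by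
  have O := R.ort.of_le (R.pau.p1 H.hd H.hx H.an) P1_le
  have r1 := R.pau.rk_P1 H.hd H.hx
  have s2 := Gp_le R h h64 hM hC H hd hx
  obtain ⟨u, hu, v, hv, rfl⟩ := H.part' R.pau h (R.le H.hx) R.un hg hc
  have hk := mul_mem (inv_mem hv) hu
  set k := v⁻¹ * u
  have c1 := Un_P1_d hk.1
  have v1 := h.Gp_sim H hd hx R.sim hv
  have k1 : k ∈ P1 P d x := O.pau.inn h hk.1 fun y hy => by
    have key : ∀ w ∈ P1 P d x, w ∈ A.I → w * w = -1 → Commute (pr K E k) (pr K E w) :=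
      fun w w1 w2 w3 => pr_comm.2 (O.fix h (s2 hk) le_rfl O.pau.sc_le (by omega)
        (fun w a1 a2 a3 w' b1 b2 b3 => ?_) w1 w2 w3)
    · obtain ⟨c, hc, m1, m2⟩ := O.real hy
      rw [← pr_comm, ← one_mul (pr K E y), ← pr_eq_one.2 hc, ← map_mul]
      rcases O.sq h m1 m2 with e | e
      swap
      · exact (key _ m1 m2 e).symm
      obtain ⟨j, j1, j2, j3, j4, -⟩ := O.pat h ![c * y] (by simpa) (by omega) (one_mem _) (Or.inr rfl)
      have := ((key j j1 j2 j3).inv_right).mul_right (key _ (mul_mem j1 m1) (mul_mem j2 m2) (by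
        rw [mul_sq_comm (y := c * y) (j4 0 (by simp)), j3, e, mul_one]))
      rw [map_mul (pr K E) j, inv_mul_cancel_left] at this
      exact this.symm
    have σ1 := R.two_Gp h b1 b2 b3 a1 a2 a3
    have σ2 := R.two _ (P1_le b1) b2 b3 _ (P1_le a1) a2 a3
    have σ3 := R.two _ (P1_le (Nm_conj (s2 hv) b1)) (Adj.conj v1 b2) (conj_sq (K := K) v b3 neg_one_mem)
      _ (P1_le (Nm_conj (s2 hv) a1)) (Adj.conj v1 a2) (conj_sq (K := K) v a3 neg_one_mem)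
    rw [← h.ga_conj b3, ← h.ga_conj a3, conj_mul] at σ3
    set σ := ga w' * ga w
    have m := mul_mem (mul_mem (mul_mem hk σ1) (inv_mem hk)) (inv_mem σ1)
    have m' := mul_mem (mul_mem hv m) (inv_mem hv)
    have c2 := Un_P1_d σ1.1
    have e : ct K d (v * (k * σ * k⁻¹ * σ⁻¹) * v⁻¹) =
        v * ct K d k * σ * (v * ct K d k)⁻¹ * (v * σ * v⁻¹)⁻¹ := by
      rw [← h.ct_conj_of H.dd (Un_P1_d m.1) (Un_P1_d hv.1) (Un_P1_d hv.1) rfl, mul_assoc k, mul_assoc k,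
        h.ct_mul H.dd c1 (cc (cc c2.symm (cinv c1.symm)) (cinv c2.symm)).symm,
        ← h.ct_conj_of H.dd (cinv c1.symm).symm c2 c2 rfl, h.ct_inv H.dd c1]
      group
    have := Nm_conj ((Nm _).inv_mem (s2 hv)) (Kp_le R h h64 hM hC H hd hx ⟨⟨m'.1, e ▸
      mul_mem (mul_mem (mul_mem hg σ2) (inv_mem hg)) (inv_mem σ3)⟩, s2 m'⟩)
    simpa [mul_assoc, commutatorElement_def] using this
  have k2 := h.mem_I_of_ct H.dd H.an hd hx c1 (Un_P1_x hk.1)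
    ((A.S.mul_mem_cancel_left v1).1 (R.sim hg))
  exact mul_mem (mem_Nm_of_P1 R.pau H.hd H.hx H.an (by rw [conj_of_comm (Un_P1_d hv.1)]; exact H.hd)
    (by rw [conj_of_comm (Un_P1_x hv.1)]; exact H.hx) fun y hy => P1_le (Nm_conj (s2 hv) hy))
    ((R.inf h).ct_mem h (by omega) H.hd hd H.dd (P1_le k1) k2 c1).2

theorem ti (R : Rel2 A P G) (h : Amb τ) (h64 : 64 ≤ rk K P) (hM : Mi A P)
    (hC : ∀ j ∈ P, j ∈ A.I → j * j = -1 → ∀ g ∈ G, g * j = j * g → g ∈ Nm P) (g : Eˣ) (hg : g ∈ G)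
    (y : Eˣ) (hy : y ∈ P) (hy' : y ∉ Zs K E) (h1 : g * y * g⁻¹ ∈ P) : g ∈ Nm P := by
  obtain ⟨c, hc', hd, hd1⟩ := R.ort.real hy
  have hd' : c * y ∉ Zs K E := fun hz => hy' ((mul_mem_cancel_left hc').1 hz)
  obtain ⟨s, ⟨s1, s2⟩, e'⟩ := (R.inf h).trans h (by omega) hd hd1 hd' (y := g * (c * y) * g⁻¹) (by
      rw [← conj_mul]; exact mul_mem (R.pau.sc_le (conj_mem_Zs.2 hc')) h1) (Adj.conj (R.sim hg) hd1)
    (mt conj_mem_Zs.1 hd') (conj_sq g rfl (R.pau.sq _ hd)).symm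
  have m := G.mul_mem (G.inv_mem s1) hg
  have c1 : s⁻¹ * g * (c * y) = c * y * (s⁻¹ * g) := mul_inv_eq_iff_eq_mul.1 (by
    rw [mul_inv_rev, mul_assoc s⁻¹, ← mul_assoc, mul_assoc s⁻¹, ← e']; group)
  refine ((Nm P).mul_mem_cancel_left ((Nm P).inv_mem s2)).1 ?_
  rcases R.ort.sq h hd hd1 with e | e
  · obtain ⟨x, hx, a⟩ := R.pau.exists_anti hd hd'
    obtain ⟨c', hc, x1, x2⟩ := R.ort.real hx
    exact cen_sym R h h64 hM hC ⟨hd, x1, e, anti_symm (sc_anti hc a)⟩ hd1 x2 m c1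
  · exact hC _ hd hd1 e _ m c1

theorem exists_range {Γ : Type*} [Group Γ] [Finite Γ] {A : Subgroup Γ} {b : Γ}
    (h : ∀ a ∈ A, a * a = 1) (hb : b ∈ Nr A) (bb : b * b = 1) :
    ∃ D₀ : Subgroup Γ, (∀ x ∈ D₀, x * b = b * x ∧ ∃ a ∈ A, x = a * (b * a * b⁻¹)) ∧
      Nat.card A ≤ Nat.card ↥(A ⊓ Subgroup.centralizer {b}) * Nat.card D₀ := by
  let f : A →* A := MonoidHom.mk' (fun a => ⟨a * (b * a * b⁻¹), mul_mem a.2 (Nr_conj hb a.2)⟩)
    fun a c => Subtype.ext (by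
      have := comm_of_sq h c.2 (Nr_conj hb a.2)
      simp only [Subgroup.coe_mul]
      rw [← conj_mul, mul_assoc a.1, ← mul_assoc c.1, this]; group)
  have h1 : f.ker ≤ (A ⊓ Subgroup.centralizer {b}).subgroupOf A := fun a ha => by
    refine ⟨a.2, Subgroup.mem_centralizer_singleton_iff.2 ?_⟩
    have e : a.1 * (b * a * b⁻¹) = 1 := congrArg Subtype.val ha
    rw [← h _ a.2, mul_right_inj, mul_inv_eq_iff_eq_mul] at e
    exact e.symm
  refine ⟨f.range.map A.subtype, ?_, ?_⟩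
  · rintro _ ⟨_, ⟨a, rfl⟩, rfl⟩
    refine ⟨?_, a, a.2, rfl⟩
    change a.1 * (b * a * b⁻¹) * b = b * (a * (b * a * b⁻¹))
    nth_rw 2 [comm_of_sq h a.2 (Nr_conj hb a.2)]
    rw [inv_eq_of_mul_eq_one_right bb]
    simp only [← mul_assoc, bb, one_mul]
    rw [mul_assoc _ b b, bb, mul_one]
  rw [← Nat.card_congr (Subgroup.subgroupOfEquivOfLe (inf_le_left (a := A))).toEquiv,
    Subgroup.card_eq_card_quotient_mul_card_subgroup f.ker,
    Nat.card_congr (QuotientGroup.quotientKerEquivRange f).toEquiv, Subgroup.card_subtype, mul_comm]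
  exact Nat.mul_le_mul_right _ (Subgroup.card_le_of_le h1)

theorem sc64 (hP : Pau K P) (h : Amb τ) (hGU : G ≤ Un K P)
    (hT : TI (G.map (pr K E)) (P.map (pr K E))) (h64 : 64 ≤ rk K P)
    (hG : ∀ b b' : Eˣ, ∀ y ∈ P, y * b = b * y → y * b' = -(b' * y) → ∀ d ∈ P, d ∉ Zs K E →
      d * b = b * d → d * b' = b' * d → d * y = y * d →
      ∃ s ∈ G, s * b = b * s ∧ ⁅s, b'⁆ ∈ P ∧ ⁅s, b'⁆ ∉ Zs K E) (hPG : P ≤ G) :
    SC (G.map (pr K E)) (P.map (pr K E)) := by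
  intro g hg a ha hn
  by_contra hn'
  have hT' := hT.cj hg
  obtain ⟨D, d1, B, b1, c1, c2, c3, c4, c5⟩ := hT.pair hg (fun e => hn' (Nr_conj e ha))
    (conj_mem_cj.2 ha) (fun e => hn' (e ▸ one_mem _)) hn
  obtain ⟨g, hg, rfl⟩ := hg
  have d2 : D.comap (pr K E) ≤ P := fun w hw => (pr_mem hP.sc_le).1 (d1 hw)
  have d3 : ∀ D : Subgroup (Eˣ ⧸ Zs K E), Zs K E ≤ D.comap (pr K E) := fun D w hw => by
    rw [Subgroup.mem_comap, pr_eq_one.2 hw]; exact one_mem _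
  have d4 : ∀ D : Subgroup (Eˣ ⧸ Zs K E), rk K (D.comap (pr K E)) = Nat.card D := fun D => by
    rw [← card_pr, Subgroup.map_comap_eq_self_of_surjective (QuotientGroup.mk'_surjective _)]
  have s1 : ∀ b, pr K E b ∈ B → ∀ w ∈ D.comap (pr K E), w * b = b * w ∨ w * b = -(b * w) :=
    fun b hb w hw => hP.anti_of_comm_mem h (d2 hw) (pr_comm.1 (c3 _ hw _ hb))
  have s2 : ∀ b, pr K E b ∈ B → b ∉ Zs K E → ∃ w ∈ D.comap (pr K E), w * b = -(b * w) := by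
    intro b hb h1
    have m1 : g⁻¹ * b * g ∈ P := (pr_mem hP.sc_le).1 (by simpa using mem_cj.1 (b1 hb).1)
    have m2 : b ∈ G := by simpa [mul_assoc] using mul_mem (mul_mem hg (hPG m1)) (inv_mem hg)
    have t0 : τ b = 0 := by
      have := h.conj g⁻¹ b
      rw [← this, ← Units.val_mul, ← Units.val_mul, inv_inv]
      exact hP.tr_eq_zero h m1 fun e => h1 (conj_mem_Zs.1 (by rwa [inv_inv]))
    obtain ⟨w, hw, e⟩ := hP.exists_anti_of_tr h (hGU m2) (Nm_of_pr hP.sc_le (b1 hb).2) t0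
    refine ⟨w, c4 _ hb (mt pr_eq_one.1 h1) _ ⟨w, hw, rfl⟩ (pr_comm.2 ?_), e⟩
    rw [commutatorElement_def, conj_of_anti e]
    simpa using neg_one_mem
  have s3 : ∀ b b', pr K E b ∈ B → b ∉ Zs K E → pr K E b' ∈ B → ∀ y ∈ D.comap (pr K E),
      y * b = b * y → ¬ y * b' = -(b' * y) := fun b b' hb h1 hb' y hy e1 e2 => by
    obtain ⟨d, hd, hd', f1, f2, f3⟩ : ∃ d ∈ P, d ∉ Zs K E ∧ d * b = b * d ∧ d * b' = b' * d ∧
        d * y = y * d := by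
      by_cases h9 : 9 ≤ Nat.card D
      · have r1 := rk_Ce (d3 D) (s1 b hb)
        have r2 := rk_Ce (Zs_le_Ce (b := b) (d3 D)) fun w hw => s1 b' hb' w hw.1
        have r3 := rk_Ce (Zs_le_Ce (b := b') (Zs_le_Ce (b := b) (d3 D)))
          fun w hw => hP.comm w (d2 hw.1.1) y (d2 hy)
        rw [d4] at r1
        obtain ⟨d, hd, hd'⟩ := SetLike.not_le_iff_exists.1
          (not_le_of_rk (show 1 < rk K (Ce (Ce (Ce (D.comap (pr K E)) b) b') y) by omega))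
        exact ⟨d, d2 hd.1.1.1, hd', (mem_Ce.1 hd.1.1).2, (mem_Ce.1 hd.1).2, (mem_Ce.1 hd).2⟩
      obtain ⟨D₀, g1, g2⟩ := exists_range hT.sq (b1 hb).2 (hT'.sq _ (b1 hb).1)
      have g3 : Nat.card ↥(P.map (pr K E) ⊓ Subgroup.centralizer {pr K E b}) ≤ Nat.card D :=
        Subgroup.card_le_of_le fun w hw => c4 _ hb (mt pr_eq_one.1 h1) w hw.1
          (Subgroup.mem_centralizer_singleton_iff.1 hw.2)
      have g4 : D₀.comap (pr K E) ≤ D.comap (pr K E) := fun w hw => by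
        obtain ⟨e, a, ha, e'⟩ := g1 _ hw
        exact c4 _ hb (mt pr_eq_one.1 h1) _ (e' ▸ mul_mem ha (Nr_conj (b1 hb).2 ha)) e
      have r1 := rk_Ce (d3 D₀) fun w hw => s1 b hb w (g4 hw)
      have r2 := rk_Ce (Zs_le_Ce (b := b) (d3 D₀)) fun w hw => s1 b' hb' w (g4 hw.1)
      rw [d4] at r1
      rw [card_pr] at g2
      obtain ⟨d, hd, hd'⟩ := SetLike.not_le_iff_exists.1
        (not_le_of_rk (show 1 < rk K (Ce (Ce (D₀.comap (pr K E)) b) b') by nlinarith))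
      refine ⟨d, d2 (g4 hd.1.1), hd', (mem_Ce.1 hd.1).2, (mem_Ce.1 hd).2, ?_⟩
      obtain ⟨-, _, ⟨a, ha, rfl⟩, e'⟩ := g1 _ hd.1.1
      have z : d * (a * (b * a * b⁻¹))⁻¹ ∈ Zs K E := by
        rw [← pr_eq_one, map_mul, map_inv, e', map_mul, map_mul, map_mul, map_inv, mul_inv_cancel]
      have k1 : y * (a * (b * a * b⁻¹)) = a * (b * a * b⁻¹) * y := by
        rcases hP.comm y (d2 hy) a ha with e | e
        · exact cc e (cc (cc e1 e) (cinv e1))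
        · exact aa e (ac (ca e1 e) (cinv e1))
      simpa only [inv_mul_cancel_right] using (sc_comm' z k1.symm)
    obtain ⟨s, hs, e3, e4, e5⟩ := hG b b' y (d2 hy) e1 e2 d hd hd' f1 f2 f3
    refine e5 (pr_eq_one.1 ?_)
    rw [map_commutatorElement]
    exact c5 _ hb (mt pr_eq_one.1 h1) _ ⟨s, hs, rfl⟩ (by rw [← map_mul, e3, map_mul]) _ hb'
      ⟨_, e4, map_commutatorElement ..⟩
  rw [card_pr] at c2
  have : Fintype B := Fintype.ofFinite B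
  obtain ⟨b₁, b₂, n1, n2, n3⟩ : ∃ b₁ b₂ : B, b₁ ≠ 1 ∧ b₂ ≠ 1 ∧ b₁ ≠ b₂ := by
    obtain ⟨a, b, c, e1, e2, e3⟩ := Fintype.two_lt_card_iff.1 (show 2 < Fintype.card B by
      rw [← Nat.card_eq_fintype_card]; nlinarith)
    by_cases ha : a = 1
    · exact ⟨b, c, ha ▸ e1.symm, ha ▸ e2.symm, e3⟩
    by_cases hb : b = 1
    · exact ⟨a, c, ha, hb ▸ e3.symm, e2⟩
    exact ⟨a, b, ha, hb, e1⟩
  obtain ⟨b, hb⟩ := QuotientGroup.mk'_surjective _ b₁.1
  obtain ⟨b', hb'⟩ := QuotientGroup.mk'_surjective _ b₂.1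
  have k1 : pr K E b ∈ B := hb ▸ b₁.2
  have k2 : pr K E b' ∈ B := hb' ▸ b₂.2
  have z1 : b ∉ Zs K E := fun e => n1 (Subtype.ext (hb ▸ pr_eq_one.2 e))
  have z2 : b' ∉ Zs K E := fun e => n2 (Subtype.ext (hb' ▸ pr_eq_one.2 e))
  obtain ⟨w, hw, e⟩ := s2 (b * b'⁻¹) (by rw [map_mul, map_inv]; exact mul_mem k1 (inv_mem k2))
    fun e => n3 (Subtype.ext (by
      rw [← pr_eq_one, map_mul, map_inv, mul_inv_eq_one] at e; rw [← hb, ← hb', e]))
  rcases s1 b k1 w hw with e1 | e1 <;> rcases s1 b' k2 w hw with e2 | e2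
  · exact h.not_anti (cc e1 (cinv e2)) e
  · exact s3 b b' k1 z1 k2 w hw e1 e2
  · exact s3 b' b k2 z2 k1 w hw e2 e1
  · exact h.not_anti (aa e1 (ainv e2)) e

theorem le_Nm (R : Rel2 A P G) (h : Amb τ) (h64 : 64 ≤ rk K P) (hM : Mi A P)
    (hC : ∀ j ∈ P, j ∈ A.I → j * j = -1 → ∀ g ∈ G, g * j = j * g → g ∈ Nm P) : G ≤ Nm P := by
  intro g hg
  by_contra hg'
  have hT := R.pau.ti R.le (ti R h h64 hM hC)
  have hS := sc64 R.pau h R.un hT h64 (fun b b' y hy e1 e2 d hd hd' f1 f2 f3 => by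
    obtain ⟨c, hc, y1, y2⟩ := R.ort.real hy
    obtain ⟨c', hc', d1, d2⟩ := R.ort.real hd
    have a1 := sc_comm' hc e1
    have a2 := sc_anti hc e2
    have a3 := sc_comm' hc' f1
    have a4 := sc_comm' hc' f2
    have a5 := sc_comm' hc (sc_comm' hc' f3).symm
    have a6 : c' * d ∉ Zs K E := fun hz => hd' ((mul_mem_cancel_left hc').1 hz)
    generalize c * y = y at *
    generalize c' * d = d at *
    rcases R.ort.sq h d1 d2 with e | e
    · refine ⟨_, R.ct_mem h (by omega) d1 d2 e y1 y2 a5, (h.ct_comm e a5 a3.symm a1.symm).symm, ?_⟩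
      rw [commutatorElement_def, mul_assoc, mul_assoc, ← mul_assoc b', ← h.ct_inv e a5,
        h.ct_conj_of e (cinv a5.symm).symm a4.symm a4.symm rfl, conj_of_anti (ainv (anti_symm a2)),
        ← h.ct_mul e a5 (by simp [cinv a5.symm]), mul_neg, mul_inv_cancel, h.ct_neg_one e]
      exact ⟨R.pau.neg_mem d1, mt neg_mem_Zs.1 a6⟩
    obtain ⟨y, y1, y2, y3, a1, a2⟩ : ∃ y ∈ P, y ∈ A.I ∧ y * y = -1 ∧ y * b = b * y ∧
        y * b' = -(b' * y) := by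
      rcases R.ort.sq h y1 y2 with e' | e'
      · exact ⟨_, mul_mem y1 d1, mul_mem y2 d2, by rw [mul_sq_comm a5, e, e', one_mul],
          (cc a1.symm a3.symm).symm, anti_symm (ac (anti_symm a2) a4.symm)⟩
      · exact ⟨y, y1, y2, e', a1, a2⟩
    refine ⟨_, R.two _ y1 y2 y3 _ d1 d2 e,
      (cc (h.ga_comm y3 a1.symm) (h.ga_comm e a3.symm)).symm, ?_⟩
    rw [commutatorElement_def, mul_inv_rev, mul_assoc (ga y), ← h.ga_comm e a4.symm, ← mul_assoc,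
      ← mul_assoc, mul_inv_cancel_right, h.ga_anti y3 a2, mul_inv_cancel_right]
    exact ⟨y1, h.notMem_of_anti a2⟩) R.le
  obtain ⟨T, t1, t2⟩ := hT.sharp hS ⟨g, hg, rfl⟩ fun e => hg' (Nm_of_pr R.pau.sc_le e)
  obtain ⟨j, j1, j2, j3, -⟩ := R.ort.pat h ![] (fun a => a.elim0) (by simp; omega) (one_mem _) (Or.inr rfl)
  obtain ⟨w, hw, an⟩ := R.pau.exists_anti j1 (h.skew_notMem j2 j3)
  obtain ⟨w, w1, w2, w3, -, w4⟩ := R.ort.pat h ![j] (by simpa) (by omega) hw (Or.inl rfl)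
  obtain ⟨s, ⟨s1, s2⟩, -⟩ := t2 _ ⟨w, w1, rfl⟩ (mt pr_eq_one.1 (h.notMem_of_anti (w4 0 an))) _ ⟨j, j1, rfl⟩
    (mt pr_eq_one.1 (h.skew_notMem j2 j3))
  obtain ⟨s, hs, rfl⟩ := (t1 s1).1
  have e := conj_sq s w3 (one_mem (Zs K E))
  rcases h.I_Zs (mul_mem (Adj.conj (R.sim hs) w2) (inv_mem j2)) (pr_eq_one.1 (by
      rw [map_mul, map_mul, map_mul, map_inv, map_inv, s2, mul_inv_cancel])) with
    e' | e' <;> rw [eq_mul_of_mul_inv_eq e'] at e <;> exact h.ne_neg 1 (by simpa [j3] using e.symm)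

variable {S : Subgroup (GL (Fin 3) K)} {i : Kˣ}

theorem main (R : Rel2 A P G) (h : Amb τ) (hi : i * i = -1) (h3 : H3 (i : K) S)
    (h64 : 64 ≤ rk K P) (hM : Mi A P) : G ≤ Nm P ∨ ∃ D x, Hyp P D x ∧ A.ad D = -D ∧
      Big K S (P1 P D x) (Gp (K := K) (Un K (P1 P D x)) G fun _ => Un_P1_d) := by
  by_contra hn
  push Not at hn
  refine hn.1 (le_Nm R h h64 hM fun j j1 j2 j3 g hg hc => ?_)
  obtain ⟨e1, e2⟩ := Adj.exists_skew hi j2 j3
  obtain ⟨x, hx, an⟩ := R.pau.exists_anti j1 (h.skew_notMem j2 j3)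
  refine R.cen_skew h hi (by omega) (fun D x H hD => ((R.down h hi H hD).main h hi h3 ?_).resolve_right
    (hn.2 D x H hD)) ⟨mul_mem (R.pau.sc_le (sc_mem _)) j1, hx, e1, sc_anti (sc_mem _) (anti_symm an)⟩
    e2 hg (sc_comm' (sc_mem _) hc.symm).symm
  have := R.pau.rk_P1 H.hd H.hx
  omega

end H73.Sp8
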