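import Cfsg.Agent.H73.Sp8A
import Cfsg.Agent.H60.PmEnd
import Cfsg.Agent.H62.SpStabMat

/-! The normaliser of `2^{1+6}_-` is maximal in `Sp₈(p)`. -/

set_option autoImplicit false
set_option linter.unusedSectionVars false

namespace H73.Sp8

open H60 H60.Cl Module H59 Cfsg Cfsg.Geo H25
open scoped commutatorElement MatrixGroups Matrix

/-- no three independent commuting involutions -/
def MiR {Γ : Type*} [Group Γ] [Neg Γ] (R : Subgroup Γ) : Prop :=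
  ∀ a ∈ R, ∀ b ∈ R, ∀ d ∈ R, ∀ x ∈ R, a * a = 1 → b * b = 1 → d * d = 1 → a * b = b * a →
    a * d = d * a → b * d = d * b → a * x = x * a → b * x = x * b → d * x = -(x * d) →
    a ≠ 1 → a ≠ -1 → b ≠ 1 → b ≠ -1 → a * b = 1 ∨ a * b = -1

theorem MiR.map {Γ Δ : Type*} [Group Γ] [Neg Γ] [Group Δ] [Neg Δ] {R : Subgroup Γ} (h : MiR R)
    (f : Γ →* Δ) (hf : Function.Injective f) (hn : ∀ g, f (-g) = -f g) : MiR (R.map f) := by
  rintro _ ⟨a, ha, rfl⟩ _ ⟨b, hb, rfl⟩ _ ⟨d, hd, rfl⟩ _ ⟨x, hx, rfl⟩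
  rw [← map_one f]
  simp only [← map_mul, ← hn, hf.eq_iff, hf.ne_iff]
  exact h a ha b hb d hd x hx

theorem mi_of {K E : Type*} [Field K] [Ring E] [Algebra K E] [Finite E] {τ : E →ₗ[K] K}
    {R : Subgroup Eˣ} {A : Adj K E} (X : Ex A R) (h : Amb τ) (hm : MiR R) : Mi A (R ⊔ Zs K E) := by
  intro d x H hd a ha b hb a1 b1 a2 b2 c a3 b3
  obtain ⟨z, hz, m1, m2⟩ := X.ort.real H.hx
  rcases hm a (X.real h (P1_le ha) a1) b (X.real h (P1_le hb) b1) d (X.real h H.hd hd) _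
    (X.real h m1 m2) a2 b2 H.dd c (mem_P1.1 ha).1.2 (mem_P1.1 hb).1.2
    (sc_comm' hz (mem_P1.1 ha).2.symm).symm (sc_comm' hz (mem_P1.1 hb).2.symm).symm
    (anti_symm (sc_anti hz (anti_symm H.an))) (fun e => a3 (e ▸ one_mem _))
    (fun e => a3 (e ▸ neg_one_mem)) (fun e => b3 (e ▸ one_mem _)) (fun e => b3 (e ▸ neg_one_mem))
    with e | e <;> rw [e]
  · exact one_mem _
  · exact neg_one_mem

theorem dbl {Γ : Type*} [Group Γ] [Finite Γ] {W T : Subgroup Γ} {a : Γ} (hT : T ≤ W)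
    (h2 : ∀ t ∈ T, t * t = 1) (ha : a ∈ W) (aa : a * a = 1) (hc : ∀ w ∈ W, w * a = a * w)
    (hn : a ∉ T) : ∃ U ≤ W, (∀ x ∈ U, x * x = 1) ∧ (∀ x ∈ U, x ∈ T ∨ x * a ∈ T) ∧
      2 * Nat.card T ≤ Nat.card U := by
  have hw : ∀ x, x ∈ T ∨ x * a ∈ T → x ∈ W := fun x hx =>
    hx.elim (hT ·) fun e => (W.mul_mem_cancel_right ha).1 (hT e)
  let U : Subgroup Γ :=
    { carrier := {x | x ∈ T ∨ x * a ∈ T}
      one_mem' := Or.inl (one_mem _)
      mul_mem' := fun {x y} hx hy => by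
        have c := hc y (hw y hy)
        rcases hx with hx | hx <;> rcases hy with hy | hy
        · exact Or.inl (mul_mem hx hy)
        · exact Or.inr (mul_assoc x y a ▸ mul_mem hx hy)
        · exact Or.inr (by rw [mul_assoc, c, ← mul_assoc]; exact mul_mem hx hy)
        · exact Or.inl (by
            have := mul_mem hx hy
            rwa [c, mul_assoc, ← mul_assoc a, aa, one_mul] at this)
      inv_mem' := fun {x} hx => hx.imp inv_mem fun e => by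
        have := inv_mem e
        rwa [hc x (hw x hx), mul_inv_rev, inv_eq_of_mul_eq_one_right aa] at this }
  have hl : T < U := lt_of_le_not_ge (fun x hx => Or.inl hx) fun e => hn (e (Or.inr (aa ▸ one_mem _)))
  refine ⟨U, hw, fun x hx => hx.elim (h2 x) fun e => ?_, fun _ hx => hx, ?_⟩
  · have := h2 _ e
    rwa [mul_assoc, ← mul_assoc a, ← hc x (hw x hx), mul_assoc, aa, mul_one] at this
  · obtain ⟨k, hk⟩ := Subgroup.card_dvd_of_le hl.le
    have := card_lt hl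
    rw [hk] at this ⊢
    rw [mul_comm]
    refine Nat.mul_le_mul_left _ ?_
    rcases k with _ | _ | k <;> simp_all

theorem miR_of {K E : Type*} [Field K] [Ring E] [Algebra K E] [Finite E] {τ : E →ₗ[K] K}
    (h : Amb τ) {R : Subgroup Eˣ} (hn : -1 ∈ R) (hm : IsOfMinusType 3 R) : MiR R := by
  intro a ha b hb d hd x hx aa bb dd c1 c2 c3 c4 c5 an a1 a2 b1 b2
  by_contra hab
  push Not at hab
  let W := Ce (Ce (Ce R a) b) d
  have mW : ∀ {w}, w ∈ W ↔ ((w ∈ R ∧ w * a = a * w) ∧ w * b = b * w) ∧ w * d = d * w := by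
    intro w; simp only [W, mem_Ce]
  obtain ⟨U₁, l1, s1, m1, k1⟩ := dbl (W := W) (T := ⊥) (a := -1) bot_le (by simp)
    (mW.2 (by simp [hn])) (by simp) (by simp) (fun e => h.ne_neg 1 (Subgroup.mem_bot.1 e).symm)
  have n1 : ∀ y ∈ U₁, y = 1 ∨ y = -1 := fun y hy => by simpa [neg_eq_iff_eq_neg] using m1 y hy
  obtain ⟨U₂, l2, s2, m2, k2⟩ := dbl l1 s1 (mW.2 ⟨⟨⟨ha, rfl⟩, c1⟩, c2⟩) aa (fun w hw => (mW.1 hw).1.1.2)
    fun e => (n1 a e).elim a1 a2
  obtain ⟨U₃, l3, s3, m3, k3⟩ := dbl l2 s2 (mW.2 ⟨⟨⟨hb, c1.symm⟩, rfl⟩, c3⟩) bb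
    (fun w hw => (mW.1 hw).1.2) fun e => (m2 b e).elim (fun e => (n1 b e).elim b1 b2)
      fun e => (n1 _ e).elim (c1 ▸ hab.1) (c1 ▸ hab.2)
  have n2 : ∀ y ∈ U₃, y * x = x * y := by
    have p1 : ∀ y ∈ U₁, y * x = x * y := fun y hy => by rcases n1 y hy with rfl | rfl <;> simp
    have p2 : ∀ y ∈ U₂, y * x = x * y := fun y hy => (m2 y hy).elim (p1 y) fun e => by
      simpa using (cc (p1 _ e).symm (cinv c4.symm)).symm
    exact fun y hy => (m3 y hy).elim (p2 y) fun e => by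
      simpa using (cc (p2 _ e).symm (cinv c5.symm)).symm
  obtain ⟨U₄, l4, s4, -, k4⟩ := dbl l3 s3 (mW.2 ⟨⟨⟨hd, c2.symm⟩, c3.symm⟩, rfl⟩) dd
    (fun w hw => (mW.1 hw).2) fun e => h.not_anti (n2 d e) an
  have l5 : U₄ ≤ R := fun w hw => (mW.1 (l4 hw)).1.1.1
  have := hm (U₄.subgroupOf R) ⟨⟨fun u v => Subtype.ext (Subtype.ext (comm_of_sq s4 u.2 v.2))⟩⟩
    fun u hu => Subtype.ext (s4 _ hu)
  rw [Nat.card_congr (Subgroup.subgroupOfEquivOfLe l5).toEquiv] at this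
  rw [Subgroup.card_bot] at k1
  omega

variable {ι : Type} [Fintype ι] [DecidableEq ι] {F K : Type*} [Field F] [Fintype F] [Field K]
  [Fintype K] [Algebra F K] {R M Ω : Subgroup (GL ι F)} {J : GL ι F}

theorem pm_K (hn : 8 ≤ Fintype.card ι) (hm : MiR R) (h2 : (2 : F) ≠ 0) (h1 : Spans R)
    (h3 : ∀ x ∈ R, ∀ y ∈ R, ⁅x, y⁆ ∈ scalars ι F) (h4 : ∀ x ∈ R, x ^ 2 ∈ scalars ι F)
    (hI : R ≤ (adjJ J).I) (hM : M ≤ (adjJ J).I) (anti : ∀ j ∈ R, j * j = -1 → ∀ j' ∈ R,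
      j' * j' = -1 → j * j' = -(j' * j) → ∃ c ∈ Zs F _, c * (ga j * ga j') ∈ M)
    {i : Kˣ} (hi : i * i = -1) {S : Subgroup (GL (Fin 3) K)} (hS : H3 (i : K) S) {n : ℕ}
    (key : ∀ G D x, Amb (tauM ι K) → Ex (adjJ (ex K J)) (R.map (ex K)) →
      64 ≤ rk K (R.map (ex K) ⊔ Zs K _) → Rel2 (adjJ (ex K J)) (R.map (ex K) ⊔ Zs K _) G →
      Hyp (R.map (ex K) ⊔ Zs K _) D x → (adjJ (ex K J)).ad D = -D →
      Big K S (P1 (R.map (ex K) ⊔ Zs K _) D x)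
        (Gp (K := K) (Un K (P1 (R.map (ex K) ⊔ Zs K _) D x)) G fun _ => Un_P1_d) →
      ∀ u ∈ (adjJ J).I, u ^ n = 1 → ex K u * D = D * ex K u →
        ∃ g ∈ G, g ^ (Fintype.card K - 1) = (ex K u)⁻¹) :
    M ≤ Nm R ∨ ∀ j ∈ R, j * j = -1 → ∀ u ∈ (adjJ J).I, u ^ n = 1 → u * j = j * u → u ∈ M := by
  obtain ⟨h, X, hr⟩ := ex_mat (by omega) h2 h1 h3 h4 hI
  obtain ⟨h', X', hr'⟩ := ex_mat (J := ex K J) (by omega)
    (by rw [← map_ofNat (algebraMap F K)]; exact (map_ne_zero _).2 h2) (ex_spans (K := K) h1)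
    (by rintro _ ⟨x, hx, rfl⟩ _ ⟨y, hy, rfl⟩
        rw [← map_commutatorElement, ← Zs_eq]; exact ex_Zs (by rw [Zs_eq]; exact h3 x hx y hy))
    (by rintro _ ⟨x, hx, rfl⟩; rw [← map_pow, ← Zs_eq]; exact ex_Zs (by rw [Zs_eq]; exact h4 x hx))
    (by rintro _ ⟨x, hx, rfl⟩; exact ex_I (hI hx))
  have r1 : 64 ≤ rk K (R.map (ex K) ⊔ Zs K _) := by nlinarith
  have n1 : ∀ j : GL ι F, ex K j * ex K j = -1 → j * j = -1 := fun j e =>
    ex_inj (K := K) (by rw [map_mul, e, ex_neg, map_one])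
  have g1 : ∀ j : GL ι F, j * j = -1 → ga (ex K j) = ex K (ga j) := fun j e => Units.ext (by
    rw [h'.ga_val (by rw [← map_mul, e, ex_neg, map_one]), ex_val, ex_val, h.ga_val e,
      Matrix.map_add _ (map_add _), Matrix.map_one _ (map_zero _) (map_one _)])
  have R2 := X'.rel2 h' (by omega) (fun g => mem_Un.2 (mem_Al_of_spans (ex_spans h1) le_sup_left _))
    (M := M.map (ex K)) (by rintro _ ⟨x, hx, rfl⟩; exact ex_I (hM hx)) (by
      rintro _ ⟨j, a1, rfl⟩ a2 _ ⟨j', a3, rfl⟩ a4 a5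
      obtain ⟨c, hc, e⟩ := anti j a1 (n1 j a2) j' a3 (n1 j' a4)
        (ex_inj (K := K) (by rw [map_mul, a5, ex_neg, map_mul]))
      exact ⟨_, ex_Zs hc, _, e, by rw [map_mul, map_mul, g1 j (n1 j a2), g1 j' (n1 j' a4)]⟩)
  rcases main R2 h' hi hS r1 (mi_of X' h' (hm.map _ ex_inj ex_neg)) with e | ⟨D, x, H, hD, hB⟩
  · refine Or.inl fun g hg => mem_Nm fun y hy => ?_
    obtain ⟨y', hy', e'⟩ := Nm_conj (X'.Nm h' (Subgroup.mem_sup_left (ex_I (hM hg)))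
      (e (Subgroup.mem_sup_left ⟨g, hg, rfl⟩))) ⟨y, hy, rfl⟩
    rwa [← ex_inj (K := K) (show ex K y' = ex K (g * y * g⁻¹) by simp [e'])]
  refine Or.inr fun j j1 j2 u u1 u2 u3 => ?_
  obtain ⟨j0, k1, k2⟩ := X'.real h' (mul_mem (X'.pau.sc_le (Cl.sc_mem i)) H.hd) ((Adj.skew hi H.dd).2 hD)
  have k3 := n1 j0 (k2 ▸ isq hi H.dd)
  obtain ⟨s, hs, e⟩ := (X.rel2 h (by nlinarith)
    (fun g => mem_Un.2 (mem_Al_of_spans h1 le_sup_left _)) hM anti).trans h (by nlinarith)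
    (Subgroup.mem_sup_left j1) (hI j1) (h.skew_notMem (hI j1) j2) (Subgroup.mem_sup_left k1) (hI k1)
    (h.skew_notMem (hI k1) k3) (j2.trans k3.symm)
  obtain ⟨c, m, hm, rfl⟩ := mem_sup_Zs.1 hs
  have e1 : m * j * m⁻¹ = j0 := by
    rw [← e, mul_inv_rev, mul_assoc (sc F _ c), mul_assoc (sc F _ c), ← mul_assoc _ m⁻¹, ← mul_assoc,
      conj_of_comm (Cl.sc_comm c _)]
  obtain ⟨g, hg, e2⟩ := key _ D x h' X' r1 R2 H hD hB (m * u * m⁻¹)
    (Adj.conj (Subgroup.mem_sup_left (hM hm)) u1) (by rw [conj_pow, u2]; simp) (by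
      have := congrArg (ex K) (conj_comm m u3)
      rw [e1, map_mul _ _ j0, map_mul _ j0, k2] at this
      simpa using (sc_comm' (inv_mem (Cl.sc_mem i)) this.symm).symm)
  obtain ⟨c', _, ⟨m', hm', rfl⟩, rfl⟩ := mem_sup_Zs.1 hg
  rw [Commute.mul_pow (Cl.sc_comm _ _), Zs_pow (Cl.sc_mem c'), one_mul, ← map_pow, ← map_inv] at e2
  have := M.inv_mem (pow_mem hm' (Fintype.card K - 1))
  rw [ex_inj e2, inv_inv] at this
  simpa [mul_assoc] using mul_mem (mul_mem (inv_mem hm) this) hm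

theorem pm_uni (hK : Fintype.card K = Fintype.card F ^ 2) (h5 : Fintype.card F % 4 = 3)
    (hp : (Fintype.card F).Prime) (h2 : (2 : F) ≠ 0) (hJ : J.valᵀ = J ∨ J.valᵀ = -J)
    (hn : 8 ≤ Fintype.card ι) (hm : MiR R) (h1 : Spans R)
    (h3 : ∀ x ∈ R, ∀ y ∈ R, ⁅x, y⁆ ∈ scalars ι F) (h4 : ∀ x ∈ R, x ^ 2 ∈ scalars ι F)
    (hI : R ≤ (adjJ J).I) (hM : M ≤ (adjJ J).I) (anti : ∀ j ∈ R, j * j = -1 → ∀ j' ∈ R,
      j' * j' = -1 → j * j' = -(j' * j) → ∃ c ∈ Zs F _, c * (ga j * ga j') ∈ M) :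
    M ≤ Nm R ∨ ∀ j ∈ R, j * j = -1 → ∀ u ∈ (adjJ J).I, u ^ Fintype.card F = 1 →
      u * j = j * u → u ∈ M := by
  obtain ⟨i, hi⟩ := FiniteField.isSquare_neg_one_iff.2 (show Fintype.card K % 4 ≠ 3 by
    rw [hK, Nat.pow_mod, h5]; decide)
  have i0 : i ≠ 0 := by rintro rfl; simp at hi
  have hi' : Units.mk0 i i0 * Units.mk0 i i0 = -1 := Units.ext hi.symm
  have hσ := frob_i hK h5 hi.symm
  obtain ⟨l, l0, hl⟩ : ∃ l : K, l ≠ 0 ∧ frob hK l • (ex K J).valᵀ = l • (ex K J).val := by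
    rcases hJ with e | e
    · exact ⟨1, one_ne_zero, by rw [map_one, ex_val, ← Matrix.transpose_map, e]⟩
    · exact ⟨i, i0, by rw [hσ, ex_val, ← Matrix.transpose_map, e, Matrix.map_neg _ (map_neg _), neg_smul,
        smul_neg, neg_neg]⟩
  let B : (ι → K) →ₛₗ[frob hK] (ι → K) →ₗ[K] K := LinearMap.mk₂'ₛₗ (frob hK) (RingHom.id K)
    (fun u v => l * (frob hK ∘ u) ⬝ᵥ (ex K J).val *ᵥ v)
    (fun a b c => by rw [← mul_add, ← add_dotProduct]; congr 2; ext; simp)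
    (fun a b c => by
      rw [show frob hK ∘ (a • b) = frob hK a • (frob hK ∘ b) by ext; simp, smul_dotProduct]
      simp [mul_left_comm])
    (fun a b c => by simp [Matrix.mulVec_add, mul_add])
    fun a b c => by simp [Matrix.mulVec_smul, mul_left_comm]
  have hB : ∀ u v, B u v = l * (frob hK ∘ u) ⬝ᵥ (ex K J).val *ᵥ v := fun _ _ => rfl
  have m1 : ∀ (a : Matrix ι ι K) u, frob hK ∘ (a *ᵥ u) = a.map (frob hK) *ᵥ (frob hK ∘ u) :=
    fun a u => funext fun b => RingHom.map_mulVec _ a u b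
  let s : Matrix ι ι K →+ Matrix ι ι K := AddMonoidHom.mk' (fun a => (adjJ (ex K J)).st (a.map (frob hK)))
    fun a b => by rw [Matrix.map_add _ (map_add _), map_add]
  refine pm_K hn hm h2 h1 h3 h4 hI hM anti hi' (h3_uni hK hp h5 hi')
    fun G D x h X r R2 H hD hB' u u1 u2 u3 => R2.unip_uni h hi' (rep_toLin (ex_spans h1) le_sup_left)
      hK h5 (by omega) (B := B) ⟨frob_ne_id hK, frob_frob hK, fun x y => ?_, fun x hx => ?_⟩ (s := s)
      (fun a b => by simp [s, Matrix.map_mul, Adj.mul]) (fun x hx e => ?_) (fun a x y => ?_) H hD hB'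
      (mem_Un.2 (mem_Al_of_spans (ex_spans h1) le_sup_left _)) (ex_I u1) u3
      (by rw [← map_pow, hK, sq, pow_mul, u2, one_pow, map_one]) fun x y => ?_
  · rw [hB, hB, map_mul, RingHom.map_dotProduct, m1, ex_map rfl, Matrix.dotProduct_mulVec,
      ← Matrix.mulVec_transpose, dotProduct_comm, ← smul_eq_mul, ← smul_eq_mul,
      ← dotProduct_smul, ← dotProduct_smul, ← Matrix.smul_mulVec, ← Matrix.smul_mulVec, hl,
      show frob hK ∘ frob hK ∘ x = x from funext fun a => frob_frob hK _]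
  · have : frob hK ∘ x = 0 := by
      by_contra hn
      obtain ⟨a, ha⟩ := Function.ne_iff.1 hn
      have := hx ((ex K J)⁻¹.val *ᵥ Pi.single a 1)
      rw [hB, Matrix.mulVec_mulVec, Units.mul_inv, Matrix.one_mulVec, dotProduct_single, mul_one] at this
      exact ha ((mul_eq_zero.1 this).resolve_left l0)
    ext a
    simpa using congrFun this a
  · obtain ⟨c, _, ⟨r, hr, rfl⟩, rfl⟩ := mem_sup_Zs.1 hx
    have e1 : s (sc K _ c * ex K r).val = frob hK c • ((ex K r)⁻¹).val := by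
      rw [← ex_I (hI hr), Adj.ad_val, ← map_smul, sc_mul_val]
      exact congrArg (adjJ (ex K J)).st (by
        rw [Matrix.map_smul' _ _ _ (map_mul _), ex_map rfl])
    rw [e1, sc_mul_val]
    rw [sc_mul_sq] at e
    rcases X.ort.sq h (Subgroup.mem_sup_left ⟨r, hr, rfl⟩) (ex_I (hI hr)) with e2 | e2
    · rw [e2, mul_one, ← map_one (sc K _)] at e
      rw [inv_eq_of_mul_eq_one_right e2]
      rcases mul_self_eq_one_iff.1 (congrArg Units.val (h.sc_inj e)) with e3 | e3 <;> simp [e3]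
    · rw [e2, mul_neg_one, ← sc_neg, ← map_one (sc K _)] at e
      rw [inv_of_nsq e2, frob_i hK h5 (i := c) (congrArg Units.val (neg_eq_iff_eq_neg.1 (h.sc_inj e)))]
      simp
  · change B (a *ᵥ x) y = B x (s a *ᵥ y)
    rw [hB, hB, m1, form_adj]; rfl
  · change B (_ *ᵥ x) (_ *ᵥ y) = B x y
    rw [hB, hB, m1, ex_map rfl, mem_adjJ.1 (ex_I u1)]

theorem pm_main (hp : (Fintype.card F).Prime) (h2 : (2 : F) ≠ 0) (hJ : J.valᵀ = J ∨ J.valᵀ = -J)
    (hn : 8 ≤ Fintype.card ι) (hm : MiR R) (h1 : Spans R)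
    (h3 : ∀ x ∈ R, ∀ y ∈ R, ⁅x, y⁆ ∈ scalars ι F) (h4 : ∀ x ∈ R, x ^ 2 ∈ scalars ι F)
    (hI : R ≤ (adjJ J).I) (hM : M ≤ (adjJ J).I) (anti : ∀ j ∈ R, j * j = -1 → ∀ j' ∈ R,
      j' * j' = -1 → j * j' = -(j' * j) → ∃ c ∈ Zs F _, c * (ga j * ga j') ∈ M) :
    M ≤ Nm R ∨ ∀ j ∈ R, j * j = -1 → ∀ u ∈ (adjJ J).I, u ^ Fintype.card F = 1 →
      u * j = j * u → u ∈ M := by
  by_cases h5 : Fintype.card F % 4 = 3
  swap
  · obtain ⟨i, hi⟩ := FiniteField.isSquare_neg_one_iff.2 h5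
    have i0 : i ≠ 0 := by rintro rfl; simp at hi
    have hi' : Units.mk0 i i0 * Units.mk0 i i0 = -1 := Units.ext hi.symm
    exact pm_K hn hm h2 h1 h3 h4 hI hM anti hi' (h3_lin hp hi' h2) fun G D x h X _ R2 H hD hB u u1 u2 u3 =>
      R2.unip_lin h hi' (rep_toLin (ex_spans h1) le_sup_left) hp H hD hB
        (mem_Un.2 (mem_Al_of_spans (ex_spans h1) le_sup_left _)) (ex_I u1) u3
        (by rw [← map_pow, u2, map_one])
  have := Fact.mk hp
  have : CharP F (Fintype.card F) := charP_of_card_eq_prime rfl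
  have := Fintype.ofFinite (FiniteField.Extension F (Fintype.card F) 2)
  exact pm_uni (K := FiniteField.Extension F (Fintype.card F) 2) (by
    rw [← Nat.card_eq_fintype_card, FiniteField.natCard_extension, Nat.card_eq_fintype_card])
    h5 hp h2 hJ hn hm h1 h3 h4 hI hM anti

theorem pm_max (hp : (Fintype.card F).Prime) (h2 : (2 : F) ≠ 0) (hJ : J.valᵀ = J ∨ J.valᵀ = -J)
    (hn : 8 ≤ Fintype.card ι) (hm : MiR R) (h1 : Spans R)
    (h3 : ∀ x ∈ R, ∀ y ∈ R, ⁅x, y⁆ ∈ scalars ι F) (h4 : ∀ x ∈ R, x ^ 2 ∈ scalars ι F)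
    (hI : R ≤ (adjJ J).I) (hΩ : Ω ≤ (adjJ J).I) (h5 : ∀ g ∈ (adjJ J).I, g ^ 3 = 1 → g ∈ Ω)
    (hne : ¬ Ω ≤ subgroupNormalizer R) (hB : ∀ M, (∀ j ∈ R, j * j = -1 → ∀ u ∈ (adjJ J).I,
      u ^ Fintype.card F = 1 → u * j = j * u → u ∈ M) → Ω ≤ M) :
    IsMaximalIn Ω (subgroupNormalizer R ⊓ Ω) := by
  obtain ⟨h, X, -⟩ := ex_mat (by omega) h2 h1 h3 h4 hI
  refine isMaximalIn_of (SetLike.not_le_iff_exists.1 hne) fun M h6 h7 g hg hg' => hB M ?_
  refine (pm_main hp h2 hJ hn hm h1 h3 h4 hI (h7.trans hΩ) fun j a1 a2 j' a3 a4 a5 => ?_).resolve_left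
    fun e => hg' (e hg)
  have z := neg_mem_Zs.2 (inv_mem h.tw_mem)
  have m := h.two_I (hI a1) a2 (hI a3) a4
  exact ⟨_, z, h6 ⟨X.Nm h (Subgroup.mem_sup_left m) (mul_mem (Subgroup.le_normalizer (X.pau.sc_le z))
    (mul_mem (X.pau.ga_Nm h a2 (Subgroup.mem_sup_left a1)) (X.pau.ga_Nm h a4 (Subgroup.mem_sup_left a3)))),
    h5 _ m (h.two_cube a2 a4 a5)⟩⟩

section sp
open H62

theorem max_sp (hp : (Fintype.card F).Prime) (h2 : (2 : F) ≠ 0) (hn : 8 ≤ Fintype.card ι) (hm : MiR R)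
    {B : LinearMap.BilinForm F (ι → F)} (hB : B.Nondegenerate) (hA : B.IsAlt)
    (hΩ : ∀ g, g ∈ Ω ↔ ∀ u v, B (toLE g u) (toLE g v) = B u v) (h1 : Spans R)
    (h3 : ∀ x ∈ R, ∀ y ∈ R, ⁅x, y⁆ ∈ scalars ι F) (h4 : ∀ x ∈ R, x ^ 2 ∈ scalars ι F)
    (hR : R ≤ Ω) : IsMaximalIn Ω (subgroupNormalizer R ⊓ Ω) := by
  obtain ⟨J, hJ⟩ := exists_gram hB
  obtain rfl : Ω = (adjJ J).I := Subgroup.ext fun g => by simp only [hΩ, mem_adjJ, hJ, toLE_apply]
  have hs := gram_symm (J := J) (c := -1) fun u v => by rw [← hJ, ← hJ, alt_swap hA, neg_one_mul]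
  have tv : ∀ u c, ∃ g ∈ (adjJ J).I, ∀ x, g.val *ᵥ x = x + (c * B x u) • u := fun u c => by
    obtain ⟨g, -, hg⟩ := hasSp_of_forall (H := ⊤) (v := u) (c := c) hA fun _ _ => trivial
    obtain ⟨g, rfl⟩ := toLE.surjective g
    exact ⟨g, (hΩ g).2 (isom_of_sp hA hg), hg⟩
  have ext : ∀ {g k : GL ι F}, (∀ x, g.val *ᵥ x = k.val *ᵥ x) → g = k := fun h =>
    toLE.injective (LinearEquiv.ext h)
  refine pm_max hp h2 (Or.inr (by simpa using hs)) hn hm h1 h3 h4 hR le_rfl (fun g hg _ => hg)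
    (fun hle => ?_) fun M hM g hg => ?_
  · have : Nonempty ι := Fintype.card_pos_iff.1 (by omega)
    obtain ⟨u, hu⟩ := exists_ne (0 : ι → F)
    obtain ⟨g, hg, e⟩ := tv u 1
    obtain ⟨x, hx⟩ := exists_form_ne_zero hB hu
    refine not_mem_normalizer h1 h3 (t := g) (F ∙ u) (finrank_span_singleton hu).le (fun v => ?_)
      (by omega) (fun e' => ?_) (hle hg)
    · rw [e, add_sub_cancel_left]
      exact Submodule.smul_mem _ _ (Submodule.mem_span_singleton_self u)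
    · simpa [e', hx, hu] using e x
  obtain ⟨h, X, hr⟩ := ex_mat (by omega) h2 h1 h3 h4 hR
  have r1 : 64 ≤ rk F (R ⊔ Zs F (Matrix ι ι F)) := by nlinarith
  have iso : ∀ g ∈ R, ∀ x y, B (g.val *ᵥ x) (g.val *ᵥ y) = B x y := fun g hg => (hΩ g).1 (hR hg)
  have mv : ∀ (a b : GL ι F) x, a.val *ᵥ b.val *ᵥ x = (a * b).val *ᵥ x := fun a b x =>
    Matrix.mulVec_mulVec ..
  have k1 : ∀ j ∈ R, j * j = -1 → ∀ u, B u (j.val *ᵥ u) = 0 → ∀ c : F, ∃ g ∈ M, ∀ x,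
      g.val *ᵥ x = x + (c * B x u) • u + (c * B x (j.val *ᵥ u)) • j.val *ᵥ u := by
    intro j hj jj u hu c
    obtain ⟨a, ha, e1⟩ := tv u c
    obtain ⟨b, hb, e2⟩ := tv (j.val *ᵥ u) c
    have hu' : B (j.val *ᵥ u) u = 0 := by rw [alt_swap hA, hu, neg_zero]
    have e : ∀ x, (b * a).val *ᵥ x = x + (c * B x u) • u + (c * B x (j.val *ᵥ u)) • j.val *ᵥ u :=
      fun x => by rw [← mv, e1, e2]; simp [hu]
    have e3 : ∀ x, j.val *ᵥ j.val *ᵥ x = -x := fun x => by simp [mv, jj, Matrix.neg_mulVec]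
    refine ⟨_, hM j hj jj _ (mul_mem hb ha) (ext fun x => ?_) (ext fun x => ?_), e⟩
    · have : ∀ n : ℕ, ((b * a) ^ n).val *ᵥ x =
          x + (n : F) • ((c * B x u) • u + (c * B x (j.val *ᵥ u)) • j.val *ᵥ u) := fun n => by
        induction n with
        | zero => simp
        | succ n ih => rw [pow_succ', ← mv, ih, e]; simp [hu, hu', hA.self_eq_zero]; module
      rw [this]; simp
    · rw [← mv, ← mv j, e, e, iso j hj, ← iso j hj _ u, e3]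
      simp [Matrix.mulVec_add, Matrix.mulVec_smul, e3]; abel
  have k2 : ∀ a ∈ R, ∀ b ∈ R, a ∉ Zs F _ → b ∉ Zs F _ → a * b ∉ Zs F _ → a * b = b * a → b * b = 1 → ∀ u,
      a.val *ᵥ u = u → b.val *ᵥ u = u → FullSp (M.map toLE.toMonoidHom) B u := by
    intro a ha b hb a0 b0 ab0 c0 bb u a1 b1 c
    have s := @Subgroup.mem_sup_left _ _ R (Zs F (Matrix ι ι F))
    obtain ⟨j, j0, c1, c2⟩ := X.pau.dual1 (s hb) (s ha) a0 ab0
    obtain ⟨j, j1, j2, j3, j4⟩ := X.pat h ![a, b] (Fin.forall_fin_two.2 ⟨ha, hb⟩) (by omega) j0 (Or.inr rfl)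
    have c3 : j * a = -(a * j) := j4 0 c2
    have c4 : j * b = b * j := j3 1 c1
    obtain ⟨k, k0, d1, d2, d3⟩ := X.pau.dual2 (s ha) (s (mul_mem (inv_mem hb) j1)) (s hb) b0 (c0 ▸ ab0)
      (by simpa using h.notMem_of_anti c3)
      (by simpa using h.notMem_of_anti (anti_symm (ac (anti_symm c3) rfl)))
    obtain ⟨k, l1, l2, d4, d5, d6⟩ : ∃ k ∈ R, k * k = -1 ∧ k * a = a * k ∧ k * b = -(b * k) ∧
        k * j = -(j * k) := by
      obtain ⟨z, hz, m1, m2⟩ := X.ort.real k0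
      have g1 := sc_comm' hz d1
      have g2 := sc_anti hz d3
      have g3 : z * k * j = -(j * (z * k)) := sc_anti hz (by simpa using ac d3 d2)
      rcases X.ort.sq h m1 m2 with e | e
      · exact ⟨_, mul_mem (X.real h m1 m2) hb, by rw [mul_sq_anti g2, e, bb, mul_one],
          (cc g1.symm c0).symm, anti_symm (ac (anti_symm g2) rfl), anti_symm (ac (anti_symm g3) c4)⟩
      · exact ⟨_, X.real h m1 m2, e, g1, g2, g3⟩
    have o : ∀ d ∈ R, ∀ x y, d.val *ᵥ x = x → d.val *ᵥ y = -y → B x y = 0 := fun d hd x y e1 e2 => by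
      have := iso d hd x y
      rw [e1, e2, map_neg] at this
      exact mul_left_cancel₀ h2 (by linear_combination -this)
    have an : ∀ {d j : GL ι F}, j * d = -(d * j) → d.val *ᵥ u = u → d.val *ᵥ j.val *ᵥ u = -(j.val *ᵥ u) :=
      fun e e' => by rw [mv, anti_symm e, Units.val_neg, Matrix.neg_mulVec, ← mv, e']
    have o1 := o a ha _ _ a1 (an c3 a1)
    have o2 := o b hb _ _ b1 (an d5 b1)
    have o3 := o a ha (k.val *ᵥ u) _ (by rw [mv, ← d4, ← mv, a1]) (an c3 a1)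
    have o4 : B (j.val *ᵥ u) (k.val *ᵥ u) = 0 := by rw [alt_swap hA, o3, neg_zero]
    obtain ⟨g₁, m1, e1⟩ := k1 j j1 j2 u o1 (c / 2)
    obtain ⟨g₂, m2, e2⟩ := k1 k l1 l2 u o2 (c / 2)
    obtain ⟨g₃, m3, e3⟩ := k1 _ (mul_mem l1 (inv_mem j1)) (move_sq (anti_symm d6) (j2.trans l2.symm))
      (j.val *ᵥ u) (by rwa [mv, inv_mul_cancel_right]) (-(c / 2))
    refine ⟨_, ⟨_, mul_mem (mul_mem m1 m2) m3, rfl⟩, fun x => ?_⟩
    change (g₁ * g₂ * g₃).val *ᵥ x = _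
    rw [← mv, ← mv, e3, e2, e1, mv _ j, inv_mul_cancel_right]
    have o5 : B (j.val *ᵥ u) u = 0 := by rw [alt_swap hA, o1, neg_zero]
    have o6 : B (k.val *ᵥ u) u = 0 := by rw [alt_swap hA, o2, neg_zero]
    simp [o1, o4, o5, o6, hA.self_eq_zero]
    match_scalars <;> field_simp <;> ring
  have lk : ∀ c ∈ R, c * c = 1 → ∀ a ∈ R, ∀ b ∈ R, a * a = 1 → b * b = 1 → a * b = -(b * a) →
      c * a = a * c → c * b = b * c → (∀ d ∈ R, d * d = 1 → c * d = d * c → d ∉ Zs F _ →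
        c * d ∉ Zs F _ → ∀ v, c.val *ᵥ v = v → d.val *ᵥ v = v → FullSp (M.map toLE.toMonoidHom) B v) →
      ∀ v, c.val *ᵥ v = v → FullSp (M.map toLE.toMonoidHom) B v := by
    intro c hc cc' a ha b hb aa' bb' an c1 c2 H v hv
    have sa : ∀ d ∈ R, d * d = 1 → ∀ x y, B (d.val *ᵥ x) y = B x (d.val *ᵥ y) := fun d hd e x y => by
      rw [← iso d hd x, mv, e, Units.val_one, Matrix.one_mulVec]
    have sq : ∀ d : GL ι F, d * d = 1 → ∀ x, d.val *ᵥ d.val *ᵥ x = x := fun d e x => by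
      rw [mv, e, Units.val_one, Matrix.one_mulVec]
    have na := mul_mem X.neg ha
    rw [neg_one_mul] at na
    exact full_link hB hA h2 (a := Matrix.toLin' a.val) (b := Matrix.toLin' b.val)
      (c := Matrix.toLin' c.val) (sa a ha aa') (sa b hb bb') (sa c hc cc') (sq a aa') (sq b bb') (sq c cc')
      (fun x => by simp only [Matrix.toLin'_apply, mv, an, Units.val_neg, Matrix.neg_mulVec])
      (fun x => by simp only [Matrix.toLin'_apply, mv, c1]) (fun x => by simp only [Matrix.toLin'_apply, mv, c2])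
      (H a ha aa' c1 (h.notMem_of_anti an) (h.notMem_of_anti (anti_symm (ca c2.symm (anti_symm an)))))
      (fun v e1 e2 => H _ na (by simp [aa']) (by simp [c1]) (mt neg_mem_Zs.1 (h.notMem_of_anti an))
        (by simpa [neg_mem_Zs] using h.notMem_of_anti (anti_symm (ca c2.symm (anti_symm an)))) v e1
        (by simpa [Matrix.neg_mulVec] using e2))
      (H b hb bb' c2 (h.notMem_of_anti (anti_symm an)) (h.notMem_of_anti (anti_symm (ca c1.symm an)))) hv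
  obtain ⟨a, a1, b, b1, a2, b2, a3, b3, an⟩ := X.ort.exists_pair h (by omega)
  refine (Subgroup.mem_map_iff_mem (f := toLE.toMonoidHom) toLE.injective).1 <| mem_of_forall_fullSp hB hA (fun v => lk 1 (one_mem _) (one_mul 1) a
    (X.real h a1 a2) b (X.real h b1 b2) a3 b3 an (by simp) (by simp) (fun d hd dd _ d0 _ v _ hv => ?_) v
    (Matrix.one_mulVec v)) (toLE g) ((hΩ g).1 hg)
  obtain ⟨Q, q1, q2, q3, q4, -⟩ := X.pau.cen_step (Subgroup.mem_sup_left hd)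
  obtain ⟨a, a1, b, b1, a2, b2, a3, b3, an⟩ := (X.ort.of_le q2 q1).exists_pair h (by omega)
  exact lk d hd dd a (X.real h (q1 a1) a2) b (X.real h (q1 b1) b2) a3 b3 an (q4 a a1).symm
    (q4 b b1).symm (fun c hc cc' c1 c0 c2 => k2 d hd c hc d0 c0 c2 c1 cc') v hv

end sp

/-- Item (10) of S5822. -/
theorem sp8_extraspecial {F : Type*} [Field F] [Fintype F] :
    ∀ (p : ℕ) (R : Subgroup (Matrix.GeneralLinearGroup (Fin 4 ⊕ Fin 4) F)), p.Prime → Odd p → Fintype.card F = p → Cfsg.Geo.IsSymplecticTypeGroup 2 R → Cfsg.Geo.ActsAbsolutelyIrreducibly (Cfsg.Geo.matrixSet R) → R ≤ Cfsg.spGL 4 F → Nat.card R = 128 → Nat.card (Subgroup.center R) = 2 → Cfsg.Geo.IsOfMinusType 3 R → Cfsg.Geo.IsMaximalIn (Cfsg.spGL 4 F) (Cfsg.Geo.subgroupNormalizer R ⊓ Cfsg.spGL 4 F) := by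
  intro p R hp hpo hF hR hirr hRD _ hZ hm
  obtain ⟨h1, h3, h4, -⟩ := H25.sympType_struct hR hirr (Or.inr (Or.inr ⟨rfl, hZ⟩))
  have h2 := H60.L3.two_ne_zero_of_odd (hF ▸ hpo)
  obtain ⟨J, hJ⟩ := exists_gram (H62.spForm_nondeg (m := 4) (F := F))
  obtain ⟨h, X, -⟩ := ex_mat (J := J) (by simp) h2 h1 h3 h4 fun g hg => by
    simpa only [mem_adjJ, hJ, H62.toLE_apply] using (H62.mem_spGL_iff g).1 (hRD hg)
  exact max_sp (hF ▸ hp) h2 (by simp) (miR_of h X.neg hm) H62.spForm_nondeg H62.spForm_alt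
    H62.mem_spGL_iff h1 h3 h4 hRD

end H73.Sp8
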