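import Cfsg.Agent.H67.SWDef

/-! STD-SP (row S3129), wreath endgame, slot `NK`. -/

set_option autoImplicit false
set_option linter.unusedSectionVars false

namespace H73.SwNK

open H64.SG (Cz Cs Ns cjs Is2 Inv2 UF mem_Cs mem_Cz)
open H67.SA (St cI cm mem_cjs conj_mem_cjs cm_eq_one)
open H59.SO hiding GW
open H86.WR (GW EE cj_comm odd_nor fix_both)
open H67.SW (WG N2 NK NO TO JobNK)
open Subgroup Function H98

universe u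

section Tv

variable {G : Type u} [Group G] {A B A' B' : Subgroup G} {g s : G}

/-- The elements that normalise `B` and act trivially on `A` modulo `B`. -/
def Tv (A B : Subgroup G) : Subgroup G where
  carrier := {s | s ∈ Ns B ∧ ∀ x ∈ A, cm s x ∈ B}
  one_mem' := ⟨one_mem _, fun x _ => by simp [cm]⟩
  mul_mem' := fun {s s'} h h' => ⟨mul_mem h.1 h'.1, fun x hx => by
    have := mul_mem (conj_mem_of_mem_normalizer h.1 (h'.2 x hx)) (h.2 x hx)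
    rwa [show s * cm s' x * s⁻¹ * cm s x = cm (s * s') x by unfold cm; group] at this⟩
  inv_mem' := fun {s} h => ⟨inv_mem h.1, fun x hx => by
    have := conj_mem_of_mem_normalizer (inv_mem h.1) (inv_mem (h.2 x hx))
    rwa [show s⁻¹ * (cm s x)⁻¹ * s⁻¹⁻¹ = cm s⁻¹ x by unfold cm; group] at this⟩

theorem ns_cj (h : cjs g B = B') (hs : s ∈ Ns B) : g * s * g⁻¹ ∈ Ns B' := by
  rw [← h, ← H64.SG.cj_Ns]; exact conj_mem_cj hs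

theorem cs_cj (h : cjs g B = B') (hs : s ∈ Cs B) : g * s * g⁻¹ ∈ Cs B' := by
  rw [← h, ← H64.SG.cj_Cs]; exact conj_mem_cj hs

theorem tv_cj (h : cjs g A = A') (h' : cjs g B = B') (hs : s ∈ Tv A B) :
    g * s * g⁻¹ ∈ Tv A' B' := by
  refine ⟨ns_cj h' hs.1, fun x hx => ?_⟩
  rw [← h, mem_cjs] at hx
  have := (conj_mem_cjs (g := g)).2 (hs.2 _ hx)
  rwa [h', show g * cm s (g⁻¹ * x * g) * g⁻¹ = cm (g * s * g⁻¹) x by unfold cm; group] at this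

end Tv

variable {X : Type} [Group X] [Finite X] {U D A : Subgroup X} {G : Type u} [Group G]
  [Finite G] {e e₁ e₂ : X →* G} {t n g : G}

theorem u_cs {a : X} (ha : a ∈ U) : a ∈ Cs (U ⊓ Cs U) := fun y hy => (hy.2 a ha).symm

theorem z_ns {h : X} (hh : h ∈ Ns U) : h ∈ Ns (U ⊓ Cs U) := mem_normalizer_of_cj_le (by
  rintro _ ⟨y, hy, rfl⟩
  exact ⟨conj_mem_of_mem_normalizer hh hy.1,
    conj_mem_of_mem_normalizer (normalizer_le_normalizer_centralizer _ hh) hy.2⟩)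

theorem tv_of (c : CW e t e₁ e₂) (h1 : g ∈ Cs (U.map e₁)) (h2 : g ∈ Ns ((U ⊓ Cs U).map e₂)) :
    g ∈ Tv (EE U e₁ e₂) ((U ⊓ Cs U).map e₂) := by
  refine ⟨h2, fun x hx => ?_⟩
  obtain ⟨a, ha, b, hb, rfl⟩ := c.mem_sup.1 hx
  have k : cm g (e₂ b) ∈ (U ⊓ Cs U).map e₂ :=
    mul_mem (conj_mem_of_mem_normalizer h2 ⟨b, hb, rfl⟩) (inv_mem ⟨b, hb, rfl⟩)
  have k2 := conj_mem_of_mem_normalizer
    (H64.SG.Cs_le_Ns _ (Cs_range_le (U ⊓ Cs U) (c.le_Cs' ⟨a, rfl⟩))) k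
  rwa [show e₁ a * cm g (e₂ b) * (e₁ a)⁻¹ = cm g (e₁ a * e₂ b) by
    unfold cm
    rw [← mul_assoc g, ← h1 _ ⟨a, ha, rfl⟩]; group] at k2

theorem n2 (c : CW e t e₁ e₂) (h : N2 U e₁ e₂)
    (h1 : ∀ u ∈ U, cm g (e₁ u) ∈ (U ⊓ Cs U).map e₂) (h2 : ∀ u ∈ U, cm g (e₂ u) ∈ (U ⊓ Cs U).map e₁)
    (h3 : g ∈ Cs ((U ⊓ Cs U).map e₁)) (h4 : g ∈ Cs ((U ⊓ Cs U).map e₂)) :
    g ∈ Ns (G12 e₁ e₂) ∧ (Odd (orderOf g) → g ∈ Cs (two e₁ e₂ U)) := by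
  refine h g (fun x hx => ?_) ((centralizer_sup _ _).ge ⟨h3, h4⟩)
  obtain ⟨a, ha, b, hb, rfl⟩ := c.mem_two.1 hx
  have k := conj_mem_of_mem_normalizer (H64.SG.Cs_le_Ns _ (map_mem_Cs (e := e₁) (u_cs ha))) (h2 b hb)
  rw [show cm g (e₁ a * e₂ b) = cm g (e₁ a) * (e₁ a * cm g (e₂ b) * (e₁ a)⁻¹) by unfold cm; group]
  exact mul_mem (mem_sup_right (h1 a ha)) (mem_sup_left k)

theorem n2' (c : CW e t e₁ e₂) (h : N2 U e₁ e₂) (h1 : g ∈ Tv (EE U e₁ e₂) ((U ⊓ Cs U).map e₂))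
    (h2 : g ∈ Tv (EE U e₂ e₁) ((U ⊓ Cs U).map e₁))
    (h3 : g ∈ Cs ((U ⊓ Cs U).map e₁)) (h4 : g ∈ Cs ((U ⊓ Cs U).map e₂)) : g ∈ Ns (G12 e₁ e₂) :=
  (n2 c h (fun u hu => h1.2 _ (mem_sup_left ⟨u, hu, rfl⟩))
    (fun u hu => h2.2 _ (mem_sup_left ⟨u, hu, rfl⟩)) h3 h4).1

theorem n2_symm (h : N2 U e₁ e₂) : N2 U e₂ e₁ := by
  unfold N2 at h ⊢
  rwa [two_comm U, two_comm (U ⊓ Cs U), G12_comm]

/-- The action of `n` on `U₁`. -/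
structure Ac (U : Subgroup X) (e₁ e₂ : X →* G) (n : G) (θ ζ : X → X) : Prop where
  aut : AutOn U θ
  z : ∀ u ∈ U, ζ u ∈ U ⊓ Cs U
  u : ∀ u ∈ U, n * e₁ u * n⁻¹ = e₁ (θ u) * e₂ (ζ u)
  c : ∀ y ∈ U ⊓ Cs U, n * e₁ y * n⁻¹ = e₁ (θ y)

theorem aut_z {θ : X → X} (a : AutOn U θ) {y : X} (hy : y ∈ U) : θ y ∈ Cs U ↔ y ∈ Cs U := by
  refine ⟨fun h u hu => a.bij.injOn (mul_mem hu hy) (mul_mem hy hu) ?_, fun h u hu => ?_⟩
  · rw [a.mul u hu y hy, a.mul y hy u hu, h _ (a.bij.mapsTo hu)]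
  · obtain ⟨u, hu', rfl⟩ := a.bij.surjOn hu
    rw [← a.mul u hu' y hy, ← a.mul y hy u hu', h u hu']

theorem ex_ac (w : WG U D A) (c : CW e t e₁ e₂) (hn : n ∈ Ns (two e₁ e₂ U))
    (h : cjs n (U.map e₁) ≤ EE U e₁ e₂) : ∃ θ ζ, Ac U e₁ e₂ n θ ζ := by
  classical
  have h1 : ∀ u ∈ U, ∃ a ∈ U, ∃ z ∈ U ⊓ Cs U, n * e₁ u * n⁻¹ = e₁ a * e₂ z := fun u hu =>
    c.mem_sup.1 (h (conj_mem_cjs.2 ⟨u, hu, rfl⟩))
  choose! θ h2 ζ h3 h4 using h1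
  have h5 : ∀ u ∈ ⁅U, U⁆, n * e₁ u * n⁻¹ = e₁ (θ u) := fun u hu => by
    obtain ⟨a, -, ha⟩ := cj_comm c h (conj_mem_cjs.2 ⟨u, hu, rfl⟩)
    rw [← (c.inj2 w.ns (a := a) (b := 1) (c := θ u) (d := ζ u) (by
      rw [map_one, mul_one, ha, ← h4 u (commutator_le_self _ hu)])).1, ha]
  have h6 : Set.InjOn θ U := fun u hu v hv h6 => by
    have k0 := mul_mem (inv_mem hu) hv
    have k1 : n * e₁ (u⁻¹ * v) * n⁻¹ = e₂ ((ζ u)⁻¹ * ζ v) := by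
      rw [map_mul, map_inv, ← conj_mul, ← conj_inv, h4 u hu, h4 v hv, h6, map_mul, map_inv]; group
    have k2 : u⁻¹ * v ∈ Cs U := fun a ha => (e_comm_iff c.inj).1 (by
      obtain ⟨b, -, d, hd, k3⟩ := c.mem_two.1 (conj_mem_of_mem_normalizer hn (mem_sup_left ⟨a, ha, rfl⟩))
      have : n * e₁ a * n⁻¹ * (n * e₁ (u⁻¹ * v) * n⁻¹) = n * e₁ (u⁻¹ * v) * n⁻¹ * (n * e₁ a * n⁻¹) := by
        rw [k1, k3, mul_assoc, ← map_mul, (mul_mem (inv_mem (h3 u hu)) (h3 v hv)).2 d hd, map_mul,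
          ← mul_assoc, c.comm, mul_assoc]
      rwa [conj_mul, conj_mul, mul_left_inj, mul_right_inj] at this)
    have k3 := h5 _ (w.zd ⟨k0, k2⟩)
    have k4 := c.eq_one w.ns ⟨_, k3.symm⟩ ⟨_, k1.symm⟩
    exact inv_mul_eq_one.1 ((map_eq_one_iff _ c.inj).1 (conj_eq_one_iff.1 k4))
  exact ⟨θ, ζ, ⟨((Set.toFinite _).injOn_iff_bijOn_of_mapsTo h2).1 h6, fun a ha b hb =>
    (c.inj2 w.ns (b := ζ (a * b)) (d := ζ a * ζ b) (by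
      rw [← h4 _ (mul_mem ha hb), ← c.mul_mul, ← h4 a ha, ← h4 b hb, conj_mul, map_mul])).1⟩,
    h3, h4, fun y hy => h5 y (w.zd hy)⟩

variable {θ ζ θ' ζ' : X → X}

theorem Ac.nz (a : Ac U e₁ e₂ n θ ζ) : n ∈ Ns ((U ⊓ Cs U).map e₁) := mem_normalizer_of_cj_le (by
  rintro _ ⟨_, ⟨y, hy, rfl⟩, rfl⟩
  exact ⟨θ y, ⟨a.aut.bij.mapsTo hy.1, (aut_z a.aut hy.1).2 hy.2⟩, (a.c y hy).symm⟩)

theorem Ac.ne (h : cjs n (U.map e₁) ≤ EE U e₁ e₂) (a' : Ac U e₂ e₁ n θ' ζ') :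
    n ∈ Ns (EE U e₁ e₂) :=
  mem_normalizer_of_cj_le ((cj_sup _ _ _).le.trans
    (sup_le h ((cj_eq_self a'.nz).le.trans le_sup_right)))

theorem Ac.id (w : WG U D A) (c : CW e t e₁ e₂) (no : NO U) (ho : Odd (orderOf n))
    (a : Ac U e₁ e₂ n θ ζ) (a' : Ac U e₂ e₁ n θ' ζ') : ∀ u ∈ U, θ u = u := by
  have key : ∀ j : ℕ, ∀ u ∈ U, θ^[j] u ∈ U ∧ ∃ y ∈ U ⊓ Cs U,
      n ^ j * e₁ u * (n ^ j)⁻¹ = e₁ (θ^[j] u) * e₂ y := fun j u hu => by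
    induction j with
    | zero => exact ⟨hu, 1, one_mem _, by simp⟩
    | succ j ih =>
      obtain ⟨h1, y, hy, h2⟩ := ih
      rw [iterate_succ_apply']
      refine ⟨a.aut.bij.mapsTo h1, ζ (θ^[j] u) * θ' y, mul_mem (a.z _ h1)
        ⟨a'.aut.bij.mapsTo hy.1, (aut_z a'.aut hy.1).2 hy.2⟩, ?_⟩
      rw [map_mul, ← mul_assoc, ← a.u _ h1, ← a'.c y hy, conj_mul, ← h2, pow_succ']
      group
  refine no θ _ a.aut ho fun u hu => ?_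
  obtain ⟨-, y, -, h⟩ := key (orderOf n) u hu
  rw [pow_orderOf_eq_one, one_mul, inv_one, mul_one] at h
  exact (c.inj2 w.ns (a := u) (b := 1) (c := θ^[orderOf n] u) (d := y)
    (by rw [map_one, mul_one]; exact h)).1.symm

theorem Ac.cm (a : Ac U e₁ e₂ n θ ζ) (c : CW e t e₁ e₂) (h : ∀ u ∈ U, θ u = u) :
    (∀ u ∈ U, cm n (e₁ u) ∈ (U ⊓ Cs U).map e₂) ∧ n ∈ Cs ((U ⊓ Cs U).map e₁) := by
  refine ⟨fun u hu => ⟨ζ u, a.z u hu, ?_⟩, mem_Cs_map.2 fun y hy => ?_⟩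
  · unfold H67.SA.cm
    rw [a.u u hu, h u hu, c.comm, mul_inv_cancel_right]
  · have := a.c y hy
    rw [h y hy.1, mul_inv_eq_iff_eq_mul] at this
    exact this.symm

theorem half (w : WG U D A) (c : CW e t e₁ e₂) (gw : GW D A e t e₁ e₂) (hN : N2 U e₁ e₂) (tor : TO U)
    (h1 : cjs n (U.map e₁) ≤ EE U e₁ e₂) (h2 : cjs n (U.map e₂) ≤ EE U e₂ e₁)
    (a : Ac U e₁ e₂ n θ ζ) (a' : Ac U e₂ e₁ n θ' ζ') : n ∈ Ns (U.map e₂) := by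
  have tt := gw.uf.inv.1
  have t1 : t⁻¹ = t := inv_eq_of_mul_eq_one_right tt
  have c' := c.symm tt
  suffices hz : ∀ u ∈ U, ζ' u = 1 by
    refine mem_normalizer_of_cj_le ?_
    rintro _ ⟨_, ⟨u, hu, rfl⟩, rfl⟩
    refine ⟨θ' u, a'.aut.bij.mapsTo hu, ?_⟩
    have := a'.u u hu
    rw [hz u hu, map_one, mul_one] at this
    exact this.symm
  intro u0 hu0
  by_contra w1
  obtain ⟨z, z1, z2⟩ := a.aut.bij.surjOn (a'.z u0 hu0).1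
  have z3 : z ∈ U ⊓ Cs U := ⟨z1, (aut_z a.aut z1).1 (z2 ▸ (a'.z u0 hu0).2)⟩
  have z4 : n * e₁ z * n⁻¹ = e₁ (ζ' u0) := z2 ▸ a.c z z3
  have z0 : z ≠ 1 := fun k => w1 ((map_eq_one_iff _ c.inj).1 (by rw [← z4, k]; simp))
  obtain ⟨h, hh, ho, hz, hβ⟩ := tor z z3 z0
  have cs2 : ∀ x, ∀ B : Subgroup X, e₁ x ∈ Cs (B.map e₂) := fun x B =>
    Cs_range_le B (c.le_Cs' ⟨x, rfl⟩)
  -- the element `r`
  have r0 : Odd (orderOf (n * e₁ h * n⁻¹)) := by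
    have := orderOf_injective _ (inj_cje c.inj n) h
    rw [cje_apply] at this
    rwa [this]
  have r1 : n * e₁ h * n⁻¹ ∈ Ns (EE U e₁ e₂) :=
    ns_cj (cj_eq_self (Ac.ne h1 a')) (mem_normalizer_of_cj_le ((cj_sup _ _ _).le.trans
      (sup_le_sup (cj_eq_self (map_mem_Ns hh)).le (cj_eq_self (H64.SG.Cs_le_Ns _ (cs2 h _))).le)))
  have r2 : n * e₁ h * n⁻¹ ∈ Cs ((U ⊓ Cs U).map e₂) := cs_cj (cj_eq_self a'.nz) (cs2 h _)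
  have r3 : n * e₁ h * n⁻¹ ∈ Tv (EE U e₂ e₁) ((U ⊓ Cs U).map e₁) :=
    tv_cj (cj_eq_self (Ac.ne h2 a)) (cj_eq_self a.nz) (tv_of c' (cs2 h _) (map_mem_Ns (z_ns hh)))
  have r4 : ∀ y ∈ U ⊓ Cs U, n * e₁ h * n⁻¹ * e₁ (θ y) * (n * e₁ h * n⁻¹)⁻¹ =
      n * e₁ (h * y * h⁻¹) * n⁻¹ := fun y hy => by
    rw [← a.c y hy, map_mul, map_mul, map_inv]; group
  have r5 : n * e₁ h * n⁻¹ * (e₁ (ζ' u0) * e₂ (θ' u0)) * (n * e₁ h * n⁻¹)⁻¹ =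
      e₁ (ζ' u0) * e₂ (θ' u0) := by
    rw [c.comm, ← a'.u u0 hu0, conj_mul, c.comm, ← conj_mul, mul_inv_cancel_right]
  generalize n * e₁ h * n⁻¹ = r at r0 r1 r2 r3 r4 r5
  have e12 : cjs t (EE U e₁ e₂) = EE U e₂ e₁ :=
    (cj_sup _ _ _).trans (congrArg₂ _ (c.cjs_map _) (c'.cjs_map _))
  have e21 : cjs t (EE U e₂ e₁) = EE U e₁ e₂ :=
    (cj_sup _ _ _).trans (congrArg₂ _ (c'.cjs_map _) (c.cjs_map _))
  have s1 := ns_cj e12 r1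
  have s2 := cs_cj (c'.cjs_map _) r2
  have s3 := tv_cj e21 (c.cjs_map _) r3
  have k1 : r * (t * r * t⁻¹) ∈ Ns (G12 e₁ e₂) := gw.uf.uf _ (by
    have : r * (t * r * t⁻¹) * t * (r * (t * r * t⁻¹))⁻¹ = cm r (t * r * t⁻¹) * t := by
      simp only [H67.SA.cm, mul_inv_rev, t1, mul_assoc]
      rw [← mul_assoc t t, tt, one_mul, mul_one]
    rw [this]
    refine mul_mem ?_ gw.uf.mem
    generalize t * r * t⁻¹ = s at s1 s2 s3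
    have as : cm r s = r * (s * r⁻¹ * s⁻¹) := by unfold H67.SA.cm; group
    refine n2' c hN ?_ ?_ ?_ ?_
    · exact mul_mem (tv_cj (cj_eq_self r1) (cj_eq_self (H64.SG.Cs_le_Ns _ r2)) s3) (inv_mem s3)
    · rw [as]
      exact mul_mem r3 (tv_cj (cj_eq_self s1) (cj_eq_self (H64.SG.Cs_le_Ns _ s2)) (inv_mem r3))
    · exact mul_mem (cs_cj (cj_eq_self r3.1) s2) (inv_mem s2)
    · rw [as]
      exact mul_mem r2 (cs_cj (cj_eq_self s3.1) (inv_mem r2)))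
  generalize t * r * t⁻¹ = s at s1 s2 s3 k1
  have k2 : r * s ∈ Ns ((U ⊓ Cs U).map e₁) := mul_mem r3.1 (H64.SG.Cs_le_Ns _ s2)
  have k3 : r * s ∈ Ns ((U ⊓ Cs U).map e₂) := mul_mem (H64.SG.Cs_le_Ns _ r2) s3.1
  obtain ⟨k4, -⟩ := (gw.pm _ k1).resolve_right fun k => z0 ((map_eq_one_iff _ c.inj).1
    (conj_eq_one_iff.1 (c.eq_one w.ns
      (map_le_range _ _ (conj_mem_of_mem_normalizer k2 ⟨z, z3, rfl⟩))
      (k.1 ▸ conj_mem_cjs.2 ⟨z, rfl⟩))))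
  obtain ⟨β, i⟩ := exists_ind c.inj k4
  obtain ⟨x, rfl⟩ := hβ θ a.aut β fun y hy k => c.inj (by
    have k5 : s * e₁ (θ y) * s⁻¹ = e₁ (θ y) := by
      rw [← s2 _ ⟨θ y, ⟨a.aut.bij.mapsTo hy.1, (aut_z a.aut hy.1).2 hy.2⟩, rfl⟩,
        mul_inv_cancel_right]
    rw [← i, show r * s * e₁ (θ y) * (r * s)⁻¹ = r * (s * e₁ (θ y) * s⁻¹) * r⁻¹ by group, k5,
      r4 y hy, k, mul_inv_cancel_right, a.c y hy])
  have k5 : (e₁ x)⁻¹ * (r * s) ∈ Cs e₁.range := ind_one_iff.1 (by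
    simpa using (ind_conj (e := e₁) x).inv.mul i)
  have k6 : (e₁ x)⁻¹ ∈ Ns ((U ⊓ Cs U).map e₁) := by
    have := mul_mem (H64.SG.Cs_le_Ns _ (Cs_range_le (U ⊓ Cs U) k5)) (inv_mem k2)
    rwa [mul_inv_cancel_right] at this
  have as : (e₁ x)⁻¹ * r = (e₁ x)⁻¹ * (r * s) * s⁻¹ := by group
  have k7 : (e₁ x)⁻¹ * r ∈ Ns (G12 e₁ e₂) := by
    refine n2' c hN ?_ (mul_mem (tv_of c' (inv_mem (cs2 x _)) k6) r3) ?_
      (mul_mem (inv_mem (cs2 x _)) r2)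
    · rw [as]
      exact mul_mem (tv_of c (Cs_range_le _ k5)
        (mul_mem (inv_mem (H64.SG.Cs_le_Ns _ (cs2 x _))) k3)) (inv_mem s3)
    · rw [as]
      exact mul_mem (Cs_range_le _ k5) (inv_mem s2)
  have k8 : r ∈ Ns (G12 e₁ e₂) :=
    (mul_mem_cancel_left (inv_mem (le_normalizer
      (show e₁ x ∈ G12 e₁ e₂ from mem_sup_left ⟨x, rfl⟩)))).1 k7
  obtain ⟨k9, k10⟩ := odd_nor gw.toW0 k8 r0
  have k11 := (fix_both w.ns c k9 k10 r5).1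
  rw [← z2, r4 z z3, ← a.c z z3, mul_left_inj, mul_right_inj] at k11
  exact hz (mul_inv_eq_iff_eq_mul.1 (c.inj k11))

theorem jobNK : JobNK.{u} := by
  intro X _ _ U D A w G _ _ e t b e₁ e₂ c gw hN n hn ho h1 h2
  have c' := c.symm b.inv.1
  obtain ⟨θ, ζ, a⟩ := ex_ac w c hn h1
  obtain ⟨θ', ζ', a'⟩ := ex_ac w c' (by rwa [two_comm]) h2
  rcases w.tor with no | tor
  · obtain ⟨k1, k2⟩ := a.cm c (Ac.id w c no ho a a')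
    obtain ⟨k3, k4⟩ := a'.cm c' (Ac.id w c' no ho a' a)
    have := (n2 c hN k1 k3 k2 k4).2 ho
    exact ⟨H64.SG.Cs_le_Ns _ (fun g hg => this g (mem_sup_left hg)),
      H64.SG.Cs_le_Ns _ (fun g hg => this g (mem_sup_right hg))⟩
  · exact ⟨half w c' (gw.symm c) (n2_symm hN) tor h2 h1 a' a, half w c gw hN tor h1 h2 a a'⟩

end H73.SwNK
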