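import Cfsg.Agent.H86.TP.Spec

/-! Tower TP, job F3. -/

set_option autoImplicit false

namespace H73.TpF3

open Cfsg Subgroup MulAction H14 H98 H1.Gold H31.S2 H14.GC H14.FE H14.NF H86.TP
open scoped commutatorElement

universe u

theorem comm_of_sq {G : Type u} [Group G] {T : Subgroup G} (h : ∀ a ∈ T, a * a = 1) {a b : G}
    (ha : a ∈ T) (hb : b ∈ T) : a * b = b * a := by
  have h1 := h a ha
  have h2 := h b hb
  have h3 := h (a * b) (mul_mem ha hb)
  calc a * b = (a * b)⁻¹ := (inv_eq_of_mul_eq_one_right h3).symm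
    _ = b⁻¹ * a⁻¹ := mul_inv_rev a b
    _ = b * a := by rw [inv_eq_of_mul_eq_one_right h1, inv_eq_of_mul_eq_one_right h2]

theorem sylF {G : Type u} [Group G] [Finite G] {Q Q' T R E : Subgroup G} (h : LP Q Q' T R E R)
    (sq : Sq E R) {r t : G} (hr : r ∈ E) (ht : t ∈ T) (t1 : t ≠ 1) :
    IsSyl 2 E (Q ⊓ centralizer ({r * t} : Set G)) := by
  haveI : Fact (Nat.Prime 2) := ⟨Nat.prime_two⟩
  have hER : E ≤ R := h.ltP.le
  have hET : ∀ e ∈ E, ∀ s ∈ T, s * e = e * s := fun e he s hs => by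
    have : e ∈ R ⊓ centralizer (T : Set G) := by rw [h.eq] at he; exact he
    exact this.2 s hs
  refine ⟨fun e he => ⟨h.sylR.le (hER he), ?_⟩, h.sylE.isPGroup, fun U hU h1 h2 => ?_⟩
  · show e ∈ centralizer ({r * t} : Set G)
    rw [mem_centralizer_singleton_iff]
    rw [← mul_assoc, comm_of_sq h.elE he hr, mul_assoc, ← hET e he t ht, mul_assoc]
  · obtain ⟨c, hc, hcU⟩ := h.sylR.exists_cj_le hU (h2.trans inf_le_left)
    have hcE : cj c E ≤ E := by
      intro x hx
      have hxR : x ∈ R := hcU (cj_mono c h1 hx)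
      by_contra hn
      apply sq x hxR hn
      have := h.elE _ (mem_cj.mp hx)
      calc x * x = c * ((c⁻¹ * x * c) * (c⁻¹ * x * c)) * c⁻¹ := by group
        _ = 1 := by rw [this]; group
    refine (h.sylC t ht t1).eq_of_le hU h1 fun x hx => ⟨(h2 hx).1, ?_⟩
    show x ∈ centralizer ({t} : Set G)
    rw [mem_centralizer_singleton_iff]
    have e1 : x * (r * t) = r * t * x := mem_centralizer_singleton_iff.mp (h2 hx).2
    have e2 : (c * r * c⁻¹) * (c * x * c⁻¹) = (c * x * c⁻¹) * (c * r * c⁻¹) :=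
      h.cenE (hcU (conj_mem_cj hx)) _ (hcE (conj_mem_cj hr))
    have e3 : r * x = x * r := by
      calc r * x = c⁻¹ * ((c * r * c⁻¹) * (c * x * c⁻¹)) * c := by group
        _ = c⁻¹ * ((c * x * c⁻¹) * (c * r * c⁻¹)) * c := by rw [e2]
        _ = x * r := by group
    calc x * t = r⁻¹ * (r * x) * t := by group
      _ = r⁻¹ * (x * (r * t)) := by rw [e3]; group
      _ = t * x := by rw [e1]; group

theorem jF3 : H86.TP.JobF3.{u} := by
  intro a3 f2 G _ _ Q Q' T R E h f hf g hg hm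
  haveI : Fact (Nat.Prime 2) := ⟨Nat.prime_two⟩
  have sq : Sq E R := a3 G Q Q' T R E R h
  have hER : E ≤ R := h.ltP.le
  have hEQ : E ≤ Q := hER.trans h.sylR.le
  have hET : ∀ e ∈ E, ∀ s ∈ T, s * e = e * s := fun e he s hs => by
    have : e ∈ R ⊓ centralizer (T : Set G) := by rw [h.eq] at he; exact he
    exact this.2 s hs
  have hTQ : T ≤ normalizer (Q : Set G) := h.syl.le.trans inf_le_right
  obtain ⟨g0, hg0, s, hs, rfl⟩ := (mem_sup_right_norm hTQ).mp hg
  obtain ⟨r, hr, t, ht, rfl⟩ := (h.memF f).mp hf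
  have e0 : g0 * s * (r * t) * (g0 * s)⁻¹ = g0 * (r * t) * g0⁻¹ := by
    calc g0 * s * (r * t) * (g0 * s)⁻¹ = g0 * ((s * r) * t * s⁻¹) * g0⁻¹ := by group
      _ = g0 * (r * (s * t) * s⁻¹) * g0⁻¹ := by rw [hET r hr s hs]; group
      _ = g0 * (r * t) * g0⁻¹ := by rw [comm_of_sq h.el hs ht]; group
  rw [e0] at hm ⊢
  obtain ⟨y, hy, s', hs', e1⟩ := (h.memRT _).mp hm
  by_cases t1 : t = 1
  · subst t1
    rw [mul_one] at e1 ⊢
    have hQ : g0 * r * g0⁻¹ ∈ Q := mul_mem (mul_mem hg0 (hEQ hr)) (inv_mem hg0)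
    have hs1 : s' = 1 := by
      apply h.dis s' hs'
      have : s' = y⁻¹ * (g0 * r * g0⁻¹) := by rw [e1]; group
      rw [this]
      exact mul_mem (inv_mem (h.sylR.le hy)) hQ
    rw [hs1, mul_one] at e1
    have hyE : y ∈ E := by
      by_contra hn
      apply sq y hy hn
      rw [← e1]
      calc g0 * r * g0⁻¹ * (g0 * r * g0⁻¹) = g0 * (r * r) * g0⁻¹ := by group
        _ = 1 := by rw [h.elE r hr]; group
    rw [e1]
    exact mem_sup_left hyE
  · have s1 := (sylF h sq hr ht t1).cj g0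
    have ec : cj g0 (Q ⊓ centralizer ({r * t} : Set G)) =
        Q ⊓ centralizer ({g0 * (r * t) * g0⁻¹} : Set G) := by
      ext x
      rw [mem_cj]
      constructor
      · rintro ⟨a, b⟩
        refine ⟨?_, ?_⟩
        · have : x = g0 * (g0⁻¹ * x * g0) * g0⁻¹ := by group
          rw [this]
          exact Q.mul_mem (Q.mul_mem hg0 a) (Q.inv_mem hg0)
        · show x ∈ centralizer ({g0 * (r * t) * g0⁻¹} : Set G)
          rw [mem_centralizer_singleton_iff]
          have b' : g0⁻¹ * x * g0 * (r * t) = r * t * (g0⁻¹ * x * g0) :=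
            mem_centralizer_singleton_iff.mp b
          calc x * (g0 * (r * t) * g0⁻¹) = g0 * (g0⁻¹ * x * g0 * (r * t)) * g0⁻¹ := by group
            _ = g0 * (r * t) * g0⁻¹ * x := by rw [b']; group
      · rintro ⟨a, b⟩
        refine ⟨Q.mul_mem (Q.mul_mem (Q.inv_mem hg0) a) hg0, ?_⟩
        show g0⁻¹ * x * g0 ∈ centralizer ({r * t} : Set G)
        rw [mem_centralizer_singleton_iff]
        have b' : x * (g0 * (r * t) * g0⁻¹) = g0 * (r * t) * g0⁻¹ * x :=
          mem_centralizer_singleton_iff.mp b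
        calc g0⁻¹ * x * g0 * (r * t) = g0⁻¹ * (x * (g0 * (r * t) * g0⁻¹)) * g0 := by group
          _ = r * t * (g0⁻¹ * x * g0) := by rw [b']; group
    rw [ec] at s1
    have hle : E ≤ Q ⊓ centralizer ({g0 * (r * t) * g0⁻¹} : Set G) := by
      intro e he
      refine ⟨hEQ he, ?_⟩
      show e ∈ centralizer ({g0 * (r * t) * g0⁻¹} : Set G)
      rw [mem_centralizer_singleton_iff, e1]
      have a : e * y = y * e := h.cenE hy e he
      rw [← mul_assoc, a, mul_assoc, ← hET e he s' hs', mul_assoc]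
    have s2 := s1.of_card_ge h.sylE.isPGroup hle (by rw [card_cj])
    obtain ⟨c, hc, e2⟩ := s1.exists_cj_eq s2
    rw [cj_cj, cj_eq_self_iff] at e2
    have e3 : c * g0 * (r * t) * (c * g0)⁻¹ = g0 * (r * t) * g0⁻¹ := by
      have b' : c * (g0 * (r * t) * g0⁻¹) = g0 * (r * t) * g0⁻¹ * c :=
        mem_centralizer_singleton_iff.mp hc.2
      calc c * g0 * (r * t) * (c * g0)⁻¹ = c * (g0 * (r * t) * g0⁻¹) * c⁻¹ := by group
        _ = g0 * (r * t) * g0⁻¹ := by rw [b']; group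
    have := f2 G Q Q' T R E h (r * t) hf (c * g0) ⟨mul_mem hc.1 hg0, e2⟩ (by rw [e3]; exact hm)
    rwa [e3] at this

end H73.TpF3
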